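import Mathlib.RingTheory.Flat.FaithfullyFlat.Basic
import Mathlib.RingTheory.Flat.FaithfullyFlat.Algebra
import Mathlib.AlgebraicGeometry.Morphisms.Flat

set_option autoImplicit false
universe u

open TensorProduct

namespace Groth.Agent.H40

/-- if `C` is faithfully flat over `B` and flat over `A`, then `B` is flat over `A`. -/
lemma flat_of_faithfullyFlat_of_flat (A B C : Type u) [CommRing A] [CommRing B] [CommRing C]
    [Algebra A B] [Algebra B C] [Algebra A C] [IsScalarTower A B C] [Module.FaithfullyFlat B C]
    [Module.Flat A C] : Module.Flat A B := by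
  rw [Module.Flat.iff_lTensor_preserves_injective_linearMap]
  intro N P _ _ _ _ f hf
  have h0 : Function.Injective (f.lTensor C) :=
    Module.Flat.lTensor_preserves_injective_linearMap f hf
  have h1 : Function.Injective ((f.baseChange B).lTensor C) := by
    have key : ∀ x, (AlgebraTensorModule.cancelBaseChange A B C C P)
        (((f.baseChange B).lTensor C) x) =
        (f.lTensor C) ((AlgebraTensorModule.cancelBaseChange A B C C N) x) := by
      intro x
      induction x using TensorProduct.induction_on with
      | zero => simp
      | add x y hx hy => simp only [map_add, hx, hy]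
      | tmul c y =>
        induction y using TensorProduct.induction_on with
        | zero => simp
        | add x y hx hy => simp only [tmul_add, map_add, hx, hy]
        | tmul b n => simp
    intro x y hxy
    apply (AlgebraTensorModule.cancelBaseChange A B C C N).injective
    apply h0
    rw [← key, ← key, hxy]
  have h2 := (Module.FaithfullyFlat.lTensor_injective_iff_injective B C (f.baseChange B)).mp h1
  exact h2


/-- ring-hom version. -/
lemma ringHom_flat_of_comp {A B C : Type u} [CommRing A] [CommRing B] [CommRing C]
    (φ : A →+* B) (ψ : B →+* C) [IsLocalRing B] [IsLocalRing C] [IsLocalHom ψ]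
    (hψ : ψ.Flat) (hc : (ψ.comp φ).Flat) : φ.Flat := by
  let _ := φ.toAlgebra
  let _ := ψ.toAlgebra
  let _ := (ψ.comp φ).toAlgebra
  have : IsScalarTower A B C := IsScalarTower.of_algebraMap_eq' rfl
  have : Module.Flat B C := hψ
  have : Module.Flat A C := hc
  have : IsLocalHom (algebraMap B C) := ‹IsLocalHom ψ›
  have : Module.FaithfullyFlat B C := Module.FaithfullyFlat.of_flat_of_isLocalHom
  exact flat_of_faithfullyFlat_of_flat A B C

open AlgebraicGeometry CategoryTheory in
/-- flatness descends along flat surjective precomposition. -/
lemma flat_of_flat_comp {X Y Z : Scheme.{u}} (f : X ⟶ Y) (g : Y ⟶ Z) [Flat f] [Surjective f]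
    [Flat (f ≫ g)] : Flat g := by
  rw [Flat.iff_flat_stalkMap]
  intro y
  obtain ⟨x, rfl⟩ := f.surjective y
  have h1 : ((f ≫ g).stalkMap x).hom.Flat := Flat.stalkMap (f ≫ g) x
  have h2 : (f.stalkMap x).hom.Flat := Flat.stalkMap f x
  rw [Scheme.Hom.stalkMap_comp] at h1
  have : IsLocalHom (f.stalkMap x).hom := f.toLRSHom.prop x
  exact ringHom_flat_of_comp (g.stalkMap (f x)).hom (f.stalkMap x).hom h2 h1

end Groth.Agent.H40
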