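import Mathlib.FieldTheory.Finite.Basic
import Mathlib.Algebra.CharP.Lemmas
import Mathlib.RingTheory.Polynomial.Basic

/-!
# Algebra for the Artin–Schreier sequence
-/

set_option autoImplicit false
universe u

open Polynomial

namespace Groth.Agent.H40

section

variable (p : ℕ) [Fact p.Prime]

theorem prod_X_sub_C_zmod : ∏ m : ZMod p, (X - C m) = (X ^ p - X : (ZMod p)[X]) := by
  have hroots := FiniteField.roots_X_pow_card_sub_X (ZMod p)
  rw [ZMod.card] at hroots
  have hdeg := FiniteField.X_pow_card_sub_X_natDegree_eq (ZMod p) (Fact.out : p.Prime).one_lt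
  have hmonic : (X ^ p - X : (ZMod p)[X]).Monic := by
    apply monic_X_pow_sub
    rw [degree_X]
    exact_mod_cast (Fact.out : p.Prime).one_lt
  have := Polynomial.prod_multiset_X_sub_C_of_monic_of_roots_card_eq hmonic
    (by rw [hroots, hdeg]; simp)
  rw [hroots] at this
  simpa using this

variable {R : Type u} [CommRing R]

theorem exists_ringHom_zmod (h : (p : R) = 0) : Nonempty (ZMod p →+* R) := by
  rcases subsingleton_or_nontrivial R with hR | hR
  · exact ⟨⟨⟨⟨fun _ => 0, Subsingleton.elim _ _⟩, fun _ _ => Subsingleton.elim _ _⟩,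
      Subsingleton.elim _ _, fun _ _ => Subsingleton.elim _ _⟩⟩
  · haveI : CharP R p := (CharP.charP_iff_prime_eq_zero (Fact.out : p.Prime)).mpr h
    exact ⟨ZMod.castHom dvd_rfl R⟩

theorem add_pow_of_natCast_eq_zero (h : (p : R) = 0) (a b : R) : (a + b) ^ p = a ^ p + b ^ p := by
  rcases subsingleton_or_nontrivial R with hR | hR
  · exact Subsingleton.elim _ _
  · haveI : CharP R p := (CharP.charP_iff_prime_eq_zero (Fact.out : p.Prime)).mpr h
    exact add_pow_char a b p

theorem sub_pow_of_natCast_eq_zero (h : (p : R) = 0) (a b : R) : (a - b) ^ p = a ^ p - b ^ p := by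
  rcases subsingleton_or_nontrivial R with hR | hR
  · exact Subsingleton.elim _ _
  · haveI : CharP R p := (CharP.charP_iff_prime_eq_zero (Fact.out : p.Prime)).mpr h
    exact sub_pow_char a b

variable {p}

theorem prod_sub_zmod (φ : ZMod p →+* R) (t : R) : ∏ m : ZMod p, (t - φ m) = t ^ p - t := by
  have := congrArg (Polynomial.eval₂ φ t) (prod_X_sub_C_zmod p)
  rw [eval₂_finsetProd] at this
  simpa using this

theorem isUnit_sub_zmod (φ : ZMod p →+* R) {m m' : ZMod p} (h : m ≠ m') :
    IsUnit (φ m - φ m') := by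
  rw [← map_sub]
  exact (IsUnit.mk0 _ (sub_ne_zero.mpr h)).map φ

theorem pow_p_zmod (φ : ZMod p →+* R) (m : ZMod p) : φ m ^ p = φ m := by
  rw [← map_pow, ZMod.pow_card]

theorem natCast_eq_zero_of_ringHom (φ : ZMod p →+* R) : (p : R) = 0 := by
  rw [← map_natCast φ, ZMod.natCast_self, map_zero]

end

end Groth.Agent.H40
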