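import Groth.Agent.H40.Comod
import Mathlib.LinearAlgebra.FiniteDimensional.Lemmas

set_option autoImplicit false
universe u v w

open TensorProduct HopfRep

namespace Groth.Agent.H40

section

variable {k : Type u} [Field k] {A : Type v} [CommRing A] [Bialgebra k A]

theorem isSubcomod_bot {V : Type w} [AddCommGroup V] [Module k V] [Comod k A V] :
    IsSubcomod (k := k) (A := A) (⊥ : Submodule k V) := by
  intro w hw
  rw [Submodule.mem_bot] at hw
  subst hw
  simp

theorem isSubcomod_top {V : Type w} [AddCommGroup V] [Module k V] [Comod k A V] :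
    IsSubcomod (k := k) (A := A) (⊤ : Submodule k V) := by
  rw [isSubcomod_iff_slice]
  intro w _ ψ
  trivial

theorem isSubcomod_fixedPts {V : Type w} [AddCommGroup V] [Module k V] [Comod k A V] :
    IsSubcomod (k := k) (A := A) (fixedPts k A V) := by
  intro w hw
  have hw' : Comod.coact (k := k) (A := A) w = w ⊗ₜ[k] (1 : A) := hw
  rw [hw']
  exact ⟨(⟨w, hw⟩ : fixedPts k A V) ⊗ₜ[k] (1 : A), by simp⟩

/-- The flag property of a comodule. -/
def HasFlag (V : Type w) [AddCommGroup V] [Module k V] [Comod k A V] : Prop :=
  ∃ (m : ℕ) (F : ℕ → Submodule k V), Monotone F ∧ F 0 = ⊥ ∧ F m = ⊤ ∧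
    (∀ i, HopfRep.IsSubcomod (k := k) (A := A) (F i)) ∧
    ∀ i, ∀ v ∈ F (i + 1),
      HopfRep.Comod.coact (k := k) (A := A) v - v ⊗ₜ[k] (1 : A) ∈
        LinearMap.range ((F i).subtype.rTensor A)

theorem hasFlag_of_isUnipotent (hU : IsUnipotent k A) :
    ∀ (n : ℕ) (V : Type v) [AddCommGroup V] [Module k V] [Comod k A V] [Module.Finite k V],
      Module.finrank k V = n → HasFlag (k := k) (A := A) V := by
  intro n
  induction n using Nat.strong_induction_on with
  | _ n ih =>
    intro V _ _ _ _ hn
    rcases subsingleton_or_nontrivial V with hss | hnt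
    · refine ⟨0, fun _ => ⊥, monotone_const, rfl, Subsingleton.elim _ _, fun _ => isSubcomod_bot, ?_⟩
      intro i v hv
      rw [Submodule.mem_bot] at hv
      subst hv
      simp
    · have hW : fixedPts k A V ≠ ⊥ := hU V inferInstance hnt
      have hsub : IsSubcomod (k := k) (A := A) (fixedPts k A V) := isSubcomod_fixedPts
      set W := fixedPts k A V with hWdef
      letI : Comod k A (V ⧸ W) := quotComod W hsub
      have hlt : Module.finrank k (V ⧸ W) < n := by
        have h1 := Submodule.finrank_quotient_add_finrank W
        have h2 : 0 < Module.finrank k W := by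
          rw [Module.finrank_pos_iff]
          exact Submodule.nontrivial_iff_ne_bot.2 hW
        omega
      obtain ⟨m', F', hmono, h0, hm, hsubF, hgr⟩ := ih _ hlt (V ⧸ W) rfl
      have hπ : Hoch.IsComodHom A W.mkQ := isComodHom_mkQ W hsub
      refine ⟨m' + 1, fun i => Nat.casesOn i ⊥ (fun j => (F' j).comap W.mkQ), ?_, rfl, ?_, ?_, ?_⟩
      · apply monotone_nat_of_le_succ
        intro i
        cases i with
        | zero => exact bot_le
        | succ j => exact Submodule.comap_mono (hmono (Nat.le_succ j))
      · change (F' m').comap W.mkQ = ⊤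
        rw [hm, Submodule.comap_top]
      · intro i
        cases i with
        | zero => exact isSubcomod_bot
        | succ j => exact isSubcomod_comap hπ (hsubF j)
      · intro i v hv
        cases i with
        | zero =>
          change v ∈ (F' 0).comap W.mkQ at hv
          rw [h0, Submodule.mem_comap, Submodule.mem_bot, Submodule.mkQ_apply,
            Submodule.Quotient.mk_eq_zero] at hv
          have hv' : Comod.coact (k := k) (A := A) v = v ⊗ₜ[k] (1 : A) := hv
          rw [hv', sub_self]
          exact zero_mem _
        | succ j =>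
          change v ∈ (F' (j + 1)).comap W.mkQ at hv
          change _ ∈ LinearMap.range (((F' j).comap W.mkQ).subtype.rTensor A)
          rw [mem_range_rTensor_subtype_iff]
          intro ψ
          rw [Submodule.mem_comap, ← slice_rTensor]
          have h1 := hgr j (W.mkQ v) hv
          rw [mem_range_rTensor_subtype_iff] at h1
          have h2 : W.mkQ.rTensor A (Comod.coact (k := k) (A := A) v - v ⊗ₜ[k] (1 : A)) =
              Comod.coact (k := k) (A := A) (W.mkQ v) - (W.mkQ v) ⊗ₜ[k] (1 : A) := by
            rw [map_sub, LinearMap.rTensor_tmul, ← isComodHom_apply hπ v]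
          rw [h2]
          exact h1 ψ

theorem isUnipotent_of_hasFlag
    (h : ∀ (V : Type v) [AddCommGroup V] [Module k V] [Comod k A V], Module.Finite k V →
      HasFlag (k := k) (A := A) V) : IsUnipotent k A := by
  intro V _ _ _ hfin hnt
  obtain ⟨m, F, hmono, h0, hm, hsub, hgr⟩ := h V hfin
  have hex : ∃ i, F i ≠ ⊥ := ⟨m, by rw [hm]; exact top_ne_bot⟩
  classical
  have hfind := Nat.find_spec hex
  have hmin := fun j => Nat.find_min hex (m := j)
  cases hi : Nat.find hex with
  | zero => rw [hi] at hfind; exact absurd h0 hfind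
  | succ j =>
    rw [hi] at hfind
    have hj : F j = ⊥ := by
      by_contra hne
      exact hmin j (by omega) hne
    obtain ⟨v, hv, hv0⟩ := Submodule.exists_mem_ne_zero_of_ne_bot hfind
    have h1 := hgr j v hv
    rw [mem_range_rTensor_subtype_iff] at h1
    have h2 : Comod.coact (k := k) (A := A) v - v ⊗ₜ[k] (1 : A) = 0 := by
      apply eq_zero_of_slice_eq_zero
      intro ψ
      have := h1 ψ
      rwa [hj, Submodule.mem_bot] at this
    intro hbot
    have hvf : v ∈ fixedPts k A V := sub_eq_zero.1 h2
    rw [hbot, Submodule.mem_bot] at hvf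
    exact hv0 hvf

end

end Groth.Agent.H40
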