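import Mathlib.AlgebraicGeometry.Group.Smooth
import Mathlib.AlgebraicGeometry.Morphisms.FlatMono
import Mathlib.CategoryTheory.Monoidal.Cartesian.Over
import Mathlib.CategoryTheory.Monoidal.Cartesian.Grp

set_option autoImplicit false
universe u v

open CategoryTheory MonoidalCategory CartesianMonoidalCategory

namespace Groth.Agent.H40

section Cart

variable {C : Type u} [Category.{v} C] [CartesianMonoidalCategory C]

/-- the base change square of `f` along the first projection. -/
lemma isPullback_whiskerRight_fst {X X' : C} (f : X ⟶ X') (Y : C) :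
    IsPullback (f ▷ Y) (fst X Y) (fst X' Y) f := by
  refine ⟨⟨by simp⟩, ⟨Limits.PullbackCone.IsLimit.mk _ (fun s => lift s.snd (s.fst ≫ snd X' Y))
    ?_ ?_ ?_⟩⟩
  · intro s
    apply CartesianMonoidalCategory.hom_ext
    · simp [s.condition]
    · simp
  · intro s
    simp
  · intro s m h1 h2
    apply CartesianMonoidalCategory.hom_ext
    · simpa using h2
    · have := congrArg (fun t => t ≫ snd X' Y) h1
      simpa using this

/-- the base change square of `f` along the second projection. -/
lemma isPullback_whiskerLeft_snd {X X' : C} (f : X ⟶ X') (Y : C) :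
    IsPullback (Y ◁ f) (snd Y X) (snd Y X') f := by
  refine ⟨⟨by simp⟩, ⟨Limits.PullbackCone.IsLimit.mk _ (fun s => lift (s.fst ≫ fst Y X') s.snd)
    ?_ ?_ ?_⟩⟩
  · intro s
    apply CartesianMonoidalCategory.hom_ext
    · simp
    · simp [s.condition]
  · intro s
    simp
  · intro s m h1 h2
    apply CartesianMonoidalCategory.hom_ext
    · have := congrArg (fun t => t ≫ fst Y X') h1
      simpa using this
    · simpa using h2

/-- the twisted shear map is an isomorphism when the shear map of the target is one. -/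
lemma isIso_twisted_shear {G X X' : C} (act' : G ⊗ X' ⟶ X') (f : X ⟶ X')
    [hΦ : IsIso (lift act' (snd G X'))] :
    IsIso (lift ((G ◁ f) ≫ act') (snd G X)) := by
  set Φ' := lift act' (snd G X') with hΦ'
  set Θ' := inv Φ' with hΘ'
  have A : Φ' ≫ Θ' = 𝟙 _ := IsIso.hom_inv_id Φ'
  have B : Θ' ≫ Φ' = 𝟙 _ := IsIso.inv_hom_id Φ'
  have B1 : Θ' ≫ act' = fst X' X' := by
    have := congrArg (fun t => t ≫ fst X' X') B
    simpa [hΦ'] using this
  have B2 : Θ' ≫ snd G X' = snd X' X' := by
    have := congrArg (fun t => t ≫ snd X' X') B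
    simpa [hΦ'] using this
  have e1 : lift ((G ◁ f) ≫ act') (snd G X) ≫ (X' ◁ f) = (G ◁ f) ≫ Φ' := by
    apply CartesianMonoidalCategory.hom_ext <;> simp [hΦ']
  refine ⟨lift ((X' ◁ f) ≫ Θ' ≫ fst G X') (snd X' X), ?_, ?_⟩
  · apply CartesianMonoidalCategory.hom_ext
    · rw [Category.assoc, lift_fst, ← Category.assoc, e1, Category.assoc, ← Category.assoc Φ',
        A, Category.id_comp, whiskerLeft_fst, Category.id_comp]
    · simp
  · have e2 : lift ((X' ◁ f) ≫ Θ' ≫ fst G X') (snd X' X) ≫ (G ◁ f) = (X' ◁ f) ≫ Θ' := by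
      apply CartesianMonoidalCategory.hom_ext
      · simp
      · simp [B2]
    apply CartesianMonoidalCategory.hom_ext
    · rw [Category.assoc, lift_fst, ← Category.assoc, e2, Category.assoc, B1, whiskerLeft_fst,
        Category.id_comp]
    · simp

/-- an equivariant map between torsors becomes an isomorphism after base change. -/
lemma isIso_whiskerRight_of_equivariant {G X X' : C} (act : G ⊗ X ⟶ X) (act' : G ⊗ X' ⟶ X')
    [IsIso (lift act (snd G X))] [IsIso (lift act' (snd G X'))]
    (f : X ⟶ X') (hf : (G ◁ f) ≫ act' = act ≫ f) : IsIso (f ▷ X) := by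
  have h1 : lift act (snd G X) ≫ (f ▷ X) = lift ((G ◁ f) ≫ act') (snd G X) := by
    apply CartesianMonoidalCategory.hom_ext <;> simp [hf]
  have h2 : IsIso (lift ((G ◁ f) ≫ act') (snd G X)) := isIso_twisted_shear act' f
  have h3 : f ▷ X = inv (lift act (snd G X)) ≫ lift ((G ◁ f) ≫ act') (snd G X) := by
    rw [← h1, IsIso.inv_hom_id_assoc]
  rw [h3]
  infer_instance

end Cart

end Groth.Agent.H40
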