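import Mathlib.LinearAlgebra.TensorProduct.Basis
import Mathlib.LinearAlgebra.TensorProduct.RightExactness
import Mathlib.LinearAlgebra.FreeModule.Basic
import Mathlib.RingTheory.Flat.Basic
import Mathlib.LinearAlgebra.Dual.Lemmas

set_option autoImplicit false
universe u v w w'

open TensorProduct

namespace Groth.Agent.H40

section Slice

variable {k : Type u} [CommRing k]
variable {M : Type v} [AddCommGroup M] [Module k M]
variable {N : Type w'} [AddCommGroup N] [Module k N]
variable {C : Type w} [AddCommGroup C] [Module k C]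

/-- The slice map `id ⊗ ψ : M ⊗ C → M` for a functional `ψ` on `C`. -/
noncomputable def slice (M : Type v) [AddCommGroup M] [Module k M] (ψ : C →ₗ[k] k) :
    M ⊗[k] C →ₗ[k] M :=
  (TensorProduct.rid k M).toLinearMap ∘ₗ ψ.lTensor M

@[simp] theorem slice_tmul (ψ : C →ₗ[k] k) (m : M) (c : C) :
    slice M ψ (m ⊗ₜ[k] c) = ψ c • m := by
  simp [slice]

theorem slice_rTensor (f : M →ₗ[k] N) (ψ : C →ₗ[k] k) (x : M ⊗[k] C) :
    slice N ψ (f.rTensor C x) = f (slice M ψ x) := by
  induction x using TensorProduct.induction_on with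
  | zero => simp
  | tmul m c => simp
  | add x y hx hy => simp [hx, hy]

theorem eq_zero_of_slice_eq_zero [Module.Free k C] (y : M ⊗[k] C)
    (h : ∀ ψ : C →ₗ[k] k, slice M ψ y = 0) : y = 0 := by
  classical
  let b := Module.Free.chooseBasis k C
  apply (TensorProduct.equivFinsuppOfBasisRight (M := M) b).injective
  rw [map_zero]
  ext i
  have key : ∀ z : M ⊗[k] C,
      (TensorProduct.equivFinsuppOfBasisRight (M := M) b z) i = slice M (b.coord i) z := by
    intro z
    induction z using TensorProduct.induction_on with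
    | zero => simp
    | tmul m c =>
      rw [TensorProduct.equivFinsuppOfBasisRight_apply_tmul_apply]
      simp
    | add x y hx hy => simp [hx, hy]
  rw [key, h]
  rfl

theorem mem_range_rTensor_subtype_iff [Module.Free k C] (W : Submodule k M) (x : M ⊗[k] C) :
    x ∈ LinearMap.range (W.subtype.rTensor C) ↔ ∀ ψ : C →ₗ[k] k, slice M ψ x ∈ W := by
  constructor
  · rintro ⟨y, rfl⟩ ψ
    rw [slice_rTensor]
    exact (slice W ψ y).2
  · intro h
    rw [← rTensor_mkQ, LinearMap.mem_ker]
    apply eq_zero_of_slice_eq_zero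
    intro ψ
    rw [slice_rTensor]
    simpa using h ψ

/-- The left slice map `φ ⊗ id : M ⊗ N → N` for a functional `φ` on `M`. -/
noncomputable def lslice (N : Type w') [AddCommGroup N] [Module k N] (φ : M →ₗ[k] k) :
    M ⊗[k] N →ₗ[k] N :=
  (TensorProduct.lid k N).toLinearMap ∘ₗ φ.rTensor N

@[simp] theorem lslice_tmul (φ : M →ₗ[k] k) (m : M) (n : N) :
    lslice N φ (m ⊗ₜ[k] n) = φ m • n := by
  simp [lslice]

theorem lslice_lTensor {N' : Type*} [AddCommGroup N'] [Module k N'] (f : N →ₗ[k] N')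
    (φ : M →ₗ[k] k) (x : M ⊗[k] N) :
    lslice N' φ (f.lTensor M x) = f (lslice N φ x) := by
  induction x using TensorProduct.induction_on with
  | zero => simp
  | tmul m c => simp
  | add x y hx hy => simp [hx, hy]

theorem lslice_eq_slice_comm (φ : M →ₗ[k] k) (x : M ⊗[k] N) :
    lslice N φ x = slice N φ (TensorProduct.comm k M N x) := by
  induction x using TensorProduct.induction_on with
  | zero => simp
  | tmul m c => simp
  | add x y hx hy => simp [hx, hy]

theorem eq_zero_of_lslice_eq_zero [Module.Free k M] (y : M ⊗[k] N)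
    (h : ∀ φ : M →ₗ[k] k, lslice N φ y = 0) : y = 0 := by
  apply (TensorProduct.comm k M N).injective
  rw [map_zero]
  apply eq_zero_of_slice_eq_zero
  intro φ
  rw [← lslice_eq_slice_comm]
  exact h φ

/-- slices in the two variables commute -/
theorem apply_lslice_eq_apply_slice (φ : M →ₗ[k] k) (ψ : C →ₗ[k] k) (y : M ⊗[k] C) :
    ψ (lslice C φ y) = φ (slice M ψ y) := by
  induction y using TensorProduct.induction_on with
  | zero => simp
  | tmul m c => simp [mul_comm]
  | add x y hx hy => simp [hx, hy]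

theorem slice_lTensor {C' : Type*} [AddCommGroup C'] [Module k C'] (f : C →ₗ[k] C')
    (ψ : C' →ₗ[k] k) (x : M ⊗[k] C) :
    slice M ψ (f.lTensor M x) = slice M (ψ ∘ₗ f) x := by
  induction x using TensorProduct.induction_on with
  | zero => simp
  | tmul m c => simp
  | add x y hx hy => simp [hx, hy]

theorem tensor_eq_zero_of_separating [Module.Free k M] (Φ : Set (M →ₗ[k] k))
    (Ψ : Set (C →ₗ[k] k)) (hΦ : ∀ m : M, (∀ φ ∈ Φ, φ m = 0) → m = 0)
    (hΨ : ∀ n : C, (∀ ψ ∈ Ψ, ψ n = 0) → n = 0) (y : M ⊗[k] C)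
    (h : ∀ φ ∈ Φ, ∀ ψ ∈ Ψ, φ (slice M ψ y) = 0) : y = 0 := by
  have h1 : ∀ ψ ∈ Ψ, slice M ψ y = 0 := fun ψ hψ => hΦ _ fun φ hφ => h φ hφ ψ hψ
  apply eq_zero_of_lslice_eq_zero
  intro φ'
  apply hΨ
  intro ψ hψ
  rw [apply_lslice_eq_apply_slice, h1 ψ hψ, map_zero]

theorem slice_map {M' : Type*} [AddCommGroup M'] [Module k M'] {C' : Type*} [AddCommGroup C']
    [Module k C'] (f : M →ₗ[k] M') (g : C →ₗ[k] C') (ψ : C' →ₗ[k] k) (x : M ⊗[k] C) :
    slice M' ψ (TensorProduct.map f g x) = f (slice M (ψ ∘ₗ g) x) := by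
  induction x using TensorProduct.induction_on with
  | zero => simp
  | tmul m c => simp
  | add x y hx hy => simp [hx, hy]

end Slice

end Groth.Agent.H40
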