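import Groth.Prelude.Def_HopfRep
import Groth.Prelude.Def_Hoch
import Groth.Agent.H40.Slice

set_option autoImplicit false
universe u v w w'

open TensorProduct HopfRep

namespace Groth.Agent.H40

section Basic

variable {k : Type u} [CommRing k] {C : Type v} [AddCommGroup C] [Module k C] [Coalgebra k C]
variable {V : Type w} [AddCommGroup V] [Module k V] [Comod k C V]

variable (k C) in
/-- abbreviation for the coaction -/
noncomputable abbrev rho (V : Type w) [AddCommGroup V] [Module k V] [Comod k C V] :
    V →ₗ[k] V ⊗[k] C := Comod.coact (k := k) (A := C) (V := V)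

theorem coassoc_apply (v : V) :
    (TensorProduct.assoc k V C C) ((rho k C V).rTensor C (rho k C V v)) =
      (Coalgebra.comul (R := k) (A := C)).lTensor V (rho k C V v) := by
  have h := LinearMap.congr_fun (Comod.coassoc (k := k) (A := C) (V := V)) v
  simpa using h

theorem counit_apply (v : V) :
    (Coalgebra.counit (R := k) (A := C)).lTensor V (rho k C V v) = v ⊗ₜ[k] (1 : k) := by
  have h := LinearMap.congr_fun (Comod.counit_comp (k := k) (A := C) (V := V)) v
  simpa using h

theorem slice_counit_rho (v : V) :
    slice V (Coalgebra.counit (R := k) (A := C)) (rho k C V v) = v := by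
  simp [slice, counit_apply]

variable (k C) in
/-- convolution of two functionals -/
noncomputable def conv (φ ψ : C →ₗ[k] k) : C →ₗ[k] k :=
  LinearMap.mul' k k ∘ₗ TensorProduct.map φ ψ ∘ₗ Coalgebra.comul (R := k) (A := C)

theorem slice_slice_assoc_symm (φ ψ : C →ₗ[k] k) (v : V) (z : C ⊗[k] C) :
    slice V φ (slice (V ⊗[k] C) ψ ((TensorProduct.assoc k V C C).symm (v ⊗ₜ[k] z))) =
      (LinearMap.mul' k k (TensorProduct.map φ ψ z)) • v := by
  induction z using TensorProduct.induction_on with
  | zero => simp
  | tmul a b => simp [smul_smul, mul_comm]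
  | add x y hx hy => simp [TensorProduct.tmul_add, hx, hy, add_smul]

theorem slice_slice_comul (φ ψ : C →ₗ[k] k) (y : V ⊗[k] C) :
    slice V φ (slice (V ⊗[k] C) ψ ((TensorProduct.assoc k V C C).symm
      ((Coalgebra.comul (R := k) (A := C)).lTensor V y))) = slice V (conv k C φ ψ) y := by
  induction y using TensorProduct.induction_on with
  | zero => simp
  | tmul v c =>
    rw [LinearMap.lTensor_tmul, slice_slice_assoc_symm]
    simp [conv]
  | add x y hx hy => simp only [map_add, hx, hy]

theorem slice_rho_slice_rho (φ ψ : C →ₗ[k] k) (v : V) :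
    slice V φ (rho k C V (slice V ψ (rho k C V v))) = slice V (conv k C φ ψ) (rho k C V v) := by
  rw [← slice_rTensor (rho k C V) ψ (rho k C V v), ← slice_slice_comul, ← coassoc_apply,
    LinearEquiv.symm_apply_apply]

end Basic

section Sub

variable {k : Type u} [CommRing k] {C : Type v} [AddCommGroup C] [Module k C] [Coalgebra k C]
variable {V : Type w} [AddCommGroup V] [Module k V] [Comod k C V]

theorem isSubcomod_iff_slice [Module.Free k C] (W : Submodule k V) :
    IsSubcomod (k := k) (A := C) W ↔
      ∀ w ∈ W, ∀ ψ : C →ₗ[k] k, slice V ψ (rho k C V w) ∈ W := by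
  unfold IsSubcomod
  constructor
  · intro h w hw
    exact (mem_range_rTensor_subtype_iff W _).1 (h w hw)
  · intro h w hw
    exact (mem_range_rTensor_subtype_iff W _).2 (h w hw)

variable (k C) in
/-- The subcomodule generated by a vector: the span of all slices of its coaction. -/
noncomputable def cyc (v : V) : Submodule k V :=
  Submodule.span k (Set.range fun ψ : C →ₗ[k] k => slice V ψ (rho k C V v))

theorem mem_cyc_self (v : V) : v ∈ cyc k C v := by
  apply Submodule.subset_span
  exact ⟨Coalgebra.counit (R := k) (A := C), slice_counit_rho v⟩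

theorem isSubcomod_cyc [Module.Free k C] (v : V) : IsSubcomod (k := k) (A := C) (cyc k C v) := by
  rw [isSubcomod_iff_slice]
  intro w hw φ
  induction hw using Submodule.span_induction with
  | mem x hx =>
    obtain ⟨ψ, rfl⟩ := hx
    rw [slice_rho_slice_rho]
    exact Submodule.subset_span ⟨_, rfl⟩
  | zero => simp
  | add x y _ _ hx hy => simpa using add_mem hx hy
  | smul a x _ hx => simpa using Submodule.smul_mem _ a hx

theorem cyc_le_span_image (v : V) (S : Finset (V × C))
    (hS : rho k C V v = S.sum fun i => i.1 ⊗ₜ[k] i.2) :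
    cyc k C v ≤ Submodule.span k ((fun i : V × C => i.1) '' (S : Set (V × C))) := by
  unfold cyc
  rw [Submodule.span_le]
  rintro _ ⟨ψ, rfl⟩
  simp only [hS, map_sum, slice_tmul]
  apply Submodule.sum_mem
  intro i hi
  apply Submodule.smul_mem
  exact Submodule.subset_span ⟨i, hi, rfl⟩

theorem finite_cyc {k : Type u} [Field k] {C : Type v} [AddCommGroup C] [Module k C] [Coalgebra k C]
    {V : Type w} [AddCommGroup V] [Module k V] [Comod k C V] (v : V) :
    Module.Finite k (cyc k C v) := by
  obtain ⟨S, hS⟩ := TensorProduct.exists_finset (rho k C V v)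
  have hle := cyc_le_span_image v S hS
  have : FiniteDimensional k
      (Submodule.span k ((fun i : V × C => i.1) '' (S : Set (V × C)))) :=
    FiniteDimensional.span_of_finite k ((S.finite_toSet).image _)
  exact Submodule.finiteDimensional_of_le hle

end Sub

section Hom

variable {k : Type u} [CommRing k] {C : Type v} [AddCommGroup C] [Module k C] [Coalgebra k C]
variable {V : Type w} [AddCommGroup V] [Module k V] [Comod k C V]
variable {W : Type w'} [AddCommGroup W] [Module k W] [Comod k C W]

theorem isComodHom_apply {f : V →ₗ[k] W} (hf : Hoch.IsComodHom C f) (v : V) :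
    rho k C W (f v) = f.rTensor C (rho k C V v) :=
  LinearMap.congr_fun hf v

theorem isComodHom_id : Hoch.IsComodHom C (LinearMap.id : V →ₗ[k] V) := by
  unfold Hoch.IsComodHom
  ext v
  simp

theorem isComodHom_zero : Hoch.IsComodHom C (0 : V →ₗ[k] W) := by
  unfold Hoch.IsComodHom
  ext v
  simp

theorem isComodHom_add {f g : V →ₗ[k] W} (hf : Hoch.IsComodHom C f) (hg : Hoch.IsComodHom C g) :
    Hoch.IsComodHom C (f + g) := by
  unfold Hoch.IsComodHom at *
  rw [LinearMap.comp_add, hf, hg, LinearMap.rTensor_add, LinearMap.add_comp]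

theorem isComodHom_smul (a : k) {f : V →ₗ[k] W} (hf : Hoch.IsComodHom C f) :
    Hoch.IsComodHom C (a • f) := by
  unfold Hoch.IsComodHom at *
  rw [LinearMap.comp_smul, hf, LinearMap.rTensor_smul, LinearMap.smul_comp]

theorem isComodHom_neg {f : V →ₗ[k] W} (hf : Hoch.IsComodHom C f) :
    Hoch.IsComodHom C (-f) := by
  have := isComodHom_smul (-1 : k) hf
  simpa using this

theorem isComodHom_sub {f g : V →ₗ[k] W} (hf : Hoch.IsComodHom C f) (hg : Hoch.IsComodHom C g) :
    Hoch.IsComodHom C (f - g) := by
  rw [sub_eq_add_neg]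
  exact isComodHom_add hf (isComodHom_neg hg)

theorem isComodHom_comp {U : Type*} [AddCommGroup U] [Module k U] [Comod k C U]
    {f : V →ₗ[k] W} {g : W →ₗ[k] U} (hf : Hoch.IsComodHom C f) (hg : Hoch.IsComodHom C g) :
    Hoch.IsComodHom C (g ∘ₗ f) := by
  unfold Hoch.IsComodHom at *
  rw [← LinearMap.comp_assoc, hg, LinearMap.comp_assoc, hf, ← LinearMap.comp_assoc,
    LinearMap.rTensor_comp]

theorem isSubcomod_ker [Module.Free k C] {f : V →ₗ[k] W} (hf : Hoch.IsComodHom C f) :
    IsSubcomod (k := k) (A := C) (LinearMap.ker f) := by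
  rw [isSubcomod_iff_slice]
  intro w hw ψ
  rw [LinearMap.mem_ker] at hw ⊢
  rw [← slice_rTensor, ← isComodHom_apply hf, hw]
  simp

theorem isSubcomod_comap [Module.Free k C] {f : V →ₗ[k] W} (hf : Hoch.IsComodHom C f)
    {U : Submodule k W} (hU : IsSubcomod (k := k) (A := C) U) :
    IsSubcomod (k := k) (A := C) (U.comap f) := by
  rw [isSubcomod_iff_slice] at hU ⊢
  intro w hw ψ
  rw [Submodule.mem_comap] at hw ⊢
  rw [← slice_rTensor, ← isComodHom_apply hf]
  exact hU _ hw ψ

theorem isSubcomod_map [Module.Free k C] {f : V →ₗ[k] W} (hf : Hoch.IsComodHom C f)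
    {U : Submodule k V} (hU : IsSubcomod (k := k) (A := C) U) :
    IsSubcomod (k := k) (A := C) (U.map f) := by
  rw [isSubcomod_iff_slice] at hU ⊢
  rintro _ ⟨w, hw, rfl⟩ ψ
  rw [isComodHom_apply hf, slice_rTensor]
  exact ⟨_, hU w hw ψ, rfl⟩

end Hom

section Corestrict

variable {k : Type u} [CommRing k] {C : Type v} [AddCommGroup C] [Module k C] [Coalgebra k C]
variable {D : Type w'} [AddCommGroup D] [Module k D] [Coalgebra k D]
variable (V : Type w) [AddCommGroup V] [Module k V] [Comod k C V]

theorem corestrict_aux (f : C →ₗ[k] D) (x : V ⊗[k] C) :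
    (TensorProduct.assoc k V D D) ((f.lTensor V ∘ₗ rho k C V).rTensor D (f.lTensor V x)) =
      (TensorProduct.map f f).lTensor V ((TensorProduct.assoc k V C C) ((rho k C V).rTensor C x)) := by
  induction x using TensorProduct.induction_on with
  | zero => simp
  | tmul v c =>
    simp only [LinearMap.lTensor_tmul, LinearMap.rTensor_tmul, LinearMap.comp_apply]
    generalize rho k C V v = y
    induction y using TensorProduct.induction_on with
    | zero => simp
    | tmul w a => simp
    | add x y hx hy => simp only [map_add, TensorProduct.add_tmul, hx, hy]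
  | add x y hx hy => simp only [map_add, hx, hy]

/-- Corestriction of a comodule along a coalgebra map. -/
@[reducible] noncomputable def corestrict (f : C →ₗc[k] D) : Comod k D V where
  coact := f.toLinearMap.lTensor V ∘ₗ rho k C V
  coassoc := by
    ext v
    have h2 := LinearMap.congr_fun (CoalgHomClass.map_comp_comul f) 
    simp only [LinearMap.comp_apply, LinearEquiv.coe_coe]
    have h1 := corestrict_aux V f.toLinearMap (rho k C V v)
    rw [h1, coassoc_apply]
    generalize rho k C V v = y
    induction y using TensorProduct.induction_on with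
    | zero => simp
    | tmul w a =>
      simp only [LinearMap.lTensor_tmul]
      congr 1
      exact h2 a
    | add x y hx hy => simp only [map_add, hx, hy]
  counit_comp := by
    ext v
    have h2 := LinearMap.congr_fun (CoalgHomClass.counit_comp f)
    simp only [LinearMap.comp_apply, LinearMap.flip_apply, TensorProduct.mk_apply]
    rw [← counit_apply (C := C) v]
    generalize rho k C V v = y
    induction y using TensorProduct.induction_on with
    | zero => simp
    | tmul w a =>
      simp only [LinearMap.lTensor_tmul]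
      congr 1
      exact h2 a
    | add x y hx hy => simp only [map_add, hx, hy]

end Corestrict

section Quot

variable {k : Type u} [CommRing k] {C : Type v} [AddCommGroup C] [Module k C] [Coalgebra k C]
variable {V : Type w} [AddCommGroup V] [Module k V] [Comod k C V]
variable {Q : Type w'} [AddCommGroup Q] [Module k Q]

omit [Coalgebra k C] [Comod k C V] in
theorem assoc_rTensor_rTensor (π : V →ₗ[k] Q) (z : (V ⊗[k] C) ⊗[k] C) :
    (TensorProduct.assoc k Q C C) ((π.rTensor C).rTensor C z) =
      π.rTensor (C ⊗[k] C) ((TensorProduct.assoc k V C C) z) := by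
  induction z using TensorProduct.induction_on with
  | zero => simp
  | tmul y c =>
    induction y using TensorProduct.induction_on with
    | zero => simp
    | tmul v a => simp
    | add x y hx hy => simp only [TensorProduct.add_tmul, map_add, hx, hy]
  | add x y hx hy => simp only [map_add, hx, hy]

omit [Coalgebra k C] [Comod k C V] in
theorem lTensor_rTensor_comm {C' : Type*} [AddCommGroup C'] [Module k C'] (π : V →ₗ[k] Q)
    (f : C →ₗ[k] C') (y : V ⊗[k] C) :
    f.lTensor Q (π.rTensor C y) = π.rTensor C' (f.lTensor V y) := by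
  induction y using TensorProduct.induction_on with
  | zero => simp
  | tmul v a => simp
  | add x y hx hy => simp only [map_add, hx, hy]

theorem coassoc_of_intertwine (π : V →ₗ[k] Q) (ρQ : Q →ₗ[k] Q ⊗[k] C)
    (h : ∀ v, ρQ (π v) = π.rTensor C (rho k C V v)) (v : V) :
    (TensorProduct.assoc k Q C C) (ρQ.rTensor C (ρQ (π v))) =
      (Coalgebra.comul (R := k) (A := C)).lTensor Q (ρQ (π v)) := by
  rw [h v]
  have h1 : ∀ y : V ⊗[k] C, ρQ.rTensor C (π.rTensor C y) =
      (π.rTensor C).rTensor C ((rho k C V).rTensor C y) := by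
    intro y
    induction y using TensorProduct.induction_on with
    | zero => simp
    | tmul v a => simp [h]
    | add x y hx hy => simp only [map_add, hx, hy]
  rw [h1, assoc_rTensor_rTensor, coassoc_apply, lTensor_rTensor_comm]

theorem counit_of_intertwine (π : V →ₗ[k] Q) (ρQ : Q →ₗ[k] Q ⊗[k] C)
    (h : ∀ v, ρQ (π v) = π.rTensor C (rho k C V v)) (v : V) :
    (Coalgebra.counit (R := k) (A := C)).lTensor Q (ρQ (π v)) = (π v) ⊗ₜ[k] (1 : k) := by
  rw [h v, lTensor_rTensor_comm, counit_apply]
  simp

/-- A comodule structure on the target of a surjective linear map intertwining a candidate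
coaction. -/
@[reducible] noncomputable def comodOfSurjective (π : V →ₗ[k] Q) (hπ : Function.Surjective π)
    (ρQ : Q →ₗ[k] Q ⊗[k] C) (h : ∀ v, ρQ (π v) = π.rTensor C (rho k C V v)) : Comod k C Q where
  coact := ρQ
  coassoc := by
    ext q
    obtain ⟨v, rfl⟩ := hπ q
    simp only [LinearMap.comp_apply, LinearEquiv.coe_coe]
    exact coassoc_of_intertwine π ρQ h v
  counit_comp := by
    ext q
    obtain ⟨v, rfl⟩ := hπ q
    simp only [LinearMap.comp_apply, LinearMap.flip_apply, TensorProduct.mk_apply]
    exact counit_of_intertwine π ρQ h v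

/-- The quotient comodule by a subcomodule. -/
@[reducible] noncomputable def quotComod (W : Submodule k V) (hW : IsSubcomod (k := k) (A := C) W) :
    Comod k C (V ⧸ W) :=
  comodOfSurjective (C := C) W.mkQ W.mkQ_surjective
    (W.liftQ (W.mkQ.rTensor C ∘ₗ rho k C V) (by
      intro w hw
      rw [LinearMap.mem_ker, LinearMap.comp_apply, ← LinearMap.mem_ker, rTensor_mkQ]
      exact hW w hw))
    (fun v => by simp)

theorem quotComod_coact_mk (W : Submodule k V) (hW : IsSubcomod (k := k) (A := C) W) (v : V) :
    (quotComod W hW).coact (W.mkQ v) = W.mkQ.rTensor C (rho k C V v) := by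
  change (W.liftQ (W.mkQ.rTensor C ∘ₗ rho k C V) _) (W.mkQ v) = _
  simp

theorem isComodHom_mkQ (W : Submodule k V) (hW : IsSubcomod (k := k) (A := C) W) :
    @Hoch.IsComodHom k _ C _ _ _ V _ _ _ (V ⧸ W) _ _ (quotComod W hW) W.mkQ := by
  unfold Hoch.IsComodHom
  ext v
  exact quotComod_coact_mk W hW v

end Quot

section Prod

variable {k : Type u} [CommRing k] {C : Type v} [AddCommGroup C] [Module k C] [Coalgebra k C]
variable (V : Type w) [AddCommGroup V] [Module k V] [Comod k C V]
variable (W : Type w') [AddCommGroup W] [Module k W] [Comod k C W]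

/-- the candidate coaction on a product -/
noncomputable def prodCoact : V × W →ₗ[k] (V × W) ⊗[k] C :=
  ((LinearMap.inl k V W).rTensor C ∘ₗ rho k C V).coprod
    ((LinearMap.inr k V W).rTensor C ∘ₗ rho k C W)

theorem prodCoact_inl (v : V) :
    prodCoact (C := C) V W (LinearMap.inl k V W v) = (LinearMap.inl k V W).rTensor C (rho k C V v) := by
  simp [prodCoact]

theorem prodCoact_inr (w : W) :
    prodCoact (C := C) V W (LinearMap.inr k V W w) = (LinearMap.inr k V W).rTensor C (rho k C W w) := by
  simp [prodCoact]

/-- The product (direct sum) of two comodules. -/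
@[reducible] noncomputable def prodComod : Comod k C (V × W) where
  coact := prodCoact V W
  coassoc := by
    ext x
    · simp only [LinearMap.comp_apply, LinearEquiv.coe_coe, LinearMap.coe_inl]
      exact coassoc_of_intertwine (LinearMap.inl k V W) (prodCoact V W) (prodCoact_inl V W) x
    · simp only [LinearMap.comp_apply, LinearEquiv.coe_coe, LinearMap.coe_inr]
      exact coassoc_of_intertwine (LinearMap.inr k V W) (prodCoact V W) (prodCoact_inr V W) x
  counit_comp := by
    ext x
    · simp only [LinearMap.comp_apply, LinearMap.flip_apply, TensorProduct.mk_apply,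
        LinearMap.coe_inl]
      exact counit_of_intertwine (LinearMap.inl k V W) (prodCoact V W) (prodCoact_inl V W) x
    · simp only [LinearMap.comp_apply, LinearMap.flip_apply, TensorProduct.mk_apply,
        LinearMap.coe_inr]
      exact counit_of_intertwine (LinearMap.inr k V W) (prodCoact V W) (prodCoact_inr V W) x

theorem isComodHom_inl :
    @Hoch.IsComodHom k _ C _ _ _ V _ _ _ (V × W) _ _ (prodComod V W) (LinearMap.inl k V W) := by
  unfold Hoch.IsComodHom
  ext v
  exact prodCoact_inl V W v

theorem isComodHom_inr :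
    @Hoch.IsComodHom k _ C _ _ _ W _ _ _ (V × W) _ _ (prodComod V W) (LinearMap.inr k V W) := by
  unfold Hoch.IsComodHom
  ext v
  exact prodCoact_inr V W v

theorem isComodHom_fst :
    @Hoch.IsComodHom k _ C _ _ _ (V × W) _ _ (prodComod V W) V _ _ _ (LinearMap.fst k V W) := by
  unfold Hoch.IsComodHom
  ext x
  · simp only [LinearMap.comp_apply, LinearMap.coe_inl, LinearMap.fst_apply]
    change rho k C V x = (LinearMap.fst k V W).rTensor C (prodCoact V W (LinearMap.inl k V W x))
    rw [prodCoact_inl, ← LinearMap.comp_apply, ← LinearMap.rTensor_comp, LinearMap.fst_comp_inl,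
      LinearMap.rTensor_id, LinearMap.id_apply]
  · simp only [LinearMap.comp_apply, LinearMap.coe_inr, LinearMap.fst_apply, map_zero]
    change 0 = (LinearMap.fst k V W).rTensor C (prodCoact V W (LinearMap.inr k V W x))
    rw [prodCoact_inr, ← LinearMap.comp_apply, ← LinearMap.rTensor_comp, LinearMap.fst_comp_inr,
      LinearMap.rTensor_zero, LinearMap.zero_apply]

theorem isComodHom_snd :
    @Hoch.IsComodHom k _ C _ _ _ (V × W) _ _ (prodComod V W) W _ _ _ (LinearMap.snd k V W) := by
  unfold Hoch.IsComodHom
  ext x
  · simp only [LinearMap.comp_apply, LinearMap.coe_inl, LinearMap.snd_apply, map_zero]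
    change 0 = (LinearMap.snd k V W).rTensor C (prodCoact V W (LinearMap.inl k V W x))
    rw [prodCoact_inl, ← LinearMap.comp_apply, ← LinearMap.rTensor_comp, LinearMap.snd_comp_inl,
      LinearMap.rTensor_zero, LinearMap.zero_apply]
  · simp only [LinearMap.comp_apply, LinearMap.coe_inr, LinearMap.snd_apply]
    change rho k C W x = (LinearMap.snd k V W).rTensor C (prodCoact V W (LinearMap.inr k V W x))
    rw [prodCoact_inr, ← LinearMap.comp_apply, ← LinearMap.rTensor_comp, LinearMap.snd_comp_inr,
      LinearMap.rTensor_id, LinearMap.id_apply]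

end Prod

end Groth.Agent.H40
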