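import Mathlib.Order.CompactlyGenerated.Basic
import Mathlib.Order.SupIndep

set_option autoImplicit false
universe u v

namespace Groth.Agent.H40

variable {α : Type u} [CompleteLattice α] [IsModularLattice α] [IsCompactlyGenerated α]

/-- Relative version of `exists_sSupIndep_isCompl_sSup_atoms` for a class `P` of elements closed
under suprema and binary infima, with `P`-simple generators. -/
theorem exists_sSupIndep_isCompl_of_simple (P : α → Prop)
    (hsup : ∀ s : Set α, (∀ a ∈ s, P a) → P (sSup s)) (hinf : ∀ a b, P a → P b → P (a ⊓ b))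
    (T : Set α) (hT : ∀ a ∈ T, P a) (hne : ∀ a ∈ T, a ≠ ⊥)
    (hsimple : ∀ a ∈ T, ∀ x, P x → x ≤ a → x = ⊥ ∨ x = a) (htop : sSup T = ⊤)
    (b : α) (hb : P b) :
    ∃ s : Set α, s ⊆ T ∧ sSupIndep s ∧ IsCompl b (sSup s) := by
  have zorn := zorn_subset
    (S := {s : Set α | sSupIndep s ∧ Disjoint b (sSup s) ∧ ∀ a ∈ s, a ∈ T})
    fun c hc1 hc2 =>
      ⟨⋃₀ c,
        ⟨iSupIndep_sUnion_of_directed hc2.directedOn fun s hs => (hc1 hs).1, ?_,
          fun a ⟨s, sc, as⟩ => (hc1 sc).2.2 a as⟩,
        fun _ => Set.subset_sUnion_of_mem⟩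
  swap
  · rw [sSup_sUnion, ← sSup_image, DirectedOn.disjoint_sSup_right]
    · rintro _ ⟨s, hs, rfl⟩
      exact (hc1 hs).2.1
    · rw [directedOn_image]
      exact hc2.directedOn.mono @fun s t => sSup_le_sSup
  simp_rw [maximal_subset_iff] at zorn
  obtain ⟨s, ⟨s_ind, b_inf_Sup_s, s_T⟩, s_max⟩ := zorn
  refine ⟨s, s_T, s_ind, b_inf_Sup_s, ?_⟩
  rw [codisjoint_iff_le_sup, ← htop, sSup_le_iff]
  intro a ha
  have hPs : P (sSup s) := hsup s fun x hx => hT x (s_T x hx)
  have hPbs : P (b ⊔ sSup s) := by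
    rw [← sSup_pair]
    apply hsup
    rintro x (rfl | rfl)
    · exact hb
    · exact hPs
  rw [← inf_eq_left]
  refine (hsimple a ha _ (hinf _ _ (hT a ha) hPbs) inf_le_left).resolve_left fun con => hne a ha ?_
  rw [← con, eq_comm, inf_eq_left]
  refine (le_sSup ?_).trans le_sup_right
  rw [← disjoint_iff] at con
  have a_dis_Sup_s : Disjoint a (sSup s) := con.mono_right le_sup_right
  rw [s_max ⟨fun x hx => ?_, ?_, fun x hx => ?_⟩ Set.subset_union_left]
  · exact Set.mem_union_right _ (Set.mem_singleton _)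
  · rw [sSup_union, sSup_singleton]
    exact b_inf_Sup_s.disjoint_sup_right_of_disjoint_sup_left con.symm
  · rw [Set.mem_union, Set.mem_singleton_iff] at hx
    obtain rfl | xa := eq_or_ne x a
    · simp only [Set.mem_singleton, Set.insert_sdiff_of_mem, Set.union_singleton]
      exact con.mono_right ((sSup_le_sSup Set.sdiff_subset).trans le_sup_right)
    · have h : (s ∪ {a}) \ {x} = s \ {x} ∪ {a} := by
        simp only [Set.union_singleton]
        rw [Set.insert_sdiff_of_notMem]
        rw [Set.mem_singleton_iff]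
        exact Ne.symm xa
      rw [h, sSup_union, sSup_singleton]
      apply
        (s_ind (hx.resolve_right xa)).disjoint_sup_right_of_disjoint_sup_left
          (a_dis_Sup_s.mono_right _).symm
      rw [← sSup_insert, Set.insert_sdiff_singleton, Set.insert_eq_of_mem (hx.resolve_right xa)]
  · rw [Set.mem_union, Set.mem_singleton_iff] at hx
    obtain hx | rfl := hx
    · exact s_T x hx
    · exact ha

end Groth.Agent.H40
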