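import Groth.Agent.H40.Unip
import Groth.Agent.S7972

set_option autoImplicit false
universe u v w w'

open TensorProduct HopfRep

namespace Groth.Agent.H40

section Sub

variable {k : Type u} [Field k] {C : Type v} [AddCommGroup C] [Module k C] [Coalgebra k C]
variable {V : Type w} [AddCommGroup V] [Module k V] [Comod k C V]

theorem rTensor_injective_of_injective {M N : Type*} [AddCommGroup M] [Module k M]
    [AddCommGroup N] [Module k N] (P : Type*) [AddCommGroup P] [Module k P]
    (f : M →ₗ[k] N) (hf : Function.Injective f) : Function.Injective (f.rTensor P) :=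
  Module.Flat.rTensor_preserves_injective_linearMap f hf

/-- the candidate coaction on a subcomodule -/
noncomputable def subCoact (W : Submodule k V) (hW : IsSubcomod (k := k) (A := C) W) :
    W →ₗ[k] W ⊗[k] C :=
  (LinearEquiv.ofInjective (W.subtype.rTensor C)
    (rTensor_injective_of_injective C W.subtype W.subtype_injective)).symm.toLinearMap ∘ₗ
    LinearMap.codRestrict (LinearMap.range (W.subtype.rTensor C)) (rho k C V ∘ₗ W.subtype)
      (fun w => hW w.1 w.2)

theorem subtype_rTensor_subCoact (W : Submodule k V) (hW : IsSubcomod (k := k) (A := C) W)
    (w : W) : W.subtype.rTensor C (subCoact W hW w) = rho k C V (w : V) := by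
  unfold subCoact
  simp only [LinearMap.comp_apply, LinearEquiv.coe_coe]
  have := LinearEquiv.apply_symm_apply (LinearEquiv.ofInjective (W.subtype.rTensor C)
    (rTensor_injective_of_injective C W.subtype W.subtype_injective))
    (LinearMap.codRestrict (LinearMap.range (W.subtype.rTensor C)) (rho k C V ∘ₗ W.subtype)
      (fun w => hW w.1 w.2) w)
  have h2 := congrArg Subtype.val this
  simpa using h2

/-- A comodule structure on the source of an injective linear map intertwining a candidate
coaction (over a field). -/
@[reducible] noncomputable def comodOfInjective {U : Type w'} [AddCommGroup U] [Module k U]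
    (ι : U →ₗ[k] V) (hι : Function.Injective ι) (ρU : U →ₗ[k] U ⊗[k] C)
    (h : ∀ u, ι.rTensor C (ρU u) = rho k C V (ι u)) : Comod k C U where
  coact := ρU
  coassoc := by
    ext u
    simp only [LinearMap.comp_apply, LinearEquiv.coe_coe]
    apply rTensor_injective_of_injective (C ⊗[k] C) ι hι
    rw [← assoc_rTensor_rTensor, ← lTensor_rTensor_comm, h u, ← coassoc_apply]
    congr 1
    have h1 : ∀ y : U ⊗[k] C, (ι.rTensor C).rTensor C (ρU.rTensor C y) =
        (rho k C V).rTensor C (ι.rTensor C y) := by
      intro y
      induction y using TensorProduct.induction_on with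
      | zero => simp
      | tmul v a => simp [h]
      | add x y hx hy => simp only [map_add, hx, hy]
    rw [h1, h u]
  counit_comp := by
    ext u
    simp only [LinearMap.comp_apply, LinearMap.flip_apply, TensorProduct.mk_apply]
    apply rTensor_injective_of_injective k ι hι
    rw [← lTensor_rTensor_comm, h u, counit_apply]
    simp

/-- A subcomodule as a comodule. -/
@[reducible] noncomputable def subComod (W : Submodule k V)
    (hW : IsSubcomod (k := k) (A := C) W) : Comod k C W :=
  comodOfInjective (C := C) W.subtype W.subtype_injective (subCoact W hW)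
    (subtype_rTensor_subCoact W hW)

theorem isComodHom_subtype (W : Submodule k V) (hW : IsSubcomod (k := k) (A := C) W) :
    @Hoch.IsComodHom k _ C _ _ _ W _ _ (subComod W hW) V _ _ _ W.subtype := by
  unfold Hoch.IsComodHom
  ext w
  exact (subtype_rTensor_subCoact W hW w).symm

end Sub

end Groth.Agent.H40
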