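import Groth.Agent.H40.FpqcFam
import Groth.Prelude.Def_NonAbH2

set_option autoImplicit false
universe v u
open CategoryTheory CategoryTheory.Limits AlgebraicGeometry MonoidalCategory CartesianMonoidalCategory

namespace Groth.Agent.H40

/-- flatness descends along flat surjective morphisms. -/
lemma flat_descendsAlong :
    MorphismProperty.DescendsAlong (@Flat : MorphismProperty Scheme.{u})
      (@Surjective ⊓ @Flat ⊓ @QuasiCompact : MorphismProperty Scheme.{u}) where
  of_isPullback {A X Y Z fst snd f g} h hf hfst := by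
    obtain ⟨⟨h1, h2⟩, -⟩ := hf
    have hs1 : Flat snd := MorphismProperty.of_isPullback (P := @Flat) h h2
    have hs2 : Surjective snd := MorphismProperty.of_isPullback (P := @Surjective) h h1
    have hfst' : Flat fst := hfst
    have : Flat (snd ≫ g) := by
      rw [← h.w]
      infer_instance
    exact flat_of_flat_comp snd g

/-- quasi-compactness descends along surjective quasi-compact morphisms. -/
lemma quasiCompact_descendsAlong :
    MorphismProperty.DescendsAlong (@QuasiCompact : MorphismProperty Scheme.{u})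
      (@Surjective ⊓ @Flat ⊓ @QuasiCompact : MorphismProperty Scheme.{u}) where
  of_isPullback {A X Y Z fst snd f g} h hf hfst := by
    obtain ⟨⟨h1, -⟩, h3⟩ := hf
    have hs2 : Surjective snd := MorphismProperty.of_isPullback (P := @Surjective) h h1
    have hfst' : QuasiCompact fst := hfst
    have hf' : QuasiCompact f := h3
    refine ⟨fun U hU hUc => ?_⟩
    have e1 : g ⁻¹' U = snd '' (snd ⁻¹' (g ⁻¹' U)) :=
      (Set.image_preimage_eq _ snd.surjective).symm
    have e2 : snd ⁻¹' (g ⁻¹' U) = fst ⁻¹' (f ⁻¹' U) := by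
      ext x
      simp only [Set.mem_preimage]
      have hx : g (snd x) = f (fst x) := by
        rw [← Scheme.Hom.comp_apply, ← Scheme.Hom.comp_apply, h.w]
      rw [hx]
    rw [e1, e2]
    apply IsCompact.image _ snd.continuous
    exact hfst'.isCompact_preimage _ (hU.preimage f.continuous) (hf'.isCompact_preimage _ hU hUc)

variable {S : Scheme.{u}}

/-- descent of a property of a structure morphism along a covering family of the base. -/
theorem prop_hom_of_fpqc_family (P : MorphismProperty Scheme.{u}) [IsZariskiLocalAtTarget P]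
    (hP : P.DescendsAlong (@Surjective ⊓ @Flat ⊓ @QuasiCompact : MorphismProperty Scheme.{u}))
    (X : Over S) {R : Presieve S} (hR : R ∈ Scheme.fpqcPrecoverage S)
    (h : ∀ ⦃S' : Scheme.{u}⦄ (g : S' ⟶ S), R g → P (snd X (Over.mk g)).left) : P X.hom :=
  prop_of_fpqcPresieve P hP X.hom hR (fun _ g hg => h g hg)

/-- descent of a property of a morphism of `S`-schemes along a covering family of the base. -/
theorem prop_left_of_fpqc_family (P : MorphismProperty Scheme.{u}) [IsZariskiLocalAtTarget P]
    (hP : P.DescendsAlong (@Surjective ⊓ @Flat ⊓ @QuasiCompact : MorphismProperty Scheme.{u}))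
    {A B : Over S} (Φ : A ⟶ B) {R : Presieve S} (hR : R ∈ Scheme.fpqcPrecoverage S)
    (h : ∀ ⦃S' : Scheme.{u}⦄ (g : S' ⟶ S), R g → P (Φ ▷ Over.mk g).left) : P Φ.left := by
  obtain ⟨E, rfl⟩ := R.exists_eq_preZeroHypercover
  let 𝒰 : Scheme.Cover Scheme.fpqcPrecoverage S := ⟨E, hR⟩
  refine prop_of_fpqcCover P hP Φ.left (𝒰.pullback₁ B.hom) (fun i => ?_)
  have hpb := ((isPullback_whiskerRight_fst Φ (Over.mk (E.f i))).map (Over.forget S)).flip
  have hi := h (E.f i) ⟨i⟩
  change P (pullback.snd Φ.left (pullback.fst B.hom (E.f i)))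
  have e := hpb.isoPullback_inv_snd
  dsimp at e
  rw [← e]
  exact (P.cancel_left_of_respectsIso _ _).mpr hi

/-- if `f ▷ X` is an isomorphism and `T` maps to `X`, then `f ▷ T` is an isomorphism. -/
lemma isIso_whiskerRight_of_hom {C : Type*} [Category C] [CartesianMonoidalCategory C]
    {A B X T : C} (f : A ⟶ B) [IsIso (f ▷ X)] (s : T ⟶ X) : IsIso (f ▷ T) := by
  have h1 : (f ▷ T) ≫ (B ◁ s) = (A ◁ s) ≫ (f ▷ X) := (whisker_exchange f s).symm
  have h2 : inv (f ▷ X) ≫ fst A X ≫ f = fst B X := by
    rw [IsIso.inv_comp_eq]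
    simp
  refine ⟨lift ((B ◁ s) ≫ inv (f ▷ X) ≫ fst A X) (snd B T), ?_, ?_⟩
  · apply CartesianMonoidalCategory.hom_ext
    · rw [Category.assoc, lift_fst, ← Category.assoc, h1, Category.assoc,
        IsIso.hom_inv_id_assoc, Category.id_comp]
      simp
    · simp
  · apply CartesianMonoidalCategory.hom_ext
    · rw [Category.assoc, whiskerRight_fst, ← Category.assoc, lift_fst, Category.assoc,
        Category.assoc, h2]
      simp
    · simp

/-- a morphism of `S`-schemes which becomes an isomorphism after base change to a locally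
trivial `S`-scheme is an isomorphism. -/
theorem isIso_of_isIso_whiskerRight_of_locallyTrivial {A B X : Over S} (Φ : A ⟶ B)
    (hX : NonAbH1.IsLocallyTrivialFor Scheme.fpqcPrecoverage X) [IsIso (Φ ▷ X)] : IsIso Φ := by
  obtain ⟨R, hR, hsec⟩ := hX
  have h : IsIso Φ.left := by
    refine prop_left_of_fpqc_family (MorphismProperty.isomorphisms Scheme.{u}) inferInstance Φ hR ?_
    intro S' g hg
    obtain ⟨s, hs⟩ := hsec g hg
    let s' : Over.mk g ⟶ X := Over.homMk s hs
    have : IsIso (Φ ▷ Over.mk g) := isIso_whiskerRight_of_hom Φ s'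
    exact Functor.map_isIso (Over.forget S) (Φ ▷ Over.mk g)
  have h' : IsIso ((Over.forget S).map Φ) := h
  exact isIso_of_reflects_iso Φ (Over.forget S)

/-- a torsor inherits the properties of its group which are local for the flat topology. -/
theorem prop_hom_of_isTorsorFor_fpqc (P : MorphismProperty Scheme.{u}) [IsZariskiLocalAtTarget P]
    [P.IsStableUnderBaseChange]
    (hP : P.DescendsAlong (@Surjective ⊓ @Flat ⊓ @QuasiCompact : MorphismProperty Scheme.{u}))
    {G X : Over S} [GrpObj G] (a : AlgGrp.Action G X)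
    (ha : NonAbH1.IsTorsorFor Scheme.fpqcPrecoverage a) (hG : P G.hom) : P X.hom := by
  obtain ⟨hps, R, hR, hsec⟩ := ha
  have : IsIso (lift a.act (snd G X)) := hps
  refine prop_hom_of_fpqc_family P hP X hR ?_
  intro S' g hg
  obtain ⟨s, hs⟩ := hsec g hg
  let T : Over S := Over.mk g
  let s' : T ⟶ X := Over.homMk s hs
  have hΨ : IsIso (lift ((G ◁ s') ≫ a.act) (snd G T)) := isIso_twisted_shear a.act s'
  set Ψ := lift ((G ◁ s') ≫ a.act) (snd G T) with hΨdef
  have hsnd : Ψ ≫ snd X T = snd G T := by simp [hΨdef]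
  have hsnd' : snd X T = inv Ψ ≫ snd G T := by
    rw [← hsnd, IsIso.inv_hom_id_assoc]
  have hleft : (snd X T).left = (inv Ψ).left ≫ (snd G T).left := by
    rw [hsnd']; rfl
  have : IsIso (inv Ψ).left := Functor.map_isIso (Over.forget S) (inv Ψ)
  have hpbG : IsPullback (fst G T).left (snd G T).left G.hom T.hom := by
    simpa using IsPullback.of_hasPullback G.hom T.hom
  have hs1 : P (snd G T).left := MorphismProperty.of_isPullback (P := P) hpbG hG
  change P (snd X T).left
  rw [hleft]
  exact (P.cancel_left_of_respectsIso _ _).mpr hs1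

end Groth.Agent.H40
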