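import Mathlib
import Groth.Agent.H40.Torsor
import Groth.Agent.H40.FlatDesc

set_option autoImplicit false
universe v u
open CategoryTheory CategoryTheory.Limits AlgebraicGeometry MonoidalCategory CartesianMonoidalCategory

namespace Groth.Agent.H40

/-- fpqc descent for covering families (the argument is the one of `Groth.Agent.S12496`, by helper62). -/
theorem prop_of_fpqcCover
    (P : MorphismProperty Scheme.{u}) [IsZariskiLocalAtTarget P]
    (hP : P.DescendsAlong (@Surjective ⊓ @Flat ⊓ @QuasiCompact : MorphismProperty Scheme.{u}))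
    {X Y : Scheme.{u}} (f : X ⟶ Y) (𝒰 : Scheme.Cover.{v} Scheme.fpqcPrecoverage Y)
    (h : ∀ i : 𝒰.I₀, P (pullback.snd f (𝒰.f i))) : P f := by
  -- key sub-lemma: base change along an open immersion into a member of the cover
  have L : ∀ {W U X'' : Scheme.{u}} (a : W ⟶ U) [IsOpenImmersion a] (b : U ⟶ Y)
      (iX : X'' ⟶ X) (f'' : X'' ⟶ W), IsPullback iX f'' f (a ≫ b) →
      P (pullback.snd f b) → P f'' := by
    intro W U X'' a _ b iX f'' hpb hPb
    have hw : iX ≫ f = (f'' ≫ a) ≫ b := by rw [hpb.w, Category.assoc]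
    have hleft : IsPullback (pullback.lift iX (f'' ≫ a) hw) f'' (pullback.snd f b) a := by
      refine IsPullback.of_right ?_ (pullback.lift_snd _ _ _) (IsPullback.of_hasPullback f b)
      rw [pullback.lift_fst]
      exact hpb
    exact IsZariskiLocalAtTarget.of_isPullback hleft hPb
  rw [IsZariskiLocalAtTarget.iff_of_openCover (P := P) Y.affineCover]
  intro i
  change P (pullback.snd f (Y.affineCover.f i))
  set ι := Y.affineCover.f i with hι
  let 𝒰' : Scheme.Cover Scheme.fpqcPrecoverage (Y.affineCover.X i) :=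
    Precoverage.ZeroHypercover.pullback₁ ι 𝒰
  have hmem : 𝒰'.presieve₀ ∈ Scheme.propQCPrecoverage @Flat (Y.affineCover.X i) := 𝒰'.mem₀
  let 𝒰'' : Scheme.Cover (Scheme.precoverage @Flat) (Y.affineCover.X i) :=
    { toPreZeroHypercover := 𝒰'.toPreZeroHypercover
      mem₀ := hmem.2 }
  have : QuasiCompactCover 𝒰''.toPreZeroHypercover := by
    rw [← Scheme.presieve₀_mem_qcPrecoverage_iff]
    exact hmem.1
  obtain ⟨𝒱, r, hfin, hopen⟩ := QuasiCompactCover.exists_hom (P := @Flat) 𝒰''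
  let 𝒲 := 𝒱.cover
  have : Finite 𝒲.I₀ := hfin
  let g : (∐ fun l : 𝒲.I₀ => 𝒲.X l) ⟶ Y.affineCover.X i := Sigma.desc fun l => 𝒲.f l
  have hgι : ∀ l, Sigma.ι (fun l : 𝒲.I₀ => 𝒲.X l) l ≫ g = 𝒲.f l := fun l => Sigma.ι_desc _ _
  have hg : (@Surjective ⊓ @Flat ⊓ @QuasiCompact : MorphismProperty Scheme.{u}) g := by
    refine ⟨⟨⟨fun x => ?_⟩, ?_⟩, ?_⟩
    · obtain ⟨l, y, rfl⟩ := 𝒲.exists_eq x
      refine ⟨Sigma.ι (fun l : 𝒲.I₀ => 𝒲.X l) l y, ?_⟩
      rw [← Scheme.Hom.comp_apply, hgι]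
    · rw [IsZariskiLocalAtSource.iff_of_openCover (P := @Flat) (sigmaOpenCover _)]
      intro l
      change Flat (Sigma.ι (fun l : 𝒲.I₀ => 𝒲.X l) l ≫ g)
      rw [hgι]
      exact 𝒲.map_prop l
    · have : ∀ l, IsAffine (𝒲.X l) := fun l => by
        change IsAffine (Spec _)
        infer_instance
      change QuasiCompact g
      infer_instance
  refine MorphismProperty.of_pullback_snd_of_descendsAlong (P := P)
    (Q := (@Surjective ⊓ @Flat ⊓ @QuasiCompact : MorphismProperty Scheme.{u}))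
    (f := pullback.snd f ι) (g := g) hg ?_
  rw [IsZariskiLocalAtTarget.iff_of_openCover (P := P) (sigmaOpenCover fun l : 𝒲.I₀ => 𝒲.X l)]
  intro l
  change P (pullback.snd (pullback.snd (pullback.snd f ι) g)
    (Sigma.ι (fun l : 𝒲.I₀ => 𝒲.X l) l))
  -- the open immersion into a member of the original cover
  let j : 𝒰.I₀ := r.s₀ l
  let r' : 𝒲.X l ⟶ pullback ι (𝒰.f j) := r.h₀ l
  have hr' : IsOpenImmersion r' := hopen l
  let a : 𝒲.X l ⟶ 𝒰.X j := r' ≫ pullback.snd ι (𝒰.f j)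
  have : IsOpenImmersion a := by
    change IsOpenImmersion (r' ≫ pullback.snd ι (𝒰.f j))
    infer_instance
  have hw : r' ≫ pullback.fst ι (𝒰.f j) = 𝒲.f l := r.w₀ l
  have hab : (Sigma.ι (fun l : 𝒲.I₀ => 𝒲.X l) l ≫ g) ≫ ι = a ≫ 𝒰.f j := by
    rw [hgι]
    calc 𝒲.f l ≫ ι = (r' ≫ pullback.fst ι (𝒰.f j)) ≫ ι := by rw [hw]
      _ = r' ≫ (pullback.fst ι (𝒰.f j) ≫ ι) := Category.assoc _ _ _
      _ = r' ≫ (pullback.snd ι (𝒰.f j) ≫ 𝒰.f j) := by rw [pullback.condition]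
      _ = a ≫ 𝒰.f j := (Category.assoc _ _ _).symm
  have h3 := IsPullback.of_hasPullback (pullback.snd (pullback.snd f ι) g)
    (Sigma.ι (fun l : 𝒲.I₀ => 𝒲.X l) l)
  have h2 := IsPullback.of_hasPullback (pullback.snd f ι) g
  have h1 := IsPullback.of_hasPullback f ι
  have hbig := (h3.paste_horiz h2).paste_horiz h1
  rw [hab] at hbig
  exact L a (𝒰.f j) _ _ hbig (h j)

theorem prop_of_fpqcPresieve
    (P : MorphismProperty Scheme.{u}) [IsZariskiLocalAtTarget P]
    (hP : P.DescendsAlong (@Surjective ⊓ @Flat ⊓ @QuasiCompact : MorphismProperty Scheme.{u}))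
    {X Y : Scheme.{u}} (f : X ⟶ Y) {R : Presieve Y} (hR : R ∈ Scheme.fpqcPrecoverage Y)
    (h : ∀ ⦃U : Scheme.{u}⦄ (g : U ⟶ Y), R g → P (pullback.snd f g)) : P f := by
  obtain ⟨E, rfl⟩ := R.exists_eq_preZeroHypercover
  exact prop_of_fpqcCover P hP f ⟨E, hR⟩ (fun i => h _ ⟨i⟩)

end Groth.Agent.H40
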