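import Groth.Prelude.Def_AlgGrp

set_option autoImplicit false
universe u

open CategoryTheory MonoidalCategory CartesianMonoidalCategory MonObj AlgebraicGeometry

namespace Groth.Agent.H40

variable {S : Scheme.{u}} {G X : Over S} [GrpObj G]

/-- the action on `T`-points. -/
noncomputable def psmul (a : AlgGrp.Action G X) {T : Over S} (g : T ⟶ G) (x : T ⟶ X) : T ⟶ X :=
  lift g x ≫ a.act

lemma psmul_def (a : AlgGrp.Action G X) {T : Over S} (g : T ⟶ G) (x : T ⟶ X) :
    psmul a g x = lift g x ≫ a.act := rfl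

lemma comp_psmul (a : AlgGrp.Action G X) {T T' : Over S} (p : T' ⟶ T) (g : T ⟶ G) (x : T ⟶ X) :
    p ≫ psmul a g x = psmul a (p ≫ g) (p ≫ x) := by
  rw [psmul_def, psmul_def, ← Category.assoc, comp_lift]

lemma one_psmul (a : AlgGrp.Action G X) {T : Over S} (x : T ⟶ X) :
    psmul a (1 : T ⟶ G) x = x := by
  have h : lift (1 : T ⟶ G) x = lift (toUnit T) x ≫ (η[G] ▷ X) := by
    apply CartesianMonoidalCategory.hom_ext <;> simp [Hom.one_def]
  rw [psmul_def, h, Category.assoc, a.one_act]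
  simp

lemma mul_psmul (a : AlgGrp.Action G X) {T : Over S} (g h : T ⟶ G) (x : T ⟶ X) :
    psmul a (g * h) x = psmul a g (psmul a h x) := by
  have h1 : lift (g * h) x = lift (lift g h) x ≫ (μ[G] ▷ X) := by
    apply CartesianMonoidalCategory.hom_ext <;> simp [Hom.mul_def]
  have h2 : lift (lift g h) x ≫ (α_ G G X).hom ≫ (G ◁ a.act) = lift g (lift h x ≫ a.act) := by
    apply CartesianMonoidalCategory.hom_ext <;> simp
  rw [psmul_def, h1, Category.assoc, a.mul_act, psmul_def, psmul_def, ← h2]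
  simp only [Category.assoc]

lemma comp_orbitMap (a : AlgGrp.Action G X) (o : 𝟙_ (Over S) ⟶ X) {T : Over S} (g : T ⟶ G) :
    g ≫ a.orbitMap o = psmul a g (toUnit T ≫ o) := by
  rw [AlgGrp.Action.orbitMap, psmul_def, ← Category.assoc, comp_lift]
  congr 2
  · simp

lemma inv_psmul_psmul (a : AlgGrp.Action G X) {T : Over S} (g : T ⟶ G) (x : T ⟶ X) :
    psmul a g⁻¹ (psmul a g x) = x := by
  rw [← mul_psmul, inv_mul_cancel, one_psmul]

lemma psmul_inv_psmul (a : AlgGrp.Action G X) {T : Over S} (g : T ⟶ G) (x : T ⟶ X) :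
    psmul a g (psmul a g⁻¹ x) = x := by
  rw [← mul_psmul, mul_inv_cancel, one_psmul]

end Groth.Agent.H40
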