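import Mathlib.AlgebraicGeometry.IdealSheaf.Subscheme
import Mathlib.AlgebraicGeometry.Morphisms.ClosedImmersion
import Mathlib.AlgebraicGeometry.Properties

set_option autoImplicit false
universe u

open CategoryTheory AlgebraicGeometry

namespace Groth.Agent.H40

/-- a scheme with trivial nilradical is reduced. -/
theorem isReduced_of_nilradical_eq_bot (X : Scheme.{u}) (h : X.nilradical = ⊥) : IsReduced X := by
  have hU : ∀ U : X.affineOpens, _root_.IsReduced Γ(X, U.1) := by
    intro U
    have h1 : X.nilradical.ideal U = ⊥ := by rw [h]; rfl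
    rw [Scheme.nilradical, Scheme.IdealSheafData.radical_ideal] at h1
    have h2 : nilradical Γ(X, U.1) = ⊥ := by
      rw [nilradical]
      exact h1
    exact nilradical_eq_bot_iff.mp h2
  have : ∀ i, IsReduced ((X.openCoverOfIsOpenCover _ (iSup_affineOpens_eq_top X)).X i) := by
    intro U
    have : IsAffine ((X.openCoverOfIsOpenCover _ (iSup_affineOpens_eq_top X)).X U) := U.2
    have : _root_.IsReduced Γ((X.openCoverOfIsOpenCover _ (iSup_affineOpens_eq_top X)).X U, ⊤) := by
      have e := (Scheme.Opens.topIso U.1).commRingCatIsoToRingEquiv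
      have := hU U
      exact isReduced_of_injective e.toRingHom e.injective
    exact isReduced_of_isAffine_isReduced _
  exact IsReduced.of_openCover X (X.openCoverOfIsOpenCover _ (iSup_affineOpens_eq_top X))

/-- a morphism from a reduced scheme kills the nilradical. -/
theorem nilradical_le_ker {X Y : Scheme.{u}} [IsReduced X] (f : X ⟶ Y) :
    Y.nilradical ≤ f.ker := by
  rw [Scheme.Hom.ker, Scheme.IdealSheafData.le_ofIdeals_iff]
  intro U s hs
  rw [Scheme.nilradical, Scheme.IdealSheafData.radical_ideal] at hs
  obtain ⟨n, hn⟩ := hs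
  have hn' : s ^ n = 0 := hn
  rw [RingHom.mem_ker]
  have : ((f.app U.1).hom s) ^ n = 0 := by rw [← map_pow, hn', map_zero]
  exact IsReduced.eq_zero _ ⟨n, this⟩

end Groth.Agent.H40
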