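import Groth.Agent.H40.QuotShLoc
import Groth.Agent.H40.FpqcFam
import Mathlib.CategoryTheory.EquivalenceRelation
import Mathlib.CategoryTheory.Sites.SubcanonicalOver
import Mathlib.CategoryTheory.Limits.Shapes.KernelPair

/-!
# Quotient sheaves of schemes: kernel pairs, local sections and descent of properties
-/

set_option autoImplicit false
universe u
open CategoryTheory Limits Opposite AlgebraicGeometry

namespace Groth.Agent.H40.QuotShLoc

variable (K : Precoverage Scheme.{u}) {S : Scheme.{u}} {R U M : Over S} (s t : R ⟶ U)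

omit s t in
lemma repMap_comp {V W X : Over S} (g : V ⟶ W) (h : W ⟶ X) :
    QuotSh.repMap K (g ≫ h) = QuotSh.repMap K g ≫ QuotSh.repMap K h := by
  change (presheafToSheaf _ _).map (Pmap (g ≫ h)) = _
  rw [Pmap_comp, Functor.map_comp]

/-- a quotient presentation of `M` gives a unique descent of coequalizing maps out of `h_U`. -/
theorem existsUnique_desc_of_isQuotient {q : U ⟶ M} (hq : QuotSh.IsQuotient K s t q)
    {F : QuotSh.Sh K S} (g : QuotSh.rep K U ⟶ F)
    (hg : QuotSh.repMap K s ≫ g = QuotSh.repMap K t ≫ g) :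
    ∃! σ : QuotSh.rep K M ⟶ F, QuotSh.repMap K q ≫ σ = g := by
  obtain ⟨w, hiso⟩ := hq
  have hπ : QuotSh.quotπ K s t ≫ QuotSh.quotDesc K q w = QuotSh.repMap K q :=
    coequalizer.π_desc _ _
  have hπ' : QuotSh.repMap K q ≫ inv (QuotSh.quotDesc K q w) = QuotSh.quotπ K s t := by
    rw [← hπ, Category.assoc, IsIso.hom_inv_id, Category.comp_id]
  have hepi : Epi (QuotSh.repMap K q) := by
    rw [← hπ]
    have : Epi (QuotSh.quotπ K s t) := by
      unfold QuotSh.quotπ
      exact coequalizer.π_epi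
    exact epi_comp _ _
  refine ⟨inv (QuotSh.quotDesc K q w) ≫ coequalizer.desc g hg, ?_, ?_⟩
  · change QuotSh.repMap K q ≫ inv (QuotSh.quotDesc K q w) ≫ coequalizer.desc g hg = g
    rw [← Category.assoc, hπ']
    exact coequalizer.π_desc _ _
  · intro σ hσ
    rw [← cancel_epi (QuotSh.repMap K q), hσ, ← Category.assoc, hπ']
    exact (coequalizer.π_desc _ _).symm

/-- points of `M` lift locally through a morphism all of whose base changes are coverings. -/
lemma liftSieve_mem_of_cover (q : U ⟶ M)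
    (hq : ∀ {Z : Scheme.{u}} (g : Z ⟶ M.left), Presieve.singleton (pullback.fst g q.left) ∈ K Z)
    {T : Over S} (y : T ⟶ M) : liftSieve q y ∈ QuotSh.J K S T := by
  rw [GrothendieckTopology.mem_over_iff]
  refine GrothendieckTopology.superset_covering _ ?_
    (Precoverage.generate_mem_toGrothendieck (hq y.left))
  rintro Z f ⟨W, h, p, ⟨⟩, rfl⟩
  rw [Sieve.overEquiv_iff]
  have hw : (h ≫ pullback.snd y.left q.left) ≫ U.hom = (h ≫ pullback.fst y.left q.left) ≫ T.hom := by
    rw [Category.assoc, Category.assoc, ← Over.w q, ← pullback.condition_assoc, Over.w y]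
  refine ⟨Over.homMk (h ≫ pullback.snd y.left q.left) hw, ?_⟩
  apply Over.OverMorphism.ext
  simp [pullback.condition]

/-- a morphism with kernel pair `(s, t)` through which points lift locally is the quotient. -/
theorem isQuotient_of_isKernelPair (q : U ⟶ M) (hk : IsKernelPair q s t)
    (hq : ∀ (T : Over S) (y : T ⟶ M), liftSieve q y ∈ QuotSh.J K S T) :
    QuotSh.IsQuotient K s t q := by
  rw [isQuotient_iff]
  refine ⟨hk.w, hq, fun T a b hab => ?_⟩
  convert (QuotSh.J K S).top_mem T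
  ext T' f
  simp only [Sieve.top_apply, iff_true]
  have hab' : (f ≫ a) ≫ q = (f ≫ b) ≫ q := by rw [Category.assoc, Category.assoc, hab]
  exact .rel _ _ ⟨hk.lift (f ≫ a) (f ≫ b) hab', hk.lift_fst _ _ _, hk.lift_snd _ _ _⟩

section Equiv
variable [IsEquivalenceRelation s t]

lemma jointly_mono {T : Over S} (r r' : T ⟶ R) (h1 : r ≫ s = r' ≫ s) (h2 : r ≫ t = r' ≫ t) :
    r = r' := by
  obtain ⟨⟨e⟩⟩ := (inferInstance : IsEquivalenceRelation s t)
  exact e.right_cancellation r r' h1 h2

lemma pRel_of_eqvGen {T : Over S} {a b : T ⟶ U} (h : Relation.EqvGen (PRel s t T) a b) :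
    PRel s t T a b := by
  obtain ⟨⟨e⟩⟩ := (inferInstance : IsEquivalenceRelation s t)
  induction h with
  | rel x y hxy => exact hxy
  | refl x => exact ⟨x ≫ e.r, by simp, by simp⟩
  | symm x y _ ih =>
    obtain ⟨r, rfl, rfl⟩ := ih
    exact ⟨r ≫ e.s, by rw [Category.assoc, e.symmetry₁], by rw [Category.assoc, e.symmetry₂]⟩
  | trans x y z _ _ ih1 ih2 =>
    obtain ⟨r, rfl, hr⟩ := ih1
    obtain ⟨r', hr', rfl⟩ := ih2
    refine ⟨PullbackCone.IsLimit.lift e.isLimit r r' (hr.trans hr'.symm) ≫ e.t, ?_, ?_⟩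
    · rw [Category.assoc, e.transitivity₁, PullbackCone.IsLimit.lift_fst_assoc]
    · rw [Category.assoc, e.transitivity₂, PullbackCone.IsLimit.lift_snd_assoc]

theorem exists_rel_of_relSieve_mem [(QuotSh.J K S).Subcanonical] {T : Over S} (a b : T ⟶ U)
    (h : relSieve s t a b ∈ QuotSh.J K S T) : PRel s t T a b := by
  classical
  have hR : Presieve.IsSheaf (QuotSh.J K S) (yoneda.obj R) :=
    GrothendieckTopology.Subcanonical.isSheaf_of_isRepresentable (yoneda.obj R)
  have hU : Presieve.IsSheaf (QuotSh.J K S) (yoneda.obj U) :=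
    GrothendieckTopology.Subcanonical.isSheaf_of_isRepresentable (yoneda.obj U)
  have hex : ∀ ⦃T' : Over S⦄ (f : T' ⟶ T), relSieve s t a b f →
      ∃ r : T' ⟶ R, r ≫ s = f ≫ a ∧ r ≫ t = f ≫ b := fun T' f hf => pRel_of_eqvGen s t hf
  let x : Presieve.FamilyOfElements (yoneda.obj R) (relSieve s t a b).arrows :=
    fun T' f hf => (hex f hf).choose
  have hx1 : ∀ ⦃T' : Over S⦄ (f : T' ⟶ T) (hf : relSieve s t a b f), x f hf ≫ s = f ≫ a :=
    fun T' f hf => (hex f hf).choose_spec.1
  have hx2 : ∀ ⦃T' : Over S⦄ (f : T' ⟶ T) (hf : relSieve s t a b f), x f hf ≫ t = f ≫ b :=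
    fun T' f hf => (hex f hf).choose_spec.2
  have hx : x.Compatible := by
    intro Y₁ Y₂ Z g₁ g₂ f₁ f₂ h₁ h₂ e
    change g₁ ≫ x f₁ h₁ = g₂ ≫ x f₂ h₂
    apply jointly_mono s t
    · rw [Category.assoc, Category.assoc, hx1 f₁ h₁, hx1 f₂ h₂, ← Category.assoc,
        ← Category.assoc, e]
    · rw [Category.assoc, Category.assoc, hx2 f₁ h₁, hx2 f₂ h₂, ← Category.assoc,
        ← Category.assoc, e]
  let r : T ⟶ R := (hR _ h).amalgamate x hx
  have hr : ∀ ⦃T' : Over S⦄ (f : T' ⟶ T) (hf : relSieve s t a b f), f ≫ r = x f hf :=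
    fun T' f hf => (hR _ h).valid_glue hx f hf
  refine ⟨r, ?_, ?_⟩
  · apply (hU _ h).isSeparatedFor.ext
    intro T' f hf
    change f ≫ r ≫ s = f ≫ a
    rw [← Category.assoc, hr f hf, hx1 f hf]
  · apply (hU _ h).isSeparatedFor.ext
    intro T' f hf
    change f ≫ r ≫ t = f ≫ b
    rw [← Category.assoc, hr f hf, hx2 f hf]

/-- if `q` exhibits `M` as the quotient sheaf of an equivalence relation, then `(s, t)` is the
kernel pair of `q`. -/
theorem isKernelPair_of_isQuotient [(QuotSh.J K S).Subcanonical] (q : U ⟶ M)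
    (h : QuotSh.IsQuotient K s t q) : IsKernelPair q s t := by
  classical
  rw [isQuotient_iff] at h
  obtain ⟨w, -, h3⟩ := h
  have hex : ∀ (c : PullbackCone q q), ∃ r : c.pt ⟶ R, r ≫ s = c.fst ∧ r ≫ t = c.snd :=
    fun c => exists_rel_of_relSieve_mem K s t c.fst c.snd (h3 _ _ _ c.condition)
  refine IsPullback.of_isLimit (c := PullbackCone.mk s t w) ?_
  refine PullbackCone.IsLimit.mk w (fun c => (hex c).choose) (fun c => (hex c).choose_spec.1)
    (fun c => (hex c).choose_spec.2) ?_
  intro c m hm1 hm2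
  apply jointly_mono s t
  · rw [hm1, (hex c).choose_spec.1]
  · rw [hm2, (hex c).choose_spec.2]

end Equiv

/-- local sections, as a covering family of the precoverage. -/
theorem exists_presieve_of_liftSieve_mem [K.IsStableUnderComposition] [K.IsStableUnderBaseChange]
    [K.HasIsos] (q : U ⟶ M) (hq : liftSieve q (𝟙 M) ∈ QuotSh.J K S M) :
    ∃ Rc ∈ K M.left, ∀ ⦃Z : Scheme.{u}⦄ (g : Z ⟶ M.left), Rc g →
      ∃ a : Z ⟶ U.left, a ≫ q.left = g := by
  rw [GrothendieckTopology.mem_over_iff,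
    Precoverage.mem_toGrothendieck_iff_of_isStableUnderComposition] at hq
  obtain ⟨Rc, hRc, hle⟩ := hq
  refine ⟨Rc, hRc, fun Z g hg => ?_⟩
  have := hle _ _ hg
  rw [Sieve.overEquiv_iff] at this
  obtain ⟨a, ha⟩ := this
  refine ⟨a.left, ?_⟩
  have := congr(($ha).left)
  simpa using this

/-- descent of a property of `s` to `q`, given that `(s, t)` is the kernel pair of `q` and `q` has
sections locally for the fpqc topology. -/
theorem prop_of_isKernelPair_of_local_sections
    (P : MorphismProperty Scheme.{u}) [IsZariskiLocalAtTarget P] [P.IsStableUnderBaseChange]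
    (hP : P.DescendsAlong (@Surjective ⊓ @Flat ⊓ @QuasiCompact : MorphismProperty Scheme.{u}))
    (q : U ⟶ M) (hk : IsKernelPair q s t) {Rc : Presieve M.left}
    (hRc : Rc ∈ Scheme.fpqcPrecoverage M.left)
    (hsec : ∀ ⦃Z : Scheme.{u}⦄ (g : Z ⟶ M.left), Rc g → ∃ a : Z ⟶ U.left, a ≫ q.left = g)
    (hs : P s.left) : P q.left := by
  refine prop_of_fpqcPresieve P hP q.left hRc ?_
  intro Z g hg
  obtain ⟨a, rfl⟩ := hsec g hg
  have hk' : IsPullback s.left t.left q.left q.left := hk.map (Over.forget S)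
  have h1 : IsPullback (pullback.snd a s.left) (pullback.fst a s.left) s.left a :=
    (IsPullback.of_hasPullback a s.left).flip
  have h2 := h1.paste_horiz hk'.flip
  have h3 : P (pullback.fst a s.left) := P.of_isPullback h1 hs
  have e := h2.isoPullback_hom_snd
  rw [← e] at h3
  exact (P.cancel_left_of_respectsIso _ _).1 h3

end Groth.Agent.H40.QuotShLoc
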