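import Groth.Agent.H40.GeomQuot
import Groth.Agent.H40.QuotShDesc
import Groth.Agent.H40.ActPts

/-!
# The relation defined by a group action on points; sheaf quotients are geometric quotients
-/

set_option autoImplicit false
set_option backward.isDefEq.respectTransparency.types false
universe u
open CategoryTheory CategoryTheory.Limits MonoidalCategory CartesianMonoidalCategory MonObj GrpObj
  AlgebraicGeometry

namespace Groth.Agent.H40

open QuotShLoc

variable {S : Scheme.{u}} {G X Y : Over S} [GrpObj G]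

lemma pRel_act_iff (a : AlgGrp.Action G X) {T : Over S} (x y : T ⟶ X) :
    PRel a.act (snd G X) T x y ↔ ∃ g : T ⟶ G, psmul a g y = x := by
  constructor
  · rintro ⟨r, rfl, rfl⟩
    refine ⟨r ≫ fst G X, ?_⟩
    rw [psmul_def]
    congr 1
    apply CartesianMonoidalCategory.hom_ext <;> simp
  · rintro ⟨g, rfl⟩
    exact ⟨lift g y, rfl, lift_snd _ _⟩

lemma pRel_act_of_eqvGen (a : AlgGrp.Action G X) {T : Over S} {x y : T ⟶ X}
    (h : Relation.EqvGen (PRel a.act (snd G X) T) x y) : PRel a.act (snd G X) T x y := by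
  induction h with
  | rel x y hxy => exact hxy
  | refl x => exact (pRel_act_iff a x x).2 ⟨1, one_psmul a x⟩
  | symm x y _ ih =>
    obtain ⟨g, rfl⟩ := (pRel_act_iff a _ _).1 ih
    exact (pRel_act_iff a _ _).2 ⟨g⁻¹, inv_psmul_psmul a g y⟩
  | trans x y z _ _ ih1 ih2 =>
    obtain ⟨g, rfl⟩ := (pRel_act_iff a _ _).1 ih1
    obtain ⟨h, rfl⟩ := (pRel_act_iff a _ _).1 ih2
    exact (pRel_act_iff a _ _).2 ⟨g * h, mul_psmul a g h z⟩

/-- a quotient of sheaves (for a topology coarser than fpqc) by a group action is a geometric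
quotient. -/
theorem isGeomQuot_of_isQuotient (K : Precoverage Scheme.{u}) [K.IsStableUnderComposition]
    [K.IsStableUnderBaseChange] [K.HasIsos] (hK : K ≤ Scheme.fpqcPrecoverage)
    (a : AlgGrp.Action G X) (q : X ⟶ Y)
    (hq : QuotSh.IsQuotient K a.act (snd G X) q) : GIT.IsGeomQuot a q := by
  rw [isQuotient_iff] at hq
  obtain ⟨hinv, hlift, hrel⟩ := hq
  refine isGeomQuot_of_local a q hinv ?_ ?_
  · obtain ⟨Rc, hRc, hs⟩ := exists_presieve_of_liftSieve_mem K q (hlift Y (𝟙 Y))
    exact ⟨Rc, hK _ hRc, fun Z g hg => hs g hg⟩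
  · intro Z z₁ z₂ h12
    have hw : z₂ ≫ X.hom = z₁ ≫ X.hom := by
      rw [← Over.w q, ← Category.assoc, ← h12, Category.assoc]
    have hmem := hrel (Over.mk (z₁ ≫ X.hom)) (Over.homMk z₁ rfl) (Over.homMk z₂ hw) (by
      ext
      exact h12)
    rw [GrothendieckTopology.mem_over_iff,
      Precoverage.mem_toGrothendieck_iff_of_isStableUnderComposition] at hmem
    obtain ⟨Rc, hRc, hle⟩ := hmem
    have hRc' : Rc ∈ Scheme.fpqcPrecoverage Z := hK _ hRc
    obtain ⟨E, rfl⟩ := Rc.exists_eq_preZeroHypercover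
    refine ⟨⟨E, hRc'⟩, fun i => ?_⟩
    have hi := hle _ _ (⟨i⟩ : E.presieve₀ (E.f i))
    rw [Sieve.overEquiv_iff] at hi
    obtain ⟨r, hr1, hr2⟩ := pRel_act_of_eqvGen a hi
    refine ⟨r.left, ?_, ?_⟩
    · have := congrArg CommaMorphism.left hr1
      exact this
    · have := congrArg CommaMorphism.left hr2
      exact this

end Groth.Agent.H40
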