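import Groth.Agent.H40.GLnPts
import Groth.Prelude.Def_AGF

/-!
# Points of a base change of `GL_n` as matrices; conjugation on points
-/

set_option autoImplicit false
universe u

open CategoryTheory AlgebraicGeometry CategoryTheory.Limits MonoidalCategory
  CartesianMonoidalCategory MonObj
open Groth.Agent.H42
open scoped TensorProduct

namespace Groth.Agent.H40.GLnPts

open CoordGrp SpecPts

section BcGen

variable {S' S : Scheme.{u}} (f : S' ⟶ S) (G : Over S) [GrpObj G]

theorem bcPt_one' {X : Over S'} : bcPt f G (1 : X ⟶ Red.bc f G) = 1 := by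
  have h := bcPt_mul f G (1 : X ⟶ Red.bc f G) 1
  rw [_root_.mul_one] at h
  exact (mul_eq_left (a := bcPt f G (1 : X ⟶ Red.bc f G))).mp h.symm

theorem bcPt_comp {X X' : Over S'} (h : X' ⟶ X) (x : X ⟶ Red.bc f G) :
    bcPt f G (h ≫ x) = (Over.map f).map h ≫ bcPt f G x := by
  ext
  simp [bcPt_left]

end BcGen

section BC

variable {R : Type u} [CommRing R] {n : ℕ} {S' : Scheme.{u}} (f : S' ⟶ Spec (CommRingCat.of R))
  {X : Over S'}

/-- the matrix of a point of a base change of `GL_n`. -/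
noncomputable def glMatB (x : X ⟶ Red.bc f (CoactBr.sp R (GLn n R))) :
    Matrix (Fin n) (Fin n) Γ(X.left, ⊤) :=
  glMat (bcPt f (CoactBr.sp R (GLn n R)) x)

theorem glMatB_mul (x y : X ⟶ Red.bc f (CoactBr.sp R (GLn n R))) :
    glMatB f (x * y) = glMatB f x * glMatB f y := by
  unfold glMatB
  rw [bcPt_mul, glMat_mul]

theorem glMatB_one : glMatB f (1 : X ⟶ Red.bc f (CoactBr.sp R (GLn n R))) = 1 := by
  unfold glMatB
  rw [bcPt_one', glMat_one]

theorem glMatB_injective : Function.Injective (glMatB (n := n) f (X := X)) := by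
  intro x y h
  exact bcPt_injective _ _ (glMat_injective h)

theorem glMatB_surjective (M : Matrix (Fin n) (Fin n) Γ(X.left, ⊤)) (hM : IsUnit M.det) :
    ∃ x : X ⟶ Red.bc f (CoactBr.sp R (GLn n R)), glMatB f x = M := by
  obtain ⟨c, hc⟩ := glMat_surjective (Y := (Over.map f).obj X) M hM
  obtain ⟨x, hx⟩ := bcPt_surjective f (CoactBr.sp R (GLn n R)) c
  exact ⟨x, by unfold glMatB; rw [hx, hc]⟩

theorem glMatB_comp {X' : Over S'} (h : X' ⟶ X) (x : X ⟶ Red.bc f (CoactBr.sp R (GLn n R))) :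
    glMatB f (h ≫ x) = (glMatB f x).map h.left.appTop := by
  unfold glMatB
  rw [bcPt_comp, glMat_comp]
  rfl

theorem glMatB_map {H : Over (Spec (CommRingCat.of R))} [GrpObj H]
    (ρ : H ⟶ CoactBr.sp R (GLn n R)) (x : X ⟶ Red.bc f H) :
    glMatB f (x ≫ (Over.pullback f).map ρ) = glMat (bcPt f H x ≫ ρ) := by
  unfold glMatB
  rw [bcPt_map]

theorem glMatB_inv_mul (x : X ⟶ Red.bc f (CoactBr.sp R (GLn n R))) :
    glMatB f x⁻¹ * glMatB f x = 1 := by
  rw [← glMatB_mul, inv_mul_cancel, glMatB_one]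

theorem glMatB_mul_inv (x : X ⟶ Red.bc f (CoactBr.sp R (GLn n R))) :
    glMatB f x * glMatB f x⁻¹ = 1 := by
  rw [← glMatB_mul, mul_inv_cancel, glMatB_one]

end BC

section Conj

variable {S : Scheme.{u}} {G H X : Over S} [GrpObj G]

theorem comp_conjBy (g : 𝟙_ (Over S) ⟶ G) (i : H ⟶ G) (x : X ⟶ H) :
    x ≫ AGF.conjBy g i = (toUnit X ≫ g) * (x ≫ i) * (toUnit X ≫ g)⁻¹ := by
  unfold AGF.conjBy
  rw [MonObj.comp_mul, MonObj.comp_mul, GrpObj.comp_inv, ← Category.assoc,
    toUnit_unique (x ≫ toUnit H) (toUnit X)]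

end Conj

end Groth.Agent.H40.GLnPts
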