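import Mathlib.CategoryTheory.Monoidal.Cartesian.Grp
import Mathlib.CategoryTheory.Monoidal.Cartesian.Over

set_option autoImplicit false
universe u v

open CategoryTheory MonoidalCategory CartesianMonoidalCategory MonObj

namespace Groth.Agent.H40

variable {C : Type u} [Category.{v} C] [CartesianMonoidalCategory C]

/-- a morphism of monoid objects which is multiplicative on points is a homomorphism. -/
lemma isMonHom_of_points {G Q : C} [MonObj G] [MonObj Q] (φ : G ⟶ Q)
    (h1 : (1 : 𝟙_ C ⟶ G) ≫ φ = 1)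
    (hmul : ∀ (T : C) (g g' : T ⟶ G), (g * g') ≫ φ = (g ≫ φ) * (g' ≫ φ)) : IsMonHom φ where
  one_hom := by
    have e : ∀ (M : C) [MonObj M], (1 : 𝟙_ C ⟶ M) = η[M] := by
      intro M _
      rw [Hom.one_def, toUnit_unique (toUnit (𝟙_ C)) (𝟙 _), Category.id_comp]
    rw [← e G, h1, e Q]
  mul_hom := by
    have e1 : μ[G] = fst G G * snd G G := by
      rw [Hom.mul_def, lift_fst_snd, Category.id_comp]
    have e2 : (φ ⊗ₘ φ) ≫ μ[Q] = (fst G G ≫ φ) * (snd G G ≫ φ) := by
      rw [Hom.mul_def]
      congr 1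
      apply CartesianMonoidalCategory.hom_ext <;> simp
    rw [e2, e1, hmul]

end Groth.Agent.H40
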