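import Groth.Agent.H40.GammaCoalg
import Groth.Agent.H40.GLnPtsBC
import Groth.Agent.H40.GrpPts
import Groth.Agent.H27.MatCorep
import Groth.Agent.H42.AntiAffConst
import Groth.Prelude.Def_FrameBundle

/-!
# Every global function on a qcqs group scheme over a field is a matrix coefficient
-/

set_option autoImplicit false
universe u
open CategoryTheory AlgebraicGeometry CategoryTheory.Limits MonoidalCategory
  CartesianMonoidalCategory MonObj GrpObj
open Groth.Agent.H42 Groth.Agent.H40.GLnPts
open scoped TensorProduct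

namespace Groth.Agent.H40.Kunneth

variable {k : Type u} [Field k]

local notation "tk" => IsTerminal.from specULiftZIsTerminal (Spec (CommRingCat.of k))

section Rep

variable (G : Over (Spec (CommRingCat.of k))) [GrpObj G] [QuasiCompact G.hom] [QuasiSeparated G.hom]

/-- every global function on `G` lies in the span of the matrix coefficients of a representation. -/
theorem exists_rep (a : Γ(G.left, ⊤)) :
    ∃ (n : ℕ) (ρ : G ⟶ FrB.GLn n (Spec (CommRingCat.of k))), IsMonHom ρ ∧
      a ∈ Submodule.span k (Set.range fun p : Fin n × Fin n => glMatB tk ρ p.1 p.2) := by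
  classical
  letI := coalgΓ G
  obtain ⟨B, hfin, hs, hB⟩ := Groth.Agent.S8220.result (k := k) (A := Γ(G.left, ⊤)) {a}
  obtain ⟨n, M, hΔ, hε, hspan⟩ := Groth.Agent.H27.MatCorep.exists_matrix_corep B hB
  have hmul : ∀ {Z : Over (Spec (CommRingCat.of k))} (x y : Z ⟶ G),
      M.map (pbA (x * y)) = M.map (pbA x) * M.map (pbA y) := by
    intro Z x y
    ext i j
    rw [Matrix.map_apply, pbA_mul]
    have := hΔ i j
    change comulΓ G (M i j) = _ at this
    rw [this, map_sum, Matrix.mul_apply]
    refine Finset.sum_congr rfl fun l _ => ?_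
    rw [Algebra.TensorProduct.productMap_apply_tmul, Matrix.map_apply, Matrix.map_apply]
  have hone : ∀ {Z : Over (Spec (CommRingCat.of k))}, M.map (pbA (1 : Z ⟶ G)) = 1 := by
    intro Z
    ext i j
    rw [Matrix.map_apply, pbA_one]
    have := hε i j
    change counitΓ G (M i j) = _ at this
    rw [this, Matrix.one_apply]
    split_ifs <;> simp
  have hid : M.map (pbA (𝟙 G)) = M := by
    ext i j
    rw [Matrix.map_apply, pbA_id]
  have hdet : IsUnit M.det := by
    apply Matrix.isUnit_det_of_right_inverse (B := M.map (pbA (𝟙 G)⁻¹))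
    have h := hmul (𝟙 G) (𝟙 G)⁻¹
    rw [mul_inv_cancel, hone, hid] at h
    exact h.symm
  obtain ⟨ρ, hρ⟩ := glMatB_surjective (n := n) tk (X := G) M hdet
  have hcomp : ∀ {Z : Over (Spec (CommRingCat.of k))} (x : Z ⟶ G),
      glMatB tk (x ≫ ρ) = M.map (pbA x) := by
    intro Z x
    rw [glMatB_comp, hρ]
    rfl
  refine ⟨n, ρ, ?_, ?_⟩
  · apply isMonHom_of_points
    · apply glMatB_injective tk
      rw [hcomp, hone, glMatB_one]
    · intro Z x y
      apply glMatB_injective tk
      rw [hcomp, hmul, glMatB_mul, hcomp, hcomp]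
  · rw [hρ]
    exact hspan (hs (by simp))

/-- if every linear representation of `G` is trivial then `O(G) = k`. -/
theorem bijective_of_forall_rep
    (h : ∀ (n : ℕ) (ρ : G ⟶ FrB.GLn n (Spec (CommRingCat.of k))), IsMonHom ρ → ρ = 1) :
    Function.Bijective (pb G.hom) := by
  change Function.Bijective (algebraMap k Γ(G.left, ⊤))
  constructor
  · have : Nontrivial Γ(G.left, ⊤) :=
      RingHom.domain_nontrivial
        (((unitEquiv (k := k)).symm : _ →+* k).comp (pbA η[G]).toRingHom)
    exact (algebraMap k Γ(G.left, ⊤)).injective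
  · intro a
    obtain ⟨n, ρ, hρ, ha⟩ := exists_rep G a
    rw [h n ρ hρ, glMatB_one] at ha
    have hle : Submodule.span k (Set.range fun p : Fin n × Fin n =>
        (1 : Matrix (Fin n) (Fin n) Γ(G.left, ⊤)) p.1 p.2) ≤
        LinearMap.range (Algebra.linearMap k Γ(G.left, ⊤)) := by
      rw [Submodule.span_le]
      rintro _ ⟨p, rfl⟩
      by_cases hp : p.1 = p.2
      · exact ⟨1, by
          change algebraMap k _ 1 = (1 : Matrix (Fin n) (Fin n) Γ(G.left, ⊤)) p.1 p.2
          rw [Matrix.one_apply, if_pos hp, map_one]⟩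
      · exact ⟨0, by
          change algebraMap k _ 0 = (1 : Matrix (Fin n) (Fin n) Γ(G.left, ⊤)) p.1 p.2
          rw [Matrix.one_apply, if_neg hp, map_zero]⟩
    obtain ⟨c, hc⟩ := hle ha
    exact ⟨c, hc⟩

end Rep

end Groth.Agent.H40.Kunneth
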