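import Groth.Prelude.Def_TwC
import Mathlib.AlgebraicGeometry.Limits

/-!
# Points of constant schemes
-/

set_option autoImplicit false
universe u v

open CategoryTheory AlgebraicGeometry TopologicalSpace MonoidalCategory CartesianMonoidalCategory
open CategoryTheory.Limits

namespace Groth.Agent.H40

variable {S : Scheme.{u}} {M : Type v} [Small.{u} M]

theorem pt_left (m : M) : (TwC.pt S M m).left = Sigma.ι (fun _ : M => S) m := rfl

/-- a morphism into a constant scheme landing in the `m`-th copy is the structure map followed by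
the inclusion. -/
theorem comp_left_eq_of_range_subset {T : Over S} (a : T ⟶ TwC.const S M) (m : M)
    {W : Scheme.{u}} (j : W ⟶ T.left)
    (h : Set.range (j ≫ a.left).base ⊆ Set.range (Sigma.ι (fun _ : M => S) m).base) :
    j ≫ a.left = (j ≫ T.hom) ≫ Sigma.ι (fun _ : M => S) m := by
  have h1 := IsOpenImmersion.lift_fac (Sigma.ι (fun _ : M => S) m) (j ≫ a.left) h
  have h2 : IsOpenImmersion.lift (Sigma.ι (fun _ : M => S) m) (j ≫ a.left) h = j ≫ T.hom := by
    have := congrArg (· ≫ (TwC.const S M).hom) h1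
    simp only [Category.assoc] at this
    have e : Sigma.ι (fun _ : M => S) m ≫ (TwC.const S M).hom = 𝟙 S := by
      simp
    rw [e, Category.comp_id, Over.w a] at this
    exact this
  rw [← h2, h1]

/-- the open subset of `T` mapped into the `m`-th copy. -/
noncomputable def fibOpen {T : Over S} (a : T ⟶ TwC.const S M) (m : M) : T.left.Opens :=
  a.left ⁻¹ᵁ (Sigma.ι (fun _ : M => S) m).opensRange

theorem iSup_fibOpen {T : Over S} (a : T ⟶ TwC.const S M) : ⨆ m, fibOpen a m = ⊤ := by
  rw [eq_top_iff]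
  intro x _
  rw [Opens.mem_iSup]
  obtain ⟨y, hy⟩ := (sigmaOpenCover (fun _ : M => S)).covers (a.left.base x)
  exact ⟨_, y, hy⟩

theorem ι_comp_left_of_le {T : Over S} (a : T ⟶ TwC.const S M) (m : M) (W : T.left.Opens)
    (hW : W ≤ fibOpen a m) :
    W.ι ≫ a.left = (W.ι ≫ T.hom) ≫ Sigma.ι (fun _ : M => S) m := by
  apply comp_left_eq_of_range_subset
  rintro _ ⟨x, rfl⟩
  have := hW x.2
  exact this

/-- a morphism out of a constant scheme with pairwise disjoint components is a monomorphism on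
points. -/
theorem eq_of_comp_eq_of_disjoint {Y : Over S} (f : TwC.const S M ⟶ Y)
    (hdisj : ∀ m m' : M, m ≠ m' → ∀ (W : Scheme.{u}) (h : W ⟶ S),
      h ≫ (TwC.pt S M m ≫ f).left = h ≫ (TwC.pt S M m' ≫ f).left → IsEmpty W)
    {T : Over S} (a b : T ⟶ TwC.const S M) (hab : a ≫ f = b ≫ f) : a = b := by
  apply Over.OverMorphism.ext
  have hcov : IsOpenCover (fun mm : M × M => fibOpen a mm.1 ⊓ fibOpen b mm.2) := by
    rw [IsOpenCover, eq_top_iff]
    intro x _
    have ha : x ∈ ⨆ m, fibOpen a m := by rw [iSup_fibOpen]; trivial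
    have hb : x ∈ ⨆ m, fibOpen b m := by rw [iSup_fibOpen]; trivial
    rw [Opens.mem_iSup] at ha hb ⊢
    obtain ⟨m, hm⟩ := ha
    obtain ⟨m', hm'⟩ := hb
    exact ⟨(m, m'), hm, hm'⟩
  apply (T.left.openCoverOfIsOpenCover _ hcov).hom_ext
  rintro ⟨m, m'⟩
  change (fibOpen a m ⊓ fibOpen b m').ι ≫ a.left = (fibOpen a m ⊓ fibOpen b m').ι ≫ b.left
  have h1 := ι_comp_left_of_le a m (fibOpen a m ⊓ fibOpen b m') inf_le_left
  have h2 := ι_comp_left_of_le b m' (fibOpen a m ⊓ fibOpen b m') inf_le_right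
  by_cases hmm : m = m'
  · subst hmm
    rw [h1, h2]
  · have hl : a.left ≫ f.left = b.left ≫ f.left := congrArg CommaMorphism.left hab
    have := hdisj m m' hmm _ ((fibOpen a m ⊓ fibOpen b m').ι ≫ T.hom) (by
      rw [Over.comp_left, Over.comp_left, pt_left, pt_left, ← Category.assoc, ← h1,
        ← Category.assoc, ← h2, Category.assoc, Category.assoc, hl])
    exact (isInitialOfIsEmpty (X := ((fibOpen a m ⊓ fibOpen b m' : T.left.Opens) : Scheme.{u}))).hom_ext _ _

/-- a decomposition of `T` into disjoint opens indexed by `M` defines a point of the constant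
scheme. -/
theorem exists_hom_const_of_decomp {T : Over S} (W : M → T.left.Opens) (hcov : ⨆ m, W m = ⊤)
    (hdisj : ∀ m m', m ≠ m' → W m ⊓ W m' = ⊥) :
    ∃ a : T ⟶ TwC.const S M, ∀ m,
      (W m).ι ≫ a.left = ((W m).ι ≫ T.hom) ≫ Sigma.ι (fun _ : M => S) m := by
  obtain ⟨hc⟩ := nonempty_isColimit_cofanMk_of (fun m => (W m).ι)
    (by simpa using hcov)
    (by
      intro m m' hmm
      simp only [Function.onFun, Scheme.Opens.opensRange_ι]
      exact disjoint_iff.mpr (hdisj m m' hmm))
  let al : T.left ⟶ ∐ (fun _ : M => S) :=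
    Cofan.IsColimit.desc hc (fun m => ((W m).ι ≫ T.hom) ≫ Sigma.ι (fun _ : M => S) m)
  have hal : ∀ m, (W m).ι ≫ al = ((W m).ι ≫ T.hom) ≫ Sigma.ι (fun _ : M => S) m :=
    fun m => Cofan.IsColimit.fac hc _ m
  refine ⟨Over.homMk al ?_, hal⟩
  apply Cofan.IsColimit.hom_ext hc
  intro m
  change (W m).ι ≫ al ≫ (TwC.const S M).hom = (W m).ι ≫ T.hom
  rw [← Category.assoc, hal]
  simp

end Groth.Agent.H40
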