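import Groth.Agent.H40.GrpTranslate
import Groth.Prelude.Def_NonAbH2

/-!
# Exactness from a kernel description on points
-/

set_option autoImplicit false
universe u

open CategoryTheory MonoidalCategory CartesianMonoidalCategory MonObj GrpObj AlgebraicGeometry
open CategoryTheory.Limits

namespace Groth.Agent.H40

variable {S : Scheme.{u}} {G' G G'' : Over S} [GrpObj G'] [GrpObj G] [GrpObj G'']

theorem whiskerLeft_comp_mul_eq (u : G' ⟶ G) :
    (G ◁ u) ≫ μ[G] = fst G G' * (snd G G' ≫ u) := by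
  rw [Hom.mul_def]
  congr 1

/-- the cartesian square of an exact sequence, from: `u` is a monomorphism on points and every point
of the kernel of `v` comes from `G'`. -/
theorem isPullback_of_kernel (u : G' ⟶ G) (v : G ⟶ G'') [IsMonHom v] (huv : u ≫ v = 1)
    (hmono : ∀ (T : Over S) (a b : T ⟶ G'), a ≫ u = b ≫ u → a = b)
    (hker : ∀ (T : Over S) (g : T ⟶ G), g ≫ v = 1 → ∃ g' : T ⟶ G', g' ≫ u = g) :
    IsPullback (fst G G') ((G ◁ u) ≫ μ[G]) v v := by
  rw [whiskerLeft_comp_mul_eq]
  apply isPullback_of_points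
  · rw [MonObj.mul_comp, Category.assoc, huv, MonObj.comp_one, _root_.mul_one]
  · intro T x y hxy
    have h1 : (x⁻¹ * y) ≫ v = 1 := by
      rw [MonObj.mul_comp, GrpObj.inv_comp, hxy, _root_.inv_mul_cancel]
    obtain ⟨g', hg'⟩ := hker T _ h1
    refine ⟨lift x g', lift_fst _ _, ?_⟩
    rw [MonObj.comp_mul, lift_fst, lift_snd_assoc, hg', _root_.mul_inv_cancel_left]
  · intro T p p' h1 h2
    apply CartesianMonoidalCategory.hom_ext _ _ h1
    apply hmono
    rw [MonObj.comp_mul, MonObj.comp_mul, h1] at h2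
    simpa [Category.assoc] using _root_.mul_left_cancel h2

theorem isExactSeq_of_kernel (K : Precoverage Scheme.{u}) (u : G' ⟶ G) (v : G ⟶ G'')
    [IsMonHom u] [IsMonHom v] (huv : u ≫ v = 1)
    (hmono : ∀ (T : Over S) (a b : T ⟶ G'), a ≫ u = b ≫ u → a = b)
    (hker : ∀ (T : Over S) (g : T ⟶ G), g ≫ v = 1 → ∃ g' : T ⟶ G', g' ≫ u = g)
    (hloc : NonAbH1.IsLocallyTrivialFor K (Over.mk v.left : Over G''.left)) :
    NonAbH1.IsExactSeq K u v :=
  ⟨inferInstance, inferInstance, huv, isPullback_of_kernel u v huv hmono hker, hloc⟩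

end Groth.Agent.H40
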