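import Mathlib.AlgebraicGeometry.Sites.Fpqc
import Groth.Prelude.Def_NonAbH2

/-!
# Morphisms with sections locally for a precoverage: base change and composition
-/

set_option autoImplicit false
universe u
open CategoryTheory CategoryTheory.Limits AlgebraicGeometry

namespace Groth.Agent.H40
open NonAbH1

variable {K : Precoverage Scheme.{u}}

lemma isLocallyTrivialFor_iff_cover {B : Scheme.{u}} (X : Over B) :
    IsLocallyTrivialFor K X ↔
      ∃ 𝒰 : K.ZeroHypercover.{u + 1} B, ∀ i, ∃ s : 𝒰.X i ⟶ X.left, s ≫ X.hom = 𝒰.f i := by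
  constructor
  · rintro ⟨R, hR, hsec⟩
    obtain ⟨E, rfl⟩ := R.exists_eq_preZeroHypercover
    exact ⟨⟨E, hR⟩, fun i => hsec (E.f i) ⟨i⟩⟩
  · rintro ⟨𝒰, h⟩
    refine ⟨𝒰.presieve₀, 𝒰.mem₀, ?_⟩
    rintro S' f ⟨i⟩
    exact h i

lemma IsLocallyTrivialFor.mono {K' : Precoverage Scheme.{u}} (h : K ≤ K') {B : Scheme.{u}}
    {X : Over B} (hX : IsLocallyTrivialFor K X) : IsLocallyTrivialFor K' X := by
  obtain ⟨R, hR, hsec⟩ := hX
  exact ⟨R, h _ hR, hsec⟩

/-- local triviality is stable under base change. -/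
theorem isLocallyTrivialFor_of_isPullback [K.IsStableUnderBaseChange] {E' E B' B : Scheme.{u}}
    {fst : E' ⟶ E} {v' : E' ⟶ B'} {v : E ⟶ B} {g : B' ⟶ B} (h : IsPullback fst v' v g)
    (hv : IsLocallyTrivialFor K (Over.mk v)) : IsLocallyTrivialFor K (Over.mk v') := by
  rw [isLocallyTrivialFor_iff_cover] at hv ⊢
  obtain ⟨𝒰, h𝒰⟩ := hv
  choose s hs using h𝒰
  refine ⟨𝒰.pullback₁ g, fun i => ?_⟩
  have hw : (pullback.snd g (𝒰.f i) ≫ s i) ≫ v = pullback.fst g (𝒰.f i) ≫ g := by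
    rw [Category.assoc]
    erw [hs i]
    exact pullback.condition.symm
  exact ⟨h.lift _ _ hw, h.lift_snd _ _ hw⟩

/-- local triviality is stable under composition. -/
theorem isLocallyTrivialFor_comp [K.IsStableUnderComposition] [K.IsStableUnderBaseChange]
    {E P B : Scheme.{u}} (v : E ⟶ P) (w : P ⟶ B)
    (hv : IsLocallyTrivialFor K (Over.mk v)) (hw : IsLocallyTrivialFor K (Over.mk w)) :
    IsLocallyTrivialFor K (Over.mk (v ≫ w)) := by
  rw [isLocallyTrivialFor_iff_cover] at hv hw ⊢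
  obtain ⟨𝒰, h𝒰⟩ := hw
  choose s hs using h𝒰
  obtain ⟨𝒱, h𝒱⟩ := hv
  choose t ht using h𝒱
  refine ⟨𝒰.bind (fun i => 𝒱.pullback₁ (s i)), ?_⟩
  rintro ⟨i, k⟩
  refine ⟨pullback.snd (s i) (𝒱.f k) ≫ t k, ?_⟩
  change (pullback.snd (s i) (𝒱.f k) ≫ t k) ≫ v ≫ w = pullback.fst (s i) (𝒱.f k) ≫ 𝒰.f i
  have h1 : t k ≫ v = 𝒱.f k := ht k
  have h2 : s i ≫ w = 𝒰.f i := hs i
  rw [Category.assoc, reassoc_of% h1, ← pullback.condition_assoc, h2]

end Groth.Agent.H40
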