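import Groth.Agent.H42.GaGm2
import Mathlib.RingTheory.AdjoinRoot
import Mathlib.RingTheory.RingHom.FaithfullyFlat
import Mathlib.RingTheory.RingHom.FinitePresentation
import Mathlib.AlgebraicGeometry.Morphisms.Flat
import Mathlib.AlgebraicGeometry.Morphisms.FinitePresentation
import Mathlib.AlgebraicGeometry.Sites.Fpqc

/-!
# The fppf cover adjoining a root of a monic polynomial
-/

set_option autoImplicit false
set_option backward.isDefEq.respectTransparency.types false
universe u

open CategoryTheory AlgebraicGeometry
open CategoryTheory.Limits Polynomial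
open Groth.Agent.H42

namespace Groth.Agent.H40

section RootCover

variable {A : Type u} [CommRing A] (g : A[X])

/-- `Spec A[X]/(g) ⟶ Spec A`. -/
noncomputable abbrev rootCover : Spec (CommRingCat.of (AdjoinRoot g)) ⟶ Spec (CommRingCat.of A) :=
  Spec.map (CommRingCat.ofHom (algebraMap A (AdjoinRoot g)))

variable {g}

theorem faithfullyFlat_adjoinRoot (hg : g.Monic) (hd : g.natDegree ≠ 0) :
    Module.FaithfullyFlat A (AdjoinRoot g) := by
  have : Nonempty (Fin (AdjoinRoot.powerBasis' hg).dim) := ⟨⟨0, Nat.pos_of_ne_zero hd⟩⟩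
  exact Module.FaithfullyFlat.of_linearEquiv _ _ (AdjoinRoot.powerBasis' hg).basis.repr

theorem rootCover_flat_and_surjective (hg : g.Monic) (hd : g.natDegree ≠ 0) :
    Flat (rootCover g) ∧ Surjective (rootCover g) := by
  rw [flat_and_surjective_SpecMap_iff]
  have := faithfullyFlat_adjoinRoot hg hd
  exact RingHom.faithfullyFlat_algebraMap_iff.mpr inferInstance

theorem rootCover_lfp : LocallyOfFinitePresentation (rootCover g) := by
  rw [LocallyOfFinitePresentation.SpecMap_iff]
  exact RingHom.finitePresentation_algebraMap.mpr inferInstance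

/-- base change of the root cover to a scheme over `Spec A` is an fppf covering, and over it the
polynomial acquires a root. -/
theorem exists_fppf_cover_root (hg : g.Monic) (hd : g.natDegree ≠ 0) {Y : Scheme.{u}}
    (q : Y ⟶ Spec (CommRingCat.of A)) :
    ∃ (U : Scheme.{u}) (c : U ⟶ Y) (r : Γ(U, ⊤)), Presieve.singleton c ∈ Scheme.fppfPrecoverage Y ∧
      Polynomial.eval₂ (pb (c ≫ q)) r g = 0 := by
  obtain ⟨h1, h2⟩ := rootCover_flat_and_surjective hg hd
  have := h1
  have := h2
  have := rootCover_lfp (g := g)
  refine ⟨pullback (rootCover g) q, pullback.snd _ _, pb (pullback.fst (rootCover g) q)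
    (AdjoinRoot.root g), Scheme.Hom.singleton_mem_fppfPrecoverage _, ?_⟩
  have e : pb (pullback.snd (rootCover g) q ≫ q) =
      (pb (pullback.fst (rootCover g) q)).comp (algebraMap A (AdjoinRoot g)) := by
    ext a
    rw [← pullback.condition, pb_comp_specMap]
    rfl
  rw [e, ← Polynomial.hom_eval₂, AdjoinRoot.algebraMap_eq, AdjoinRoot.eval₂_root, map_zero]

end RootCover

end Groth.Agent.H40
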