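import Mathlib.AlgebraicGeometry.Restrict
import Mathlib.AlgebraicGeometry.Cover.Open

/-!
# Decomposition of a scheme by the values of a function
-/

set_option autoImplicit false
universe u

open CategoryTheory AlgebraicGeometry TopologicalSpace

namespace Groth.Agent.H40

section

variable {T : Scheme.{u}}

theorem isUnit_of_basicOpen_eq_top (g : Γ(T, ⊤)) (h : T.basicOpen g = ⊤) : IsUnit g := by
  apply T.toRingedSpace.isUnit_of_isUnit_germ
  intro x hx
  have : x ∈ T.basicOpen g := by rw [h]; trivial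
  exact (T.mem_basicOpen g x hx).mp this

theorem isUnit_ι_appTop_basicOpen (f : Γ(T, ⊤)) : IsUnit ((T.basicOpen f).ι.appTop f) := by
  apply isUnit_of_basicOpen_eq_top
  rw [← Scheme.preimage_basicOpen_top]
  exact Scheme.Opens.ι_preimage_self _

theorem isEmpty_of_subsingleton_Γ (h : Subsingleton Γ(T, ⊤)) : IsEmpty T := by
  refine ⟨fun x => ?_⟩
  have : Nontrivial Γ(T, ⊤) := (T.presheaf.germ ⊤ x trivial).hom.domain_nontrivial
  exact not_subsingleton _ h

variable {I : Type*} [Fintype I] [DecidableEq I] (t : Γ(T, ⊤)) (c : I → Γ(T, ⊤))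

/-- the open set where `t` takes the value `c m` and no other value `c m'`. -/
noncomputable def valOpen (m : I) : T.Opens :=
  T.basicOpen (∏ m' ∈ Finset.univ.erase m, (t - c m'))

theorem mem_valOpen_iff (m : I) (x : T) :
    x ∈ valOpen t c m ↔ ∀ m', m' ≠ m → IsUnit (T.presheaf.germ ⊤ x trivial (t - c m')) := by
  rw [valOpen, Scheme.mem_basicOpen_top, map_prod, IsUnit.prod_iff]
  simp [Finset.mem_erase]

variable {t c}

theorem ι_appTop_valOpen (hprod : ∏ m, (t - c m) = 0) (m : I) :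
    (valOpen t c m).ι.appTop (t - c m) = 0 := by
  have hu := isUnit_ι_appTop_basicOpen (∏ m' ∈ Finset.univ.erase m, (t - c m'))
  have h0 : (valOpen t c m).ι.appTop ((t - c m) * ∏ m' ∈ Finset.univ.erase m, (t - c m')) = 0 := by
    rw [Finset.mul_prod_erase _ (fun m => t - c m) (Finset.mem_univ m), hprod, map_zero]
  rw [map_mul] at h0
  exact hu.mul_left_eq_zero.mp h0

theorem iSup_valOpen [Nonempty I] (hunit : ∀ m m', m ≠ m' → IsUnit (c m - c m')) :
    ⨆ m, valOpen t c m = ⊤ := by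
  rw [eq_top_iff]
  intro x _
  rw [Opens.mem_iSup]
  by_cases h : ∃ m₀, ¬ IsUnit (T.presheaf.germ ⊤ x trivial (t - c m₀))
  · obtain ⟨m₀, hm₀⟩ := h
    refine ⟨m₀, (mem_valOpen_iff t c m₀ x).mpr fun m' hm' => ?_⟩
    have hu : IsUnit (T.presheaf.germ ⊤ x trivial (t - c m') +
        -(T.presheaf.germ ⊤ x trivial (t - c m₀))) := by
      rw [← map_neg, ← map_add]
      have : t - c m' + -(t - c m₀) = c m₀ - c m' := by ring
      rw [this]
      exact (hunit m₀ m' hm'.symm).map _
    rcases IsLocalRing.isUnit_or_isUnit_of_isUnit_add hu with h1 | h1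
    · exact h1
    · exact absurd (IsUnit.neg_iff _ |>.mp h1) hm₀
  · push Not at h
    obtain ⟨m₀⟩ := ‹Nonempty I›
    exact ⟨m₀, (mem_valOpen_iff t c m₀ x).mpr fun m' _ => h m'⟩

theorem valOpen_disjoint (hprod : ∏ m, (t - c m) = 0) {m m' : I} (h : m ≠ m') :
    valOpen t c m ⊓ valOpen t c m' = ⊥ := by
  rw [eq_bot_iff]
  rintro x ⟨hx, hx'⟩
  exfalso
  have hu := (mem_valOpen_iff t c m x).mp hx m' h.symm
  have h0 := ι_appTop_valOpen hprod m'
  have : T.presheaf.germ ⊤ x trivial (t - c m') = 0 := by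
    have hxW : x ∈ (valOpen t c m').ι ''ᵁ ⊤ := by
      rw [Scheme.Opens.ι_image_top]; exact hx'
    rw [Scheme.Opens.ι_appTop] at h0
    rw [← T.presheaf.germ_res_apply (homOfLE le_top : (valOpen t c m').ι ''ᵁ ⊤ ⟶ ⊤) x hxW]
    exact (congrArg _ h0).trans (map_zero _)
  rw [this] at hu
  exact not_isUnit_zero hu

end

end Groth.Agent.H40
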