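import Groth.Agent.H42.GaGm3
import Groth.Agent.H40.GrpPts
import Groth.Agent.H40.ExactOfKernel
import Groth.Agent.H40.RootCover
import Groth.Agent.H40.LocTriv
import Groth.Agent.H40.ASAlg
import Groth.Agent.H40.ValueDecomp
import Groth.Agent.H40.ConstPts

/-!
# The Artin–Schreier sequence is exact for the fppf topology
-/

set_option autoImplicit false
set_option backward.isDefEq.respectTransparency.types false
universe u

open CategoryTheory MonoidalCategory CartesianMonoidalCategory MonObj GrpObj AlgebraicGeometry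
open CategoryTheory.Limits Polynomial
open Groth.Agent.H42

namespace Groth.Agent.H40

namespace AS

variable (p : ℕ) [Fact p.Prime] {S : Scheme.{u}}

theorem natCast_eq_zero_of_over (hp : (p : Γ(S, ⊤)) = 0) (T : Over S) :
    (p : Γ(T.left, ⊤)) = 0 := by
  have := congrArg T.hom.appTop hp
  rwa [map_natCast, map_zero] at this

variable {p}
variable (F : Red.Ga S ⟶ Red.Ga S)
  (hF : ∀ (T : Over S) (x : T ⟶ Red.Ga S), Red.gaFn (x ≫ F) = Red.gaFn x ^ p)

include hF in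
theorem gaFn_comp_P {T : Over S} (x : T ⟶ Red.Ga S) :
    Red.gaFn (x ≫ (𝟙 (Red.Ga S) * F⁻¹)) = Red.gaFn x - Red.gaFn x ^ p := by
  rw [MonObj.comp_mul, GrpObj.comp_inv, Category.comp_id, gaFn_mul, gaFn_inv, hF, sub_eq_add_neg]

include hF in
theorem isMonHom_P (hp : (p : Γ(S, ⊤)) = 0) : IsMonHom (𝟙 (Red.Ga S) * F⁻¹) := by
  have hp0 : p ≠ 0 := (Fact.out : p.Prime).ne_zero
  apply isMonHom_of_points
  · apply gaFn_ext
    rw [gaFn_comp_P F hF, gaFn_one, zero_pow hp0, sub_zero]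
  · intro T g g'
    apply gaFn_ext
    rw [gaFn_comp_P F hF, gaFn_mul, gaFn_mul, gaFn_comp_P F hF, gaFn_comp_P F hF,
      add_pow_of_natCast_eq_zero p (natCast_eq_zero_of_over p hp T)]
    ring

section Const

variable {G' : Over S} [GrpObj G'] (e : G' ≅ TwC.const S (Multiplicative (ZMod p)))
  (he : TwC.IsConstGrp (Multiplicative (ZMod p)) G' e)
  (i : G' ⟶ Red.Ga S) [hmi : IsMonHom i]
  (hi : Red.gaFn (TwC.pt S (Multiplicative (ZMod p)) (Multiplicative.ofAdd 1) ≫ e.inv ≫ i) = 1)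

include he in
theorem pt_one : TwC.pt S (Multiplicative (ZMod p)) 1 ≫ e.inv = 1 := by
  have := he 1 1
  rw [_root_.mul_one] at this
  exact mul_eq_left.mp this

include he hi hmi in
theorem gaFn_pt_natCast (k : ℕ) :
    Red.gaFn (TwC.pt S (Multiplicative (ZMod p)) (Multiplicative.ofAdd (k : ZMod p)) ≫ e.inv ≫ i) =
      (k : Γ((𝟙_ (Over S)).left, ⊤)) := by
  induction k with
  | zero =>
    have : Multiplicative.ofAdd ((0 : ℕ) : ZMod p) = 1 := by simp
    rw [this, ← Category.assoc, pt_one e he, MonObj.one_comp i, gaFn_one, Nat.cast_zero]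
  | succ k ih =>
    have : Multiplicative.ofAdd ((k + 1 : ℕ) : ZMod p) =
        Multiplicative.ofAdd (k : ZMod p) * Multiplicative.ofAdd (1 : ZMod p) := by
      rw [← ofAdd_add]; simp
    rw [this, ← Category.assoc, ← he, MonObj.mul_comp _ _ i, gaFn_mul, Category.assoc, Category.assoc, ih,
      hi, Nat.cast_succ]

include he hi in
theorem gaFn_pt (φ : ZMod p →+* Γ((𝟙_ (Over S)).left, ⊤)) (m : Multiplicative (ZMod p)) :
    Red.gaFn (TwC.pt S (Multiplicative (ZMod p)) m ≫ e.inv ≫ i) = φ (Multiplicative.toAdd m) := by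
  have hm : m = Multiplicative.ofAdd (((Multiplicative.toAdd m).val : ℕ) : ZMod p) := by
    rw [ZMod.natCast_zmod_val]; rfl
  rw [hm, gaFn_pt_natCast e he i hi, toAdd_ofAdd, map_natCast]

include he hi in
theorem gaFn_toUnit_pt (φ : ZMod p →+* Γ((𝟙_ (Over S)).left, ⊤)) (T : Over S)
    (m : Multiplicative (ZMod p)) :
    Red.gaFn (toUnit T ≫ TwC.pt S (Multiplicative (ZMod p)) m ≫ e.inv ≫ i) =
      T.hom.appTop (φ (Multiplicative.toAdd m)) := by
  rw [gaFn_comp, gaFn_pt e he i hi φ]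
  rfl

include he hi hF in
theorem comp_P (hp : (p : Γ(S, ⊤)) = 0) : i ≫ (𝟙 (Red.Ga S) * F⁻¹) = 1 := by
  obtain ⟨φ⟩ := exists_ringHom_zmod p (R := Γ((𝟙_ (Over S)).left, ⊤)) hp
  have h1 : e.inv ≫ i ≫ (𝟙 (Red.Ga S) * F⁻¹) = 1 := by
    apply Over.OverMorphism.ext
    apply Sigma.hom_ext
    intro m
    have : TwC.pt S (Multiplicative (ZMod p)) m ≫ e.inv ≫ i ≫ (𝟙 (Red.Ga S) * F⁻¹) =
        TwC.pt S (Multiplicative (ZMod p)) m ≫ 1 := by
      apply gaFn_ext
      rw [← Category.assoc, ← Category.assoc, gaFn_comp_P F hF, Category.assoc,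
        gaFn_pt e he i hi φ, pow_p_zmod, sub_self, MonObj.comp_one, gaFn_one]
    exact congrArg CommaMorphism.left this
  have := congrArg (e.hom ≫ ·) h1
  simpa using this

include he hi in
theorem mono_i (hp : (p : Γ(S, ⊤)) = 0) (T : Over S) (a b : T ⟶ G') (hab : a ≫ i = b ≫ i) :
    a = b := by
  obtain ⟨φ⟩ := exists_ringHom_zmod p (R := Γ((𝟙_ (Over S)).left, ⊤)) hp
  have key : a ≫ e.hom = b ≫ e.hom := by
    apply eq_of_comp_eq_of_disjoint (e.inv ≫ i)
    · intro m m' hmm W h hh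
      apply isEmpty_of_subsingleton_Γ
      let TW : Over S := Over.mk h
      have hx : toUnit TW ≫ TwC.pt S (Multiplicative (ZMod p)) m ≫ e.inv ≫ i =
          toUnit TW ≫ TwC.pt S (Multiplicative (ZMod p)) m' ≫ e.inv ≫ i := by
        apply Over.OverMorphism.ext
        exact hh
      have h2 := congrArg Red.gaFn hx
      rw [gaFn_toUnit_pt e he i hi φ, gaFn_toUnit_pt e he i hi φ, ← sub_eq_zero, ← map_sub] at h2
      have hu : IsUnit (TW.hom.appTop (φ (Multiplicative.toAdd m) - φ (Multiplicative.toAdd m'))) :=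
        (isUnit_sub_zmod φ (fun h' => hmm (Multiplicative.toAdd.injective h'))).map _
      rw [h2] at hu
      exact subsingleton_of_zero_eq_one (isUnit_zero_iff.mp hu)
    · simp [hab]
  have := congrArg (· ≫ e.inv) key
  simpa using this

include he hi hF in
theorem ker_P (hp : (p : Γ(S, ⊤)) = 0) (T : Over S) (g : T ⟶ Red.Ga S)
    (hg : g ≫ (𝟙 (Red.Ga S) * F⁻¹) = 1) : ∃ g' : T ⟶ G', g' ≫ i = g := by
  obtain ⟨φ⟩ := exists_ringHom_zmod p (R := Γ((𝟙_ (Over S)).left, ⊤)) hp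
  let φT : ZMod p →+* Γ(T.left, ⊤) := T.hom.appTop.hom.comp φ
  set t := Red.gaFn g with ht
  have h0 : t ^ p - t = 0 := by
    have := gaFn_comp_P F hF g
    rw [hg, gaFn_one] at this
    rw [← neg_sub, ← this, neg_zero]
  let c : Multiplicative (ZMod p) → Γ(T.left, ⊤) := fun m => φT (Multiplicative.toAdd m)
  have hprod : ∏ m, (t - c m) = 0 := by
    rw [← h0, ← prod_sub_zmod φT t]
    exact Fintype.prod_equiv Multiplicative.toAdd _ _ (fun _ => rfl)
  have hunit : ∀ m m', m ≠ m' → IsUnit (c m - c m') := fun m m' hmm =>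
    isUnit_sub_zmod φT (fun h' => hmm (Multiplicative.toAdd.injective h'))
  obtain ⟨a, ha⟩ := exists_hom_const_of_decomp (S := S) (T := T) (valOpen t c)
    (iSup_valOpen hunit) (fun m m' hmm => valOpen_disjoint hprod hmm)
  refine ⟨a ≫ e.inv, ?_⟩
  apply gaFn_ext
  apply (T.left.openCoverOfIsOpenCover (valOpen t c) (iSup_valOpen hunit)).ext_elem
  intro m
  change (valOpen t c m).ι.appTop (Red.gaFn ((a ≫ e.inv) ≫ i)) = (valOpen t c m).ι.appTop t
  let X : Over S := Over.mk ((valOpen t c m).ι ≫ T.hom)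
  let jm : X ⟶ T := Over.homMk (valOpen t c m).ι rfl
  have e1 : jm ≫ a = toUnit X ≫ TwC.pt S (Multiplicative (ZMod p)) m := by
    apply Over.OverMorphism.ext
    exact ha m
  have e2 : (valOpen t c m).ι.appTop (Red.gaFn ((a ≫ e.inv) ≫ i)) =
      Red.gaFn (jm ≫ (a ≫ e.inv) ≫ i) := (gaFn_comp jm _).symm
  rw [e2, Category.assoc, ← Category.assoc jm, e1, Category.assoc,
    gaFn_toUnit_pt e he i hi φ]
  have e3 := ι_appTop_valOpen hprod m
  rw [map_sub, sub_eq_zero] at e3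
  rw [e3]
  change ((valOpen t c m).ι ≫ T.hom).appTop (φ (Multiplicative.toAdd m)) = _
  rw [Scheme.Hom.comp_appTop]
  rfl

end Const

theorem gaFn_homMk {Y : Scheme.{u}} (c : Y ⟶ (Red.Ga S).left) :
    Red.gaFn (Over.homMk c rfl : Over.mk (c ≫ (Red.Ga S).hom) ⟶ Red.Ga S) =
      pb (c ≫ pullback.fst _ _) gaX := rfl

instance : Nontrivial AGa.{u} :=
  (SymmetricAlgebra.algebraMapInv (R := ULift.{u} ℤ) (M := ULift.{u} ℤ)).toRingHom.domain_nontrivial

include hF in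
theorem locTriv_P :
    NonAbH1.IsLocallyTrivialFor Scheme.fppfPrecoverage
      (Over.mk (𝟙 (Red.Ga S) * F⁻¹).left : Over (Red.Ga S).left) := by
  have hp1 : 1 < p := (Fact.out : p.Prime).one_lt
  have hdeglt : (C gaX.{u} - X : AGa.{u}[X]).degree < (p : WithBot ℕ) := by
    refine lt_of_le_of_lt (degree_sub_le _ _) ?_
    rw [degree_X, max_lt_iff]
    exact ⟨lt_of_le_of_lt degree_C_le (by exact_mod_cast Nat.zero_lt_of_lt hp1),
      by exact_mod_cast hp1⟩
  have hmonic : (X ^ p + (C gaX.{u} - X) : AGa.{u}[X]).Monic := monic_X_pow_add hdeglt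
  have hdeg : (X ^ p + (C gaX.{u} - X) : AGa.{u}[X]).natDegree ≠ 0 := by
    rw [natDegree_add_eq_left_of_degree_lt (by rwa [degree_X_pow]), natDegree_X_pow]
    exact (Nat.zero_lt_of_lt hp1).ne'
  obtain ⟨U, c, r, hc, hr⟩ := exists_fppf_cover_root hmonic hdeg
    (pullback.fst _ _ : (Red.Ga S).left ⟶ Spec (CommRingCat.of AGa.{u}))
  rw [eval₂_add, eval₂_X_pow, eval₂_sub, eval₂_C, eval₂_X] at hr
  let T : Over S := Over.mk (c ≫ (Red.Ga S).hom)
  let τ : T ⟶ Red.Ga S := Over.homMk c rfl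
  have hτ : Red.gaFn τ = r - r ^ p := by
    rw [gaFn_homMk]
    linear_combination hr
  obtain ⟨σ, hσ⟩ := gaFn_surjective (S := S) (X := T) r
  have hστ : σ ≫ (𝟙 (Red.Ga S) * F⁻¹) = τ := by
    apply gaFn_ext
    rw [gaFn_comp_P F hF, hτ, hσ]
  refine ⟨Presieve.singleton c, hc, ?_⟩
  intro S' f hf
  cases hf
  exact ⟨σ.left, congrArg CommaMorphism.left hστ⟩

end AS

theorem artinSchreier_exact_fppf (p : ℕ) [Fact p.Prime] {S : Scheme.{u}}
    (hp : (p : Γ(S, ⊤)) = 0) (F : Red.Ga S ⟶ Red.Ga S)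
    (hF : ∀ (T : Over S) (x : T ⟶ Red.Ga S), Red.gaFn (x ≫ F) = Red.gaFn x ^ p)
    {G' : Over S} [GrpObj G'] (e : G' ≅ TwC.const S (Multiplicative (ZMod p)))
    (he : TwC.IsConstGrp (Multiplicative (ZMod p)) G' e)
    (i : G' ⟶ Red.Ga S) [IsMonHom i]
    (hi : Red.gaFn (TwC.pt S (Multiplicative (ZMod p)) (Multiplicative.ofAdd 1) ≫ e.inv ≫ i) = 1) :
    NonAbH1.IsExactSeq Scheme.fppfPrecoverage i (𝟙 (Red.Ga S) * F⁻¹) := by
  have := AS.isMonHom_P F hF hp
  exact isExactSeq_of_kernel _ _ _ (AS.comp_P F hF e he i hi hp) (AS.mono_i e he i hi hp)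
    (AS.ker_P F hF e he i hi hp) (AS.locTriv_P F hF)

theorem artinSchreier_exact_fpqc (p : ℕ) [Fact p.Prime] {S : Scheme.{u}}
    (hp : (p : Γ(S, ⊤)) = 0) (F : Red.Ga S ⟶ Red.Ga S)
    (hF : ∀ (T : Over S) (x : T ⟶ Red.Ga S), Red.gaFn (x ≫ F) = Red.gaFn x ^ p)
    {G' : Over S} [GrpObj G'] (e : G' ≅ TwC.const S (Multiplicative (ZMod p)))
    (he : TwC.IsConstGrp (Multiplicative (ZMod p)) G' e)
    (i : G' ⟶ Red.Ga S) [IsMonHom i]
    (hi : Red.gaFn (TwC.pt S (Multiplicative (ZMod p)) (Multiplicative.ofAdd 1) ≫ e.inv ≫ i) = 1) :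
    NonAbH1.IsExactSeq Scheme.fpqcPrecoverage i (𝟙 (Red.Ga S) * F⁻¹) := by
  have := AS.isMonHom_P F hF hp
  exact isExactSeq_of_kernel _ _ _ (AS.comp_P F hF e he i hi hp) (AS.mono_i e he i hi hp)
    (AS.ker_P F hF e he i hi hp)
    (IsLocallyTrivialFor.mono Scheme.fppfPrecoverage_le_fpqcPrecoverage (AS.locTriv_P F hF))

end Groth.Agent.H40
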