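import Mathlib.CategoryTheory.Monoidal.Cartesian.Grp
import Mathlib.CategoryTheory.Limits.Shapes.Pullback.IsPullback.Basic

/-!
# Fibres of a homomorphism of group objects are translates of the kernel
-/

set_option autoImplicit false
universe v u
open CategoryTheory Limits MonoidalCategory CartesianMonoidalCategory MonObj

namespace Groth.Agent.H40

/-- a commutative square which is a pullback on points is a pullback. -/
lemma isPullback_of_points {C : Type u} [Category.{v} C] {P X Y Z : C} {fst : P ⟶ X} {snd : P ⟶ Y}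
    {f : X ⟶ Z} {g : Y ⟶ Z} (w : fst ≫ f = snd ≫ g)
    (hex : ∀ (T : C) (x : T ⟶ X) (y : T ⟶ Y), x ≫ f = y ≫ g →
      ∃ p : T ⟶ P, p ≫ fst = x ∧ p ≫ snd = y)
    (huniq : ∀ (T : C) (p p' : T ⟶ P), p ≫ fst = p' ≫ fst → p ≫ snd = p' ≫ snd → p = p') :
    IsPullback fst snd f g := by
  classical
  refine IsPullback.of_isLimit (c := PullbackCone.mk fst snd w) ?_
  refine PullbackCone.IsLimit.mk w (fun c => (hex _ c.fst c.snd c.condition).choose)
    (fun c => (hex _ c.fst c.snd c.condition).choose_spec.1)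
    (fun c => (hex _ c.fst c.snd c.condition).choose_spec.2) ?_
  intro c m hm1 hm2
  apply huniq
  · rw [hm1, (hex _ c.fst c.snd c.condition).choose_spec.1]
  · rw [hm2, (hex _ c.fst c.snd c.condition).choose_spec.2]

variable {C : Type u} [Category.{v} C] [CartesianMonoidalCategory C]

/-- the fibre of `f` over `f(a)` is the translate by `a` of the kernel. -/
theorem isPullback_translate {G H N Z : C} [GrpObj G] [GrpObj H] (f : G ⟶ H) [IsMonHom f]
    (i : N ⟶ G) (hi : IsPullback i (toUnit N) f η[H]) (a : Z ⟶ G) :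
    IsPullback ((fst N Z ≫ i) * (snd N Z ≫ a)) (snd N Z) f (a ≫ f) := by
  have hi1 : ∀ {T : C} (n : T ⟶ N), (n ≫ i) ≫ f = 1 := by
    intro T n
    rw [Category.assoc, hi.w, Hom.one_def, ← Category.assoc]
    congr 1
    exact toUnit_unique _ _
  have hlift : ∀ {T : C} (y : T ⟶ G), y ≫ f = 1 → ∃ n : T ⟶ N, n ≫ i = y := by
    intro T y hy
    exact ⟨hi.lift y (toUnit T) (by rw [hy, Hom.one_def]), hi.lift_fst _ _ _⟩
  have hmono : ∀ {T : C} (n n' : T ⟶ N), n ≫ i = n' ≫ i → n = n' :=
    fun n n' h => hi.hom_ext h (toUnit_unique _ _)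
  apply isPullback_of_points
  · rw [MonObj.mul_comp, hi1, _root_.one_mul, Category.assoc]
  · intro T x z hxz
    have hy : (x * (z ≫ a)⁻¹) ≫ f = 1 := by
      rw [MonObj.mul_comp, GrpObj.inv_comp, hxz, Category.assoc, _root_.mul_inv_cancel]
    obtain ⟨n, hn⟩ := hlift _ hy
    refine ⟨lift n z, ?_, lift_snd _ _⟩
    rw [MonObj.comp_mul, lift_fst_assoc, lift_snd_assoc, hn, _root_.inv_mul_cancel_right]
  · intro T p p' h1 h2
    apply CartesianMonoidalCategory.hom_ext _ _ ?_ h2
    apply hmono
    rw [MonObj.comp_mul, MonObj.comp_mul, ← Category.assoc, ← Category.assoc, ← Category.assoc,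
      ← Category.assoc, h2] at h1
    simpa [Category.assoc] using _root_.mul_right_cancel h1

end Groth.Agent.H40
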