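import Groth.Agent.H40.ActPts
import Groth.Agent.H40.GrpTranslate
import Groth.Prelude.Def_ChGrp

/-!
# Points of pseudo-torsors, and composition of torsors
-/

set_option autoImplicit false
universe u
open CategoryTheory CategoryTheory.Limits MonoidalCategory CartesianMonoidalCategory MonObj GrpObj
  AlgebraicGeometry

namespace Groth.Agent.H40

variable {S : Scheme.{u}}

section PseudoTorsor
variable {G X Y : Over S} [GrpObj G] (a : AlgGrp.Action G X) (φ : X ⟶ Y)

/-- existence part of the points form of the cartesian (Galois) square of a pseudo-torsor. -/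
lemma exists_psmul_of_isPullback (h : IsPullback a.act (snd G X) φ φ) {T : Over S} (x x' : T ⟶ X)
    (hxx : x ≫ φ = x' ≫ φ) : ∃ g : T ⟶ G, psmul a g x' = x := by
  refine ⟨h.lift x x' hxx ≫ fst G X, ?_⟩
  have e : lift (h.lift x x' hxx ≫ fst G X) x' = h.lift x x' hxx := by
    apply CartesianMonoidalCategory.hom_ext
    · rw [lift_fst]
    · rw [lift_snd, h.lift_snd]
  rw [psmul_def, e, h.lift_fst]

/-- uniqueness part. -/
lemma eq_of_psmul_eq_of_isPullback (h : IsPullback a.act (snd G X) φ φ) {T : Over S}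
    (g g' : T ⟶ G) (x' : T ⟶ X) (hgg : psmul a g x' = psmul a g' x') : g = g' := by
  have e : lift g x' = lift g' x' := by
    apply h.hom_ext
    · exact hgg
    · rw [lift_snd, lift_snd]
  have := congr($e ≫ fst G X)
  simpa using this

/-- invariance of `φ`. -/
lemma psmul_comp_of_isPullback (h : IsPullback a.act (snd G X) φ φ) {T : Over S}
    (g : T ⟶ G) (x : T ⟶ X) : psmul a g x ≫ φ = x ≫ φ := by
  rw [psmul_def, Category.assoc, h.w, ← Category.assoc, lift_snd]

/-- a square which is a pseudo-torsor on points is cartesian. -/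
lemma isPullback_of_psmul (hinv : a.act ≫ φ = snd G X ≫ φ)
    (hex : ∀ (T : Over S) (x x' : T ⟶ X), x ≫ φ = x' ≫ φ → ∃ g : T ⟶ G, psmul a g x' = x)
    (huniq : ∀ (T : Over S) (g g' : T ⟶ G) (x' : T ⟶ X), psmul a g x' = psmul a g' x' → g = g') :
    IsPullback a.act (snd G X) φ φ := by
  apply isPullback_of_points hinv
  · intro T x x' hxx
    obtain ⟨g, hg⟩ := hex T x x' hxx
    exact ⟨lift g x', hg, lift_snd _ _⟩
  · intro T p p' h1 h2
    have ep : p = lift (p ≫ fst G X) (p ≫ snd G X) := by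
      apply CartesianMonoidalCategory.hom_ext <;> simp
    have ep' : p' = lift (p' ≫ fst G X) (p ≫ snd G X) := by
      apply CartesianMonoidalCategory.hom_ext
      · simp
      · simp [h2]
    have := huniq T (p ≫ fst G X) (p' ≫ fst G X) (p ≫ snd G X) (by
      rw [psmul_def, psmul_def, ← ep, ← ep', h1])
    rw [ep, ep', this]

end PseudoTorsor

section Comp
variable {G N Q H X Y Z : Over S} [GrpObj G] [GrpObj N] [GrpObj Q]

/-- composition of pseudo-torsors: an `N`-pseudo-torsor `X ⟶ Y` followed by a `G/N`-pseudo-torsor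
`Y ⟶ Z`, where `G ⟶ G/N` has a section `s`, is a `G`-pseudo-torsor. -/
theorem isPullback_comp_of_torsors
    (iN : N ⟶ G) [IsMonHom iN] (q : G ⟶ Q) [IsMonHom q] (hker : AlgGrp.IsKernel iN q)
    (s : Q ⟶ G) (hs : s ≫ q = 𝟙 Q)
    (a : AlgGrp.Action G X) (φ₁ : X ⟶ Y) (h₁ : IsPullback (a.restrict iN).act (snd N X) φ₁ φ₁)
    (aY : AlgGrp.Action Q Y) (hequiv : (q ⊗ₘ φ₁) ≫ aY.act = a.act ≫ φ₁)
    (φ₂ : Y ⟶ Z) (h₂ : IsPullback aY.act (snd Q Y) φ₂ φ₂) :
    IsPullback a.act (snd G X) (φ₁ ≫ φ₂) (φ₁ ≫ φ₂) := by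
  have hE : ∀ {T : Over S} (g : T ⟶ G) (x : T ⟶ X),
      psmul a g x ≫ φ₁ = psmul aY (g ≫ q) (x ≫ φ₁) := by
    intro T g x
    rw [psmul_def, psmul_def, Category.assoc, ← hequiv, ← Category.assoc, lift_map]
  have hR : ∀ {T : Over S} (n : T ⟶ N) (x : T ⟶ X),
      psmul (a.restrict iN) n x = psmul a (n ≫ iN) x := by
    intro T n x
    rw [psmul_def, psmul_def, AlgGrp.Action.lift_restrict_act]
  apply isPullback_of_psmul
  · rw [← Category.assoc, ← hequiv, Category.assoc, h₂.w, ← Category.assoc,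
      tensorHom_snd, Category.assoc]
  · intro T x x' hxx
    obtain ⟨c, hc⟩ := exists_psmul_of_isPullback aY φ₂ h₂ (x ≫ φ₁) (x' ≫ φ₁)
      (by simpa only [Category.assoc] using hxx)
    have hx'' : psmul a (c ≫ s) x' ≫ φ₁ = x ≫ φ₁ := by
      rw [hE, Category.assoc, hs, Category.comp_id, hc]
    obtain ⟨n, hn⟩ := exists_psmul_of_isPullback (a.restrict iN) φ₁ h₁ x (psmul a (c ≫ s) x')
      hx''.symm
    refine ⟨(n ≫ iN) * (c ≫ s), ?_⟩
    rw [mul_psmul, ← hR, hn]
  · intro T g g' x' hgg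
    have h1 : g ≫ q = g' ≫ q := by
      apply eq_of_psmul_eq_of_isPullback aY φ₂ h₂ _ _ (x' ≫ φ₁)
      rw [← hE, ← hE, hgg]
    have hm : (g⁻¹ * g') ≫ q = 1 := by
      rw [MonObj.mul_comp, GrpObj.inv_comp, h1, _root_.inv_mul_cancel]
    obtain ⟨n, hn⟩ : ∃ n : T ⟶ N, n ≫ iN = g⁻¹ * g' :=
      ⟨hker.lift (g⁻¹ * g') (toUnit T) (by rw [hm, Hom.one_def]), hker.lift_fst _ _ _⟩
    have h2 : psmul a (g⁻¹ * g') x' = x' := by
      rw [mul_psmul, ← hgg, inv_psmul_psmul]
    have h3 : n = 1 := by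
      apply eq_of_psmul_eq_of_isPullback (a.restrict iN) φ₁ h₁ _ _ x'
      rw [hR, hR, hn, h2, MonObj.one_comp, one_psmul]
    rw [h3, MonObj.one_comp] at hn
    have := congr(g * $hn)
    rw [_root_.mul_one, _root_.mul_inv_cancel_left] at this
    exact this

end Comp

end Groth.Agent.H40
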