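import Groth.Agent.S1133
import Groth.Agent.H40.TorsComp
import Groth.Prelude.Def_ChGrp

/-!
# The associated fibre bundle `X ×^G F` of a torsor `X ⟶ Y` with affine fibre `F`

Constructed by descent of `X × F ⟶ X` along `φ : X ⟶ Y` (effective since `X × F ⟶ X` is affine).
-/

set_option autoImplicit false
universe u
open CategoryTheory CategoryTheory.Limits MonoidalCategory CartesianMonoidalCategory MonObj GrpObj
  AlgebraicGeometry

namespace Groth.Agent.H40.AssocBundle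

open Groth.Agent.H40

variable {S : Scheme.{u}} {G X Y F : Over S} [GrpObj G]

section Prod
variable (a : AlgGrp.Action G X) (b : AlgGrp.Action G F)

lemma psmul_prod_fst {T : Over S} (g : T ⟶ G) (t : T ⟶ X ⊗ F) :
    psmul (a.prod b) g t ≫ fst X F = psmul a g (t ≫ fst X F) := by
  rw [psmul_def, psmul_def, AlgGrp.Action.prod_act, Category.assoc, lift_fst, ← Category.assoc,
    lift_whiskerLeft]

lemma psmul_prod_snd {T : Over S} (g : T ⟶ G) (t : T ⟶ X ⊗ F) :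
    psmul (a.prod b) g t ≫ snd X F = psmul b g (t ≫ snd X F) := by
  rw [psmul_def, psmul_def, AlgGrp.Action.prod_act, Category.assoc, lift_snd, ← Category.assoc,
    lift_whiskerLeft]

end Prod

variable (a : AlgGrp.Action G X) (φ : X ⟶ Y) (hcart : IsPullback a.act (snd G X) φ φ)
  (b : AlgGrp.Action G F)

/-- a scheme-valued point of `X × F` as a point in `Over S`. -/
noncomputable abbrev pt {T : Scheme.{u}} (t : T ⟶ (X ⊗ F).left) : Over.mk (t ≫ (X ⊗ F).hom) ⟶ X ⊗ F :=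
  Over.homMk t rfl

omit [GrpObj G] in
lemma px_w {T : Scheme.{u}} (t : T ⟶ (X ⊗ F).left) (x₁ : T ⟶ X.left)
    (h : t ≫ (fst X F).left ≫ φ.left = x₁ ≫ φ.left) :
    x₁ ≫ X.hom = (Over.mk (t ≫ (X ⊗ F).hom)).hom := by
  change x₁ ≫ X.hom = t ≫ (X ⊗ F).hom
  rw [← Over.w φ, ← Category.assoc, ← h, Category.assoc, Category.assoc, Over.w φ,
    Over.w (fst X F)]

/-- a second point of `X` with the same image in `Y`, as a point in `Over S`. -/
noncomputable abbrev px {T : Scheme.{u}} (t : T ⟶ (X ⊗ F).left) (x₁ : T ⟶ X.left)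
    (h : t ≫ (fst X F).left ≫ φ.left = x₁ ≫ φ.left) : Over.mk (t ≫ (X ⊗ F).hom) ⟶ X :=
  Over.homMk x₁ (px_w φ t x₁ h)

omit [GrpObj G] in
lemma px_comp {T : Scheme.{u}} (t : T ⟶ (X ⊗ F).left) (x₁ : T ⟶ X.left)
    (h : t ≫ (fst X F).left ≫ φ.left = x₁ ≫ φ.left) :
    px φ t x₁ h ≫ φ = (pt t ≫ fst X F) ≫ φ := by
  ext
  simp only [Over.comp_left, Over.homMk_left, Category.assoc]
  exact h.symm

include hcart in
lemma exists_g {T : Scheme.{u}} (t : T ⟶ (X ⊗ F).left) (x₁ : T ⟶ X.left)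
    (h : t ≫ (fst X F).left ≫ φ.left = x₁ ≫ φ.left) :
    ∃ g : Over.mk (t ≫ (X ⊗ F).hom) ⟶ G, psmul a g (pt t ≫ fst X F) = px φ t x₁ h :=
  exists_psmul_of_isPullback a φ hcart _ _ (px_comp φ t x₁ h)

/-- the group element carrying the first component of `t` to `x₁`. -/
noncomputable def gOf {T : Scheme.{u}} (t : T ⟶ (X ⊗ F).left) (x₁ : T ⟶ X.left)
    (h : t ≫ (fst X F).left ≫ φ.left = x₁ ≫ φ.left) : Over.mk (t ≫ (X ⊗ F).hom) ⟶ G :=
  (exists_g a φ hcart t x₁ h).choose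

lemma gOf_spec {T : Scheme.{u}} (t : T ⟶ (X ⊗ F).left) (x₁ : T ⟶ X.left)
    (h : t ≫ (fst X F).left ≫ φ.left = x₁ ≫ φ.left) :
    psmul a (gOf a φ hcart t x₁ h) (pt t ≫ fst X F) = px φ t x₁ h :=
  (exists_g a φ hcart t x₁ h).choose_spec

/-- transport of a point of `X × F` to the point over `x₁`. -/
noncomputable def tr {T : Scheme.{u}} (t : T ⟶ (X ⊗ F).left) (x₁ : T ⟶ X.left)
    (h : t ≫ (fst X F).left ≫ φ.left = x₁ ≫ φ.left) : T ⟶ (X ⊗ F).left :=
  (psmul (a.prod b) (gOf a φ hcart t x₁ h) (pt t)).left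

lemma tr_congr {T : Scheme.{u}} {t t' : T ⟶ (X ⊗ F).left} (ht : t = t') {x₁ x₁' : T ⟶ X.left}
    (hx : x₁ = x₁') (h : t ≫ (fst X F).left ≫ φ.left = x₁ ≫ φ.left)
    (h' : t' ≫ (fst X F).left ≫ φ.left = x₁' ≫ φ.left) :
    tr a φ hcart b t x₁ h = tr a φ hcart b t' x₁' h' := by
  subst ht hx
  rfl

/-- characterisation of the transport. -/
lemma tr_eq {T' : Over S} (t' : T' ⟶ X ⊗ F) (g : T' ⟶ G) {t : T'.left ⟶ (X ⊗ F).left}
    (ht : t'.left = t) (x₁ : T'.left ⟶ X.left)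
    (h : t ≫ (fst X F).left ≫ φ.left = x₁ ≫ φ.left)
    (hg : (psmul a g (t' ≫ fst X F)).left = x₁) :
    tr a φ hcart b t x₁ h = (psmul (a.prod b) g t').left := by
  subst ht
  let e : Over.mk (t'.left ≫ (X ⊗ F).hom) ⟶ T' := Over.homMk (𝟙 _) (by
    rw [Category.id_comp]
    exact (Over.w t').symm)
  have he : pt t'.left = e ≫ t' := by
    apply Over.OverMorphism.ext
    simp [e]
  have hg' : gOf a φ hcart t'.left x₁ h = e ≫ g := by
    apply eq_of_psmul_eq_of_isPullback a φ hcart _ _ (pt t'.left ≫ fst X F)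
    rw [gOf_spec, he, Category.assoc, ← comp_psmul]
    apply Over.OverMorphism.ext
    simp [hg, e]
  unfold tr
  rw [hg', he, ← comp_psmul]
  simp [e]

lemma tr_fst {T : Scheme.{u}} (t : T ⟶ (X ⊗ F).left) (x₁ : T ⟶ X.left)
    (h : t ≫ (fst X F).left ≫ φ.left = x₁ ≫ φ.left) :
    tr a φ hcart b t x₁ h ≫ (fst X F).left = x₁ := by
  unfold tr
  rw [← Over.comp_left, psmul_prod_fst, gOf_spec]
  rfl

lemma tr_natural {T T'' : Scheme.{u}} (s : T'' ⟶ T) (t : T ⟶ (X ⊗ F).left) (x₁ : T ⟶ X.left)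
    (h : t ≫ (fst X F).left ≫ φ.left = x₁ ≫ φ.left)
    (h' : (s ≫ t) ≫ (fst X F).left ≫ φ.left = (s ≫ x₁) ≫ φ.left) :
    tr a φ hcart b (s ≫ t) (s ≫ x₁) h' = s ≫ tr a φ hcart b t x₁ h := by
  let s' : Over.mk ((s ≫ t) ≫ (X ⊗ F).hom) ⟶ Over.mk (t ≫ (X ⊗ F).hom) :=
    Over.homMk s (by simp)
  rw [tr_eq a φ hcart b (s' ≫ pt t) (s' ≫ gOf a φ hcart t x₁ h) (by simp [s']) (s ≫ x₁) h' (by
    rw [show (s' ≫ pt t) ≫ fst X F = s' ≫ (pt t ≫ fst X F) from Category.assoc _ _ _,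
      ← comp_psmul, gOf_spec]
    simp [s'])]
  rw [← comp_psmul]
  simp [s', tr]

lemma tr_self {T : Scheme.{u}} (t : T ⟶ (X ⊗ F).left) (x : T ⟶ X.left)
    (hx : t ≫ (fst X F).left = x) (h : t ≫ (fst X F).left ≫ φ.left = x ≫ φ.left) :
    tr a φ hcart b t x h = t := by
  rw [tr_eq a φ hcart b (t := t) (pt t) 1 rfl x h (by rw [one_psmul]; simpa using hx), one_psmul]
  rfl

lemma tr_tr {T : Scheme.{u}} (t : T ⟶ (X ⊗ F).left) (x₁ x₂ : T ⟶ X.left)
    (h₁ : t ≫ (fst X F).left ≫ φ.left = x₁ ≫ φ.left)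
    (h₂ : tr a φ hcart b t x₁ h₁ ≫ (fst X F).left ≫ φ.left = x₂ ≫ φ.left)
    (h₃ : t ≫ (fst X F).left ≫ φ.left = x₂ ≫ φ.left) :
    tr a φ hcart b (tr a φ hcart b t x₁ h₁) x₂ h₂ = tr a φ hcart b t x₂ h₃ := by
  have e1 : tr a φ hcart b (tr a φ hcart b t x₁ h₁) x₂ h₂ =
      (psmul (a.prod b) (gOf a φ hcart t x₂ h₃ * (gOf a φ hcart t x₁ h₁)⁻¹)
        (psmul (a.prod b) (gOf a φ hcart t x₁ h₁) (pt t))).left := by
    apply tr_eq a φ hcart b _ _ rfl
    rw [psmul_prod_fst, mul_psmul, inv_psmul_psmul, gOf_spec]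
    rfl
  rw [e1, mul_psmul, inv_psmul_psmul]
  rfl

/-- the descent datum on `X × F ⟶ X` relative to `φ`. -/
noncomputable def dd : Desc.SchDD φ.left where
  obj := Over.mk (fst X F).left
  φ T x₀ x₁ h :=
    { toFun := fun v => ⟨tr a φ hcart b v.1 x₁ (by
          have hv : v.1 ≫ (fst X F).left = x₀ := v.2
          rw [← Category.assoc, hv, h]), tr_fst a φ hcart b _ _ _⟩
      invFun := fun v => ⟨tr a φ hcart b v.1 x₀ (by
          have hv : v.1 ≫ (fst X F).left = x₁ := v.2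
          rw [← Category.assoc, hv, h]), tr_fst a φ hcart b _ _ _⟩
      left_inv := fun v => Subtype.ext (by
        have hv : v.1 ≫ (fst X F).left = x₀ := v.2
        simp only
        rw [tr_tr a φ hcart b v.1 x₁ x₀ _ _ (by rw [← Category.assoc, hv])]
        exact tr_self a φ hcart b v.1 x₀ hv _)
      right_inv := fun v => Subtype.ext (by
        have hv : v.1 ≫ (fst X F).left = x₁ := v.2
        simp only
        rw [tr_tr a φ hcart b v.1 x₀ x₁ _ _ (by rw [← Category.assoc, hv])]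
        exact tr_self a φ hcart b v.1 x₁ hv _) }
  φ_natural T T' g x₀ x₁ h h' v v' hv' := by
    have hv : v.1 ≫ (fst X F).left = x₀ := v.2
    change tr a φ hcart b v'.1 (g ≫ x₁) _ = g ≫ tr a φ hcart b v.1 x₁ _
    rw [← tr_natural a φ hcart b g v.1 x₁ _ (by
      rw [Category.assoc, ← Category.assoc v.1, hv, Category.assoc, h])]
    exact tr_congr a φ hcart b hv' rfl _ _
  φ_self T x v := Subtype.ext (by
    have hv : v.1 ≫ (fst X F).left = x := v.2
    exact tr_self a φ hcart b v.1 x hv _)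
  φ_comp T x₀ x₁ x₂ h₀₁ h₁₂ v := Subtype.ext (by
    have hv : v.1 ≫ (fst X F).left = x₀ := v.2
    exact tr_tr a φ hcart b v.1 x₁ x₂ _ _ _)

end Groth.Agent.H40.AssocBundle
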