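import Groth.Agent.H40.AssocBundle

/-!
# Existence of the associated bundle
-/

set_option autoImplicit false
universe u
open CategoryTheory CategoryTheory.Limits MonoidalCategory CartesianMonoidalCategory MonObj GrpObj
  AlgebraicGeometry

namespace Groth.Agent.H40.AssocBundle

open Groth.Agent.H40

variable {S : Scheme.{u}} {G X Y F : Over S} [GrpObj G]

/-- existence of the associated bundle `Q = X ×^G F` for a `G`-torsor `φ : X ⟶ Y` (flat,
surjective, quasi-compact) and a `G`-scheme `F` such that `X × F ⟶ X` is affine. -/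
theorem exists_assocBundle (a : AlgGrp.Action G X) (φ : X ⟶ Y)
    (hcart : IsPullback a.act (snd G X) φ φ) (b : AlgGrp.Action G F)
    [Surjective φ.left] [Flat φ.left] [QuasiCompact φ.left] [IsAffineHom (fst X F).left] :
    ∃ (Q : Over S) (q : X ⊗ F ⟶ Q) (r : Q ⟶ Y), q ≫ r = fst X F ≫ φ ∧
      IsPullback (fst X F) q φ r ∧ IsPullback (a.prod b).act (snd G (X ⊗ F)) q q := by
  have : IsAffineHom (dd a φ hcart b).obj.hom := ‹IsAffineHom (fst X F).left›
  obtain ⟨U, ⟨θ⟩⟩ := Groth.Agent.S1133.result φ.left (dd a φ hcart b)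
  let e : (X ⊗ F).left ≅ pullback φ.left U.hom :=
    ⟨θ.inv.hom.left, θ.hom.hom.left, congr(($(θ.inv_hom_id)).hom.left),
      congr(($(θ.hom_inv_id)).hom.left)⟩
  have he_fst : e.hom ≫ pullback.fst φ.left U.hom = (fst X F).left := Over.w θ.inv.hom
  let Q : Over S := Over.mk (U.hom ≫ Y.hom)
  have hq_w : (e.hom ≫ pullback.snd φ.left U.hom) ≫ Q.hom = (X ⊗ F).hom := by
    change (e.hom ≫ pullback.snd φ.left U.hom) ≫ U.hom ≫ Y.hom = (X ⊗ F).hom
    rw [Category.assoc, ← pullback.condition_assoc, reassoc_of% he_fst, Over.w φ,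
      Over.w (fst X F)]
  let q : X ⊗ F ⟶ Q := Over.homMk (e.hom ≫ pullback.snd φ.left U.hom) hq_w
  let r : Q ⟶ Y := Over.homMk U.hom rfl
  have hqr : q ≫ r = fst X F ≫ φ := by
    apply Over.OverMorphism.ext
    change (e.hom ≫ pullback.snd φ.left U.hom) ≫ U.hom = (fst X F).left ≫ φ.left
    rw [Category.assoc, ← pullback.condition, reassoc_of% he_fst]
  have hleft : IsPullback (fst X F).left q.left φ.left r.left := by
    refine IsPullback.of_iso_pullback ⟨?_⟩ e he_fst rfl
    have := congr(($hqr).left)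
    simpa using this.symm
  have hpb : IsPullback (fst X F) q φ r := IsPullback.of_map (Over.forget S) hqr.symm hleft
  -- invariance on points
  have hinv_pt : ∀ {T' : Over S} (g : T' ⟶ G) (t' : T' ⟶ X ⊗ F),
      psmul (a.prod b) g t' ≫ q = t' ≫ q := by
    intro T' g t'
    apply Over.OverMorphism.ext
    have hh : (t'.left ≫ (fst X F).left) ≫ φ.left =
        (psmul a g (t' ≫ fst X F)).left ≫ φ.left :=
      (congr(($(psmul_comp_of_isPullback a φ hcart g (t' ≫ fst X F))).left)).symm
    have hc := θ.inv.comm (t'.left ≫ (fst X F).left) (psmul a g (t' ≫ fst X F)).left hh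
      ⟨t'.left, rfl⟩ ⟨t'.left ≫ θ.inv.hom.left, by
        rw [Category.assoc]
        exact congr(t'.left ≫ $(Over.w θ.inv.hom))⟩ rfl
    have hc2 := congr($hc ≫ pullback.snd φ.left U.hom)
    have htr : ((dd a φ hcart b).φ (t'.left ≫ (fst X F).left) (psmul a g (t' ≫ fst X F)).left hh
        ⟨t'.left, rfl⟩).1 = (psmul (a.prod b) g t').left :=
      tr_eq a φ hcart b t' g rfl _ _ rfl
    rw [htr] at hc2
    have hc3 : t'.left ≫ θ.inv.hom.left ≫ pullback.snd φ.left U.hom =
        (psmul (a.prod b) g t').left ≫ θ.inv.hom.left ≫ pullback.snd φ.left U.hom := by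
      refine Eq.trans ?_ hc2
      change _ = pullback.lift _ _ _ ≫ pullback.snd φ.left U.hom
      rw [pullback.lift_snd]
      exact (Category.assoc _ _ _).symm
    exact hc3.symm
  refine ⟨Q, q, r, hqr, hpb, ?_⟩
  apply isPullback_of_psmul
  · have := hinv_pt (fst G (X ⊗ F)) (snd G (X ⊗ F))
    rwa [psmul_def, lift_fst_snd, Category.id_comp] at this
  · intro T x x' hxx
    have h1 : (x ≫ fst X F) ≫ φ = (x' ≫ fst X F) ≫ φ := by
      rw [Category.assoc, Category.assoc, ← hqr, ← Category.assoc, ← Category.assoc, hxx]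
    obtain ⟨g, hg⟩ := exists_psmul_of_isPullback a φ hcart _ _ h1
    refine ⟨g, ?_⟩
    apply hpb.hom_ext
    · rw [psmul_prod_fst, hg]
    · rw [hinv_pt, hxx]
  · intro T g g' x' hgg
    apply eq_of_psmul_eq_of_isPullback a φ hcart g g' (x' ≫ fst X F)
    rw [← psmul_prod_fst, ← psmul_prod_fst, hgg]

end Groth.Agent.H40.AssocBundle
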