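import Mathlib
import Groth.Prelude.Def_NonAbH2

set_option autoImplicit false
universe u
open CategoryTheory CategoryTheory.Limits AlgebraicGeometry

namespace Groth.Agent.H40

/-- descent of morphisms along a morphism which has sections locally for the flat topology. -/
theorem existsUnique_desc_of_fpqc_sections {E P W : Scheme.{u}} (v : E ⟶ P) {R : Presieve P}
    (hR : R ∈ Scheme.fpqcPrecoverage P)
    (hsec : ∀ ⦃U : Scheme.{u}⦄ (g : U ⟶ P), R g → ∃ s : U ⟶ E, s ≫ v = g)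
    (e : E ⟶ W)
    (he : ∀ {Z : Scheme.{u}} (z₁ z₂ : Z ⟶ E), z₁ ≫ v = z₂ ≫ v → z₁ ≫ e = z₂ ≫ e) :
    ∃! w : P ⟶ W, v ≫ w = e := by
  obtain ⟨E₀, rfl⟩ := R.exists_eq_preZeroHypercover
  let 𝒰 : Scheme.fpqcPrecoverage.ZeroHypercover P := ⟨E₀, hR⟩
  choose s hs using fun i => hsec (E₀.f i) ⟨i⟩
  have hcompat : ∀ i j, pullback.fst (𝒰.f i) (𝒰.f j) ≫ (s i ≫ e) =
      pullback.snd (𝒰.f i) (𝒰.f j) ≫ (s j ≫ e) := by
    intro i j
    rw [← Category.assoc, ← Category.assoc]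
    apply he
    rw [Category.assoc, Category.assoc, hs, hs]
    exact pullback.condition
  let w := 𝒰.glueMorphisms (fun i => s i ≫ e) hcompat
  have hw : ∀ i, 𝒰.f i ≫ w = s i ≫ e := fun i => 𝒰.f_glueMorphisms _ hcompat i
  refine ⟨w, ?_, ?_⟩
  · apply (𝒰.pullback₁ v).hom_ext
    intro i
    show pullback.fst v (𝒰.f i) ≫ v ≫ w = pullback.fst v (𝒰.f i) ≫ e
    rw [← Category.assoc, pullback.condition, Category.assoc, hw, ← Category.assoc]
    apply he
    rw [Category.assoc, hs, pullback.condition]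
  · intro w' hw'
    apply 𝒰.hom_ext
    intro i
    rw [hw, ← hs i, Category.assoc, hw']

variable {S : Scheme.{u}}

/-- descent of morphisms of `S`-schemes along a morphism which has sections locally for the flat
topology. -/
theorem existsUnique_desc_over_of_locallyTrivial {E P W : Over S} (v : E ⟶ P)
    (hv : NonAbH1.IsLocallyTrivialFor Scheme.fpqcPrecoverage (Over.mk v.left : Over P.left))
    (e : E ⟶ W)
    (he : ∀ {Z : Over S} (z₁ z₂ : Z ⟶ E), z₁ ≫ v = z₂ ≫ v → z₁ ≫ e = z₂ ≫ e) :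
    ∃! w : P ⟶ W, v ≫ w = e := by
  obtain ⟨R, hR, hsec⟩ := hv
  have hsec' : ∀ ⦃U : Scheme.{u}⦄ (g : U ⟶ P.left), R g → ∃ s : U ⟶ E.left, s ≫ v.left = g := by
    intro U g hg
    obtain ⟨s, hs⟩ := hsec g hg
    exact ⟨s, hs⟩
  have hcoeq : ∀ {Z : Scheme.{u}} (g₁ g₂ : Z ⟶ E.left),
      g₁ ≫ v.left = g₂ ≫ v.left → g₁ ≫ e.left = g₂ ≫ e.left := by
    intro Z g₁ g₂ h12
    have hw : g₁ ≫ E.hom = g₂ ≫ E.hom := by
      rw [← Over.w v, ← Category.assoc, h12, Category.assoc]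
    let Z' : Over S := Over.mk (g₁ ≫ E.hom)
    let γ₁ : Z' ⟶ E := Over.homMk g₁ rfl
    let γ₂ : Z' ⟶ E := Over.homMk g₂ hw.symm
    have h12' : γ₁ ≫ v = γ₂ ≫ v := by
      apply Over.OverMorphism.ext
      exact h12
    exact congrArg (fun t => t.left) (he γ₁ γ₂ h12')
  obtain ⟨w, hw, hwu⟩ := existsUnique_desc_of_fpqc_sections v.left hR hsec' e.left hcoeq
  have hcoeq2 : ∀ {Z : Scheme.{u}} (g₁ g₂ : Z ⟶ E.left),
      g₁ ≫ v.left = g₂ ≫ v.left → g₁ ≫ E.hom = g₂ ≫ E.hom := by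
    intro Z g₁ g₂ h12
    rw [← Over.w v, ← Category.assoc, h12, Category.assoc]
  obtain ⟨t, -, htu⟩ := existsUnique_desc_of_fpqc_sections v.left hR hsec' E.hom hcoeq2
  have hwS : w ≫ W.hom = P.hom := by
    have h1 : w ≫ W.hom = t := htu _ (by
      show v.left ≫ w ≫ W.hom = E.hom
      rw [← Category.assoc, hw, Over.w])
    have h2 : P.hom = t := htu _ (Over.w v)
    rw [h1, h2]
  refine ⟨Over.homMk w hwS, ?_, ?_⟩
  · apply Over.OverMorphism.ext
    exact hw
  · intro w' hw'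
    apply Over.OverMorphism.ext
    exact hwu w'.left (congrArg (fun t => t.left) hw')

/-- a morphism which has sections locally for the flat topology is an epimorphism. -/
theorem epi_of_locallyTrivial {E P : Over S} (v : E ⟶ P)
    (hv : NonAbH1.IsLocallyTrivialFor Scheme.fpqcPrecoverage (Over.mk v.left : Over P.left)) :
    Epi v := by
  refine ⟨fun {W} a b hab => ?_⟩
  obtain ⟨w, -, hwu⟩ := existsUnique_desc_over_of_locallyTrivial v hv (v ≫ a) (by
    intro Z z₁ z₂ h12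
    rw [← Category.assoc, h12, Category.assoc])
  rw [hwu a rfl, hwu b hab.symm]

end Groth.Agent.H40
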