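import Groth.Agent.H40.TorsComp
import Groth.Agent.H40.LocTriv
import Groth.Agent.H40.TorsDesc

/-!
# Points of balanced products
-/

set_option autoImplicit false
universe u
open CategoryTheory CategoryTheory.Limits MonoidalCategory CartesianMonoidalCategory MonObj GrpObj
  AlgebraicGeometry

namespace Groth.Agent.H40

variable {S : Scheme.{u}}

section
variable {G E Y : Over S}

/-- `G ◁ j` is a base change of `j`. -/
lemma isPullback_whiskerLeft (j : E ⟶ Y) :
    IsPullback (snd G E) (G ◁ j) j (snd G Y) := by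
  apply isPullback_of_points
  · rw [whiskerLeft_snd]
  · intro T x y' hxy
    refine ⟨lift (y' ≫ fst G Y) x, lift_snd _ _, ?_⟩
    apply CartesianMonoidalCategory.hom_ext
    · simp
    · simp [hxy]
  · intro T p p' h1 h2
    apply CartesianMonoidalCategory.hom_ext
    · have := congr($h2 ≫ fst G Y)
      simpa using this
    · exact h1

/-- if `j` has sections locally for the flat topology, so does `G ◁ j`; hence it is an epimorphism. -/
lemma epi_whiskerLeft_of_locallyTrivial (j : E ⟶ Y)
    (hj : NonAbH1.IsLocallyTrivialFor Scheme.fpqcPrecoverage (Over.mk j.left : Over Y.left)) :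
    Epi (G ◁ j) := by
  apply epi_of_locallyTrivial
  have hpb : IsPullback (snd G E).left (G ◁ j).left j.left (snd G Y).left :=
    (isPullback_whiskerLeft (G := G) j).map (Over.forget S)
  exact isLocallyTrivialFor_of_isPullback hpb hj

end

section BalProd
variable {G H Z Y : Over S} [GrpObj G] [GrpObj H]

/-- left translation on the first factor of `G ⊗ Z`, on points. -/
lemma psmul_leftMul {T : Over S} (g' g : T ⟶ G) (z : T ⟶ Z) :
    psmul ((NonAbH1.trivialAction G).prod (AlgGrp.Action.trivial G Z)) g' (lift g z) =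
      lift (g' * g) z := by
  rw [psmul_def, AlgGrp.Action.lift_prod_act, AlgGrp.Action.lift_trivial_act, Hom.mul_def]
  rfl

/-- equivariance of `j`, on points. -/
lemma psmul_lift_comp_of_isEquivariant (aY : AlgGrp.Action G Y) (j : G ⊗ Z ⟶ Y)
    (hj : AlgGrp.Action.IsEquivariant
      ((NonAbH1.trivialAction G).prod (AlgGrp.Action.trivial G Z)) aY j)
    {T : Over S} (g' g : T ⟶ G) (z : T ⟶ Z) :
    psmul aY g' (lift g z ≫ j) = lift (g' * g) z ≫ j := by
  rw [← psmul_leftMul, psmul_def, psmul_def, Category.assoc, hj, ← Category.assoc,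
    lift_whiskerLeft]

/-- the twisted action on points. -/
lemma psmul_twist (i : H ⟶ G) [IsMonHom i] (aZ : AlgGrp.Action H Z) {T : Over S} (h : T ⟶ H)
    (g : T ⟶ G) (z : T ⟶ Z) :
    psmul (ChGrp.twist i aZ) h (lift g z) = lift (g * (h ≫ i)⁻¹) (psmul aZ h z) := by
  rw [psmul_def, ChGrp.lift_twist_act, psmul_def]

lemma eq_lift_fst_snd {A B T : Over S} (p : T ⟶ A ⊗ B) : p = lift (p ≫ fst A B) (p ≫ snd A B) := by
  apply CartesianMonoidalCategory.hom_ext <;> simp

/-- an action restricts to a subobject which is stable, given the restricted action morphism. -/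
noncomputable def actionOfMono {Z' : Over S} (aZ : AlgGrp.Action H Z) (c' : Z' ⟶ Z) [Mono c']
    (act' : H ⊗ Z' ⟶ Z') (h : act' ≫ c' = (H ◁ c') ≫ aZ.act) : AlgGrp.Action H Z' where
  act := act'
  one_act := by
    rw [← cancel_mono c']
    apply AlgGrp.Action.hom_ext_lift₂
    intro T u z'
    have hu : u ≫ η[H] = 1 := by rw [Hom.one_def, toUnit_unique (toUnit T) u]
    rw [Category.assoc, h, lift_whiskerRight_assoc, lift_whiskerLeft_assoc, hu,
      AlgGrp.Action.lift_one_act, leftUnitor_hom, lift_snd_assoc]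
  mul_act := by
    rw [← cancel_mono c']
    apply AlgGrp.Action.hom_ext_lift₃
    intro T g g' z'
    simp only [Category.assoc, h]
    rw [lift_whiskerRight_assoc, ← Hom.mul_def, lift_whiskerLeft_assoc, AlgGrp.Action.lift_mul_act,
      lift_lift_associator_hom_assoc, lift_whiskerLeft_assoc, lift_whiskerLeft_assoc,
      Category.assoc, h, lift_whiskerLeft_assoc]

@[simp] lemma actionOfMono_act {Z' : Over S} (aZ : AlgGrp.Action H Z) (c' : Z' ⟶ Z) [Mono c']
    (act' : H ⊗ Z' ⟶ Z') (h : act' ≫ c' = (H ◁ c') ≫ aZ.act) :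
    (actionOfMono aZ c' act' h).act = act' := rfl

end BalProd

end Groth.Agent.H40
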