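import Groth.Agent.H40.BalProd

/-!
# Invariant subobjects of a balanced product are balanced products
-/

set_option autoImplicit false
universe u
open CategoryTheory CategoryTheory.Limits MonoidalCategory CartesianMonoidalCategory MonObj GrpObj
  AlgebraicGeometry

namespace Groth.Agent.H40

variable {S : Scheme.{u}} {G H Z Y Y' : Over S} [GrpObj G] [GrpObj H]

theorem exists_balProd_sub_aux (K : Precoverage Scheme.{u}) [K.IsStableUnderBaseChange]
    (i : H ⟶ G) [IsMonHom i] (aZ : AlgGrp.Action H Z) (aY : AlgGrp.Action G Y) (j : G ⊗ Z ⟶ Y)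
    (hY : ChGrp.IsBalProd K i aZ aY j)
    (c : Y' ⟶ Y) [Mono c] (aY' : AlgGrp.Action G Y')
    (hc : AlgGrp.Action.IsEquivariant aY' aY c)
    (e : Z ⟶ Y) (he : ∀ {T : Over S} (z : T ⟶ Z), z ≫ e = lift (1 : T ⟶ G) z ≫ j)
    {Z' : Over S} (c' : Z' ⟶ Z) (y' : Z' ⟶ Y') (hpb : IsPullback c' y' e c) :
    ∃ (aZ' : AlgGrp.Action H Z') (j' : G ⊗ Z' ⟶ Y'),
      AlgGrp.Action.IsEquivariant aZ' aZ c' ∧ j' ≫ c = (G ◁ c') ≫ j ∧
      ChGrp.IsBalProd K i aZ' aY' j' := by
  obtain ⟨hY1, hY2, hY3⟩ := hY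
  have hpair : ∀ {A B T : Over S} (p : T ⟶ A ⊗ B), ∃ (a : T ⟶ A) (b : T ⟶ B), p = lift a b :=
    fun p => ⟨_, _, eq_lift_fst_snd p⟩
  have hcP : ∀ {T : Over S} (g : T ⟶ G) (y : T ⟶ Y'), psmul aY' g y ≫ c = psmul aY g (y ≫ c) := by
    intro T g y
    rw [psmul_def, psmul_def, Category.assoc, hc, lift_whiskerLeft_assoc]
  have hjP : ∀ {T : Over S} (g' g : T ⟶ G) (z : T ⟶ Z),
      psmul aY g' (lift g z ≫ j) = lift (g' * g) z ≫ j :=
    fun g' g z => psmul_lift_comp_of_isEquivariant aY j hY1 g' g z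
  have hE1 : ∀ {T : Over S} (h : T ⟶ H) (z : T ⟶ Z),
      psmul aZ h z ≫ e = psmul aY (h ≫ i) (z ≫ e) := by
    intro T h z
    rw [he, he, hjP, _root_.mul_one]
    have h1 := psmul_comp_of_isPullback (ChGrp.twist i aZ) j hY2 h (lift (h ≫ i) z)
    rw [psmul_twist, _root_.mul_inv_cancel] at h1
    exact h1
  have hmono : Mono c' := by
    refine ⟨fun {T} a b hab => ?_⟩
    apply hpb.hom_ext hab
    rw [← cancel_mono c, Category.assoc, Category.assoc, ← hpb.w, ← Category.assoc,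
      ← Category.assoc, hab]
  -- the action morphism
  have hw : ((H ◁ c') ≫ aZ.act) ≫ e = ((i ▷ Z') ≫ (G ◁ y') ≫ aY'.act) ≫ c := by
    apply AlgGrp.Action.hom_ext_lift₂
    intro T h z'
    have e1 : lift h z' ≫ ((H ◁ c') ≫ aZ.act) = psmul aZ h (z' ≫ c') := by
      rw [lift_whiskerLeft_assoc, psmul_def]
    have e2 : lift h z' ≫ ((i ▷ Z') ≫ (G ◁ y') ≫ aY'.act) = psmul aY' (h ≫ i) (z' ≫ y') := by
      rw [lift_whiskerRight_assoc, lift_whiskerLeft_assoc, psmul_def]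
    calc lift h z' ≫ ((H ◁ c') ≫ aZ.act) ≫ e
        = (lift h z' ≫ (H ◁ c') ≫ aZ.act) ≫ e := by simp only [Category.assoc]
      _ = psmul aZ h (z' ≫ c') ≫ e := by rw [e1]
      _ = psmul aY (h ≫ i) ((z' ≫ c') ≫ e) := hE1 _ _
      _ = psmul aY (h ≫ i) ((z' ≫ y') ≫ c) := by rw [Category.assoc, hpb.w, Category.assoc]
      _ = psmul aY' (h ≫ i) (z' ≫ y') ≫ c := (hcP _ _).symm
      _ = (lift h z' ≫ (i ▷ Z') ≫ (G ◁ y') ≫ aY'.act) ≫ c := by rw [e2]
      _ = lift h z' ≫ ((i ▷ Z') ≫ (G ◁ y') ≫ aY'.act) ≫ c := by simp only [Category.assoc]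
  have hact1 : hpb.lift _ _ hw ≫ c' = (H ◁ c') ≫ aZ.act := hpb.lift_fst _ _ hw
  have hact2 : hpb.lift _ _ hw ≫ y' = (i ▷ Z') ≫ (G ◁ y') ≫ aY'.act := hpb.lift_snd _ _ hw
  generalize hpb.lift _ _ hw = act' at hact1 hact2
  have hZ'1 : ∀ {T : Over S} (h : T ⟶ H) (z' : T ⟶ Z'),
      psmul (actionOfMono aZ c' act' hact1) h z' ≫ c' = psmul aZ h (z' ≫ c') := by
    intro T h z'
    rw [psmul_def, actionOfMono_act, Category.assoc, hact1, lift_whiskerLeft_assoc, psmul_def]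
  have hZ'2 : ∀ {T : Over S} (h : T ⟶ H) (z' : T ⟶ Z'),
      psmul (actionOfMono aZ c' act' hact1) h z' ≫ y' = psmul aY' (h ≫ i) (z' ≫ y') := by
    intro T h z'
    rw [psmul_def, actionOfMono_act, Category.assoc, hact2, lift_whiskerRight_assoc,
      lift_whiskerLeft_assoc, psmul_def]
  have hj'P : ∀ {T : Over S} (g : T ⟶ G) (z' : T ⟶ Z'),
      lift g z' ≫ (G ◁ y') ≫ aY'.act = psmul aY' g (z' ≫ y') := by
    intro T g z'
    rw [lift_whiskerLeft_assoc, psmul_def]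
  have hj'c : ((G ◁ y') ≫ aY'.act) ≫ c = (G ◁ c') ≫ j := by
    apply AlgGrp.Action.hom_ext_lift₂
    intro T g z'
    rw [← Category.assoc, hj'P, hcP, Category.assoc, ← hpb.w, ← Category.assoc, he, hjP,
      _root_.mul_one, lift_whiskerLeft_assoc]
  refine ⟨actionOfMono aZ c' act' hact1, (G ◁ y') ≫ aY'.act, hact1, hj'c, ?_, ?_, ?_⟩
  · -- equivariance
    apply AlgGrp.Action.hom_ext_lift₂
    intro T g₁ p
    obtain ⟨g, z', rfl⟩ := hpair p
    rw [← Category.assoc, ← psmul_def, psmul_leftMul, hj'P, lift_whiskerLeft_assoc, hj'P,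
      ← psmul_def, mul_psmul]
  · -- the Galois square
    apply isPullback_of_psmul
    · apply AlgGrp.Action.hom_ext_lift₂
      intro T h p
      obtain ⟨g, z', rfl⟩ := hpair p
      rw [← Category.assoc, ← psmul_def, psmul_twist, hj'P, hZ'2, ← mul_psmul,
        _root_.inv_mul_cancel_right, lift_snd_assoc, hj'P]
    · intro T p₁ p₂ h12
      obtain ⟨g₁, z₁, rfl⟩ := hpair p₁
      obtain ⟨g₂, z₂, rfl⟩ := hpair p₂
      have hkey : ∀ (g : T ⟶ G) (z : T ⟶ Z'),
          lift g (z ≫ c') ≫ j = (lift g z ≫ (G ◁ y') ≫ aY'.act) ≫ c := by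
        intro g z
        rw [Category.assoc, Category.assoc, ← Category.assoc (G ◁ y'), hj'c,
          lift_whiskerLeft_assoc]
      have h12' : lift g₁ (z₁ ≫ c') ≫ j = lift g₂ (z₂ ≫ c') ≫ j := by
        rw [hkey, hkey, h12]
      obtain ⟨h, hh⟩ := exists_psmul_of_isPullback (ChGrp.twist i aZ) j hY2 _ _ h12'
      rw [psmul_twist] at hh
      have hh1 : g₂ * (h ≫ i)⁻¹ = g₁ := by
        have := congr($hh ≫ fst G Z)
        simpa using this
      have hh2 : psmul aZ h (z₂ ≫ c') = z₁ ≫ c' := by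
        have := congr($hh ≫ snd G Z)
        simpa using this
      refine ⟨h, ?_⟩
      rw [psmul_twist, hh1]
      congr 1
      rw [← cancel_mono c', hZ'1, hh2]
    · intro T h h' p hhh
      obtain ⟨g, z', rfl⟩ := hpair p
      rw [psmul_twist, psmul_twist] at hhh
      apply eq_of_psmul_eq_of_isPullback (ChGrp.twist i aZ) j hY2 h h' (lift g (z' ≫ c'))
      rw [psmul_twist, psmul_twist, ← hZ'1, ← hZ'1]
      have h1 := congr($hhh ≫ fst G Z')
      have h2 := congr($hhh ≫ snd G Z')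
      simp only [lift_fst, lift_snd] at h1 h2
      rw [h1, h2]
  · -- local sections, by base change
    have hsq : IsPullback (G ◁ c') ((G ◁ y') ≫ aY'.act) j c := by
      apply isPullback_of_points hj'c.symm
      · intro T p y₁ hpy
        obtain ⟨g, z, rfl⟩ := hpair p
        have hz : z ≫ e = psmul aY' g⁻¹ y₁ ≫ c := by
          rw [hcP, ← hpy, hjP, _root_.inv_mul_cancel, he]
        refine ⟨lift g (hpb.lift z (psmul aY' g⁻¹ y₁) hz), ?_, ?_⟩
        · rw [lift_whiskerLeft, hpb.lift_fst]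
        · rw [hj'P, hpb.lift_snd, psmul_inv_psmul]
      · intro T p p' h1 h2
        obtain ⟨g, z', rfl⟩ := hpair p
        obtain ⟨g', z'', rfl⟩ := hpair p'
        rw [lift_whiskerLeft, lift_whiskerLeft] at h1
        have e1 : g = g' := by
          have := congr($h1 ≫ fst G Z)
          simpa using this
        have e2 : z' ≫ c' = z'' ≫ c' := by
          have := congr($h1 ≫ snd G Z)
          simpa using this
        rw [e1, (cancel_mono c').1 e2]
    exact isLocallyTrivialFor_of_isPullback (hsq.map (Over.forget S)) hY3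

end Groth.Agent.H40
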