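import Mathlib
import Groth.Agent.H40.Torsor

/-!
# Birational bookkeeping for products over a base
-/

set_option autoImplicit false
universe u
open CategoryTheory CategoryTheory.Limits MonoidalCategory CartesianMonoidalCategory
  AlgebraicGeometry

namespace Groth.Agent.H40.Birat

/-- the base change of a dominant morphism along an open map is dominant. -/
lemma isDominant_of_isPullback {P U X Y : Scheme.{u}} {g' : P ⟶ U} {j' : P ⟶ Y} {j : U ⟶ X}
    {g : Y ⟶ X} (sq : IsPullback g' j' j g) [IsDominant j] (hg : IsOpenMap g) :
    IsDominant j' := by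
  have e : j' = sq.isoPullback.hom ≫ pullback.snd j g := (sq.isoPullback_hom_snd).symm
  have h1 : IsDominant (pullback.snd j g) := by
    refine ⟨?_⟩
    rw [DenseRange, Scheme.Pullback.range_snd]
    exact j.denseRange.preimage hg
  rw [e]
  infer_instance

variable {S : Scheme.{u}}

/-- a dominant open immersion gives a birational equivalence of products with a universally open
`Y`. -/
lemma birationalOver_whiskerRight {U X Y : Over S} (j : U ⟶ X) [IsOpenImmersion j.left]
    [IsDominant j.left] [UniversallyOpen Y.hom] :
    Scheme.BirationalOver (U ⊗ Y).hom (X ⊗ Y).hom := by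
  have sq : IsPullback (fst U Y).left (j ▷ Y).left j.left (fst X Y).left :=
    ((isPullback_whiskerRight_fst j Y).map (Over.forget S)).flip
  have hopen : IsOpenMap (fst X Y).left := by
    change IsOpenMap (pullback.fst X.hom Y.hom)
    exact (pullback.fst X.hom Y.hom).isOpenMap
  have h1 : IsDominant (j ▷ Y).left := isDominant_of_isPullback sq hopen
  have h2 : IsOpenImmersion (j ▷ Y).left :=
    MorphismProperty.of_isPullback (P := @IsOpenImmersion) sq inferInstance
  exact Scheme.Hom.birationalOver (j ▷ Y).left (X ⊗ Y).hom (U ⊗ Y).hom (Over.w (j ▷ Y))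

/-- birational equivalences can be multiplied with a universally open `Y`. -/
theorem birationalOver_tensor_right {X X' Y : Over S} [UniversallyOpen Y.hom]
    (h : Scheme.BirationalOver X.hom X'.hom) :
    Scheme.BirationalOver (X ⊗ Y).hom (X' ⊗ Y).hom := by
  obtain ⟨f, hf⟩ := h
  -- the two dense opens as objects over `S`
  let U : Over S := Over.mk (f.source.ι ≫ X.hom)
  let U' : Over S := Over.mk (f.target.ι ≫ X'.hom)
  let j : U ⟶ X := Over.homMk f.source.ι rfl
  let j' : U' ⟶ X' := Over.homMk f.target.ι rfl
  let e : U ≅ U' := Over.isoMk f.iso (by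
    change f.iso.hom ≫ f.target.ι ≫ X'.hom = f.source.ι ≫ X.hom
    exact hf)
  have hj : IsOpenImmersion j.left := inferInstanceAs (IsOpenImmersion f.source.ι)
  have hj' : IsOpenImmersion j'.left := inferInstanceAs (IsOpenImmersion f.target.ι)
  have hd : IsDominant j.left := by
    refine ⟨?_⟩
    change DenseRange f.source.ι
    rw [DenseRange, Scheme.Opens.range_ι]
    exact f.dense_source
  have hd' : IsDominant j'.left := by
    refine ⟨?_⟩
    change DenseRange f.target.ι
    rw [DenseRange, Scheme.Opens.range_ι]
    exact f.dense_target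
  have b1 : Scheme.BirationalOver (U ⊗ Y).hom (X ⊗ Y).hom := birationalOver_whiskerRight j
  have b2 : Scheme.BirationalOver (U' ⊗ Y).hom (X' ⊗ Y).hom := birationalOver_whiskerRight j'
  have b3 : Scheme.BirationalOver (U ⊗ Y).hom (U' ⊗ Y).hom := by
    have : IsIso (e.hom ▷ Y).left := inferInstanceAs (IsIso ((Over.forget S).map (e.hom ▷ Y)))
    exact Scheme.Hom.birationalOver (e.hom ▷ Y).left _ _ (Over.w (e.hom ▷ Y))
  exact b1.symm.trans (b3.trans b2)

/-- an isomorphism over `S` is a birational equivalence. -/
lemma birationalOver_of_iso {X X' : Over S} (e : X ≅ X') : Scheme.BirationalOver X.hom X'.hom := by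
  have : IsIso e.hom.left := inferInstanceAs (IsIso ((Over.forget S).map e.hom))
  exact Scheme.Hom.birationalOver e.hom.left _ _ (Over.w e.hom)

/-- birational equivalences can be multiplied (on the other side). -/
theorem birationalOver_tensor_left {X X' Y : Over S} [UniversallyOpen Y.hom]
    (h : Scheme.BirationalOver X.hom X'.hom) :
    Scheme.BirationalOver (Y ⊗ X).hom (Y ⊗ X').hom :=
  (birationalOver_of_iso (β_ Y X)).trans
    ((birationalOver_tensor_right h).trans (birationalOver_of_iso (β_ X' Y)))

end Groth.Agent.H40.Birat
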