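import Mathlib
import Groth.Agent.H40.Birat

/-!
# Rational schemes over a field: irreducibility and finiteness of the number of variables
-/

set_option autoImplicit false
universe u
open CategoryTheory CategoryTheory.Limits MonoidalCategory CartesianMonoidalCategory
  AlgebraicGeometry

namespace Groth.Agent.H40.Birat

open MvPolynomial in
/-- if a localization `k[X_i : i ∈ n][1/g]` is noetherian, then `n` is finite. -/
theorem finite_of_noetherian_away {k : Type u} [Field k] {n : Type u} (g : MvPolynomial n k)
    (hg : g ≠ 0) (B : Type u) [CommRing B] [Algebra (MvPolynomial n k) B]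
    [IsLocalization.Away g B] [IsNoetherianRing B] : Finite n := by
  classical
  by_contra hinf
  rw [not_finite_iff_infinite] at hinf
  let R := MvPolynomial n k
  let F₀ : Finset n := g.vars
  let t : Set n := {i | i ∉ F₀}
  let I : Ideal B := Ideal.span ((fun i => algebraMap R B (X i)) '' t)
  have hfg : I.FG := IsNoetherian.noetherian I
  obtain ⟨s', hs's, hspan⟩ := (Submodule.fg_span_iff_fg_span_finset_subset _).1 hfg
  obtain ⟨F₁, hF₁t, hF₁⟩ := Finset.subset_set_image_iff.1 hs's
  obtain ⟨j, hj⟩ := Infinite.exists_notMem_finset (F₀ ∪ F₁)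
  rw [Finset.mem_union, not_or] at hj
  have hjI : algebraMap R B (X j) ∈ I := Ideal.subset_span ⟨j, hj.1, rfl⟩
  have hI' : I = Ideal.map (algebraMap R B) (Ideal.span ((X : n → R) '' (F₁ : Set n))) := by
    change Submodule.span B _ = _
    rw [hspan, ← hF₁, Ideal.map_span, Finset.coe_image, Set.image_image]
  rw [hI', IsLocalization.mem_map_algebraMap_iff (Submonoid.powers g)] at hjI
  obtain ⟨⟨⟨a, ha⟩, ⟨c, m, rfl⟩⟩, hac⟩ := hjI
  simp only at hac
  rw [← map_mul] at hac
  have hinj : Function.Injective (algebraMap R B) :=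
    IsLocalization.injective B (powers_le_nonZeroDivisors_of_noZeroDivisors hg)
  have hac' : X j * g ^ m = a := hinj hac
  let φ : R →ₐ[k] R := aeval (fun i => if i ∈ F₁ then 0 else X i)
  have hφa : φ a = 0 := by
    have hle : Ideal.span ((X : n → R) '' (F₁ : Set n)) ≤ RingHom.ker φ.toRingHom := by
      rw [Ideal.span_le]
      rintro _ ⟨i, hi, rfl⟩
      change φ (X i) = 0
      change aeval _ (X i) = 0
      rw [aeval_X, if_pos (Finset.mem_coe.1 hi)]
    exact hle ha
  have hφg : φ g = g := by
    have h1 : φ g = aeval (X : n → R) g := by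
      apply MvPolynomial.eval₂Hom_congr' rfl _ rfl
      intro i hi _
      have : i ∉ F₁ := fun h => hF₁t h hi
      simp only [if_neg this]
    rw [h1, aeval_X_left, AlgHom.id_apply]
  have hφj : φ (X j) = X j := by
    change aeval _ (X j) = X j
    rw [aeval_X, if_neg hj.2]
  have h0 : X j * g ^ m = 0 := by
    have := congr(φ $hac')
    rw [map_mul, map_pow, hφg, hφj, hφa] at this
    exact this
  rcases mul_eq_zero.1 h0 with h | h
  · exact X_ne_zero j h
  · exact hg (eq_zero_of_pow_eq_zero h)

/-- a scheme rational over an irreducible base is irreducible. -/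
theorem irreducibleSpace_of_isRationalOver {S X : Scheme.{u}} [IrreducibleSpace S] (sX : X ⟶ S)
    [Scheme.IsRationalOver sX] : IrreducibleSpace X := by
  obtain ⟨n, f, -⟩ := Scheme.IsRationalOver.exists_birationalOver_affineSpace sX
  have hne : Nonempty f.target := by
    obtain ⟨y, hy⟩ := f.dense_target.nonempty
    exact ⟨⟨y, hy⟩⟩
  have h1 : IrreducibleSpace f.target := f.target.ι.isOpenEmbedding.irreducibleSpace
  have h2 : IrreducibleSpace f.source :=
    f.iso.inv.surjective.irreducibleSpace f.iso.inv.continuous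
  have h3 : IsIrreducible (f.source : Set X) :=
    @IsIrreducible.of_subtype X _ (f.source : Set X) h2
  have h4 := h3.closure
  rw [f.dense_source.closure_eq] at h4
  exact (irreducibleSpace_def X).2 h4

/-- a rational scheme locally of finite type over a field is birational to a finite-dimensional
affine space. -/
theorem exists_fin_birationalOver {k : Type u} [Field k] {X : Scheme.{u}}
    (sX : X ⟶ Spec (CommRingCat.of k)) [LocallyOfFiniteType sX] [Scheme.IsRationalOver sX] :
    ∃ s : ℕ, Scheme.BirationalOver sX
      (Spec.map (CommRingCat.ofHom (algebraMap k (MvPolynomial (Fin s) k)))) := by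
  obtain ⟨n, f, hf⟩ := Scheme.IsRationalOver.exists_birationalOver_affineSpace sX
  have hn : Scheme.BirationalOver sX (𝔸(n; Spec (CommRingCat.of k)) ↘ Spec (CommRingCat.of k)) :=
    ⟨f, hf⟩
  let e := AffineSpace.SpecIso n (CommRingCat.of k)
  -- the target of the partial isomorphism is locally of finite type over `k`
  have hVlft : LocallyOfFiniteType
      (f.target.ι ≫ (𝔸(n; Spec (CommRingCat.of k)) ↘ Spec (CommRingCat.of k))) := by
    have e1 : f.target.ι ≫ (𝔸(n; Spec (CommRingCat.of k)) ↘ Spec (CommRingCat.of k)) =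
        f.iso.inv ≫ f.source.ι ≫ sX := by
      rw [← hf, Iso.inv_hom_id_assoc]
    rw [e1]
    infer_instance
  -- a basic open inside the target
  obtain ⟨y, hy⟩ := f.dense_target.nonempty
  let V : Set 𝔸(n; Spec (CommRingCat.of k)) := f.target
  have hopen : IsOpen (e.inv ⁻¹' V) := f.target.isOpen.preimage e.inv.continuous
  have hx : e.hom y ∈ e.inv ⁻¹' V := by
    change e.inv (e.hom y) ∈ V
    rw [← Scheme.Hom.comp_apply, e.hom_inv_id]
    exact hy
  obtain ⟨_, ⟨g, rfl⟩, hxg, hgV⟩ :=
    PrimeSpectrum.isTopologicalBasis_basic_opens.exists_subset_of_mem_open hx hopen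
  have hg : g ≠ 0 := by
    rintro rfl
    have hxg' : e.hom y ∈ (PrimeSpectrum.basicOpen (0 : MvPolynomial n k) :
      Set (PrimeSpectrum (MvPolynomial n k))) := hxg
    rw [PrimeSpectrum.basicOpen_zero] at hxg'
    exact hxg'
  let j := Spec.map (CommRingCat.ofHom (algebraMap (MvPolynomial n k) (Localization.Away g)))
  have hj : IsOpenImmersion j := inferInstance
  have hrange : Set.range (j ≫ e.inv) ⊆ Set.range f.target.ι := by
    rintro _ ⟨z, rfl⟩
    rw [Scheme.Opens.range_ι]
    have hz : (j z : PrimeSpectrum (MvPolynomial n k)) ∈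
        (PrimeSpectrum.basicOpen g : Set (PrimeSpectrum (MvPolynomial n k))) := by
      have := PrimeSpectrum.localization_away_comap_range (Localization.Away g) g
      rw [← this]
      exact ⟨z, rfl⟩
    exact hgV hz
  let h := IsOpenImmersion.lift f.target.ι (j ≫ e.inv) hrange
  have hh : h ≫ f.target.ι = j ≫ e.inv := IsOpenImmersion.lift_fac _ _ _
  have hhoi : IsOpenImmersion h := by
    have : IsOpenImmersion (h ≫ f.target.ι) := by rw [hh]; infer_instance
    exact IsOpenImmersion.of_comp h f.target.ι
  have h1 : LocallyOfFiniteType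
      (h ≫ f.target.ι ≫ (𝔸(n; Spec (CommRingCat.of k)) ↘ Spec (CommRingCat.of k))) :=
    inferInstance
  have e2 : h ≫ f.target.ι ≫ (𝔸(n; Spec (CommRingCat.of k)) ↘ Spec (CommRingCat.of k)) =
      Spec.map (CommRingCat.ofHom
        ((algebraMap (MvPolynomial n k) (Localization.Away g)).comp MvPolynomial.C)) := by
    rw [← Category.assoc, hh, Category.assoc, AffineSpace.SpecIso_inv_over, ← Spec.map_comp]
    rfl
  rw [e2, HasRingHomProperty.Spec_iff (P := @LocallyOfFiniteType)] at h1
  have hnoeth : IsNoetherianRing (Localization.Away g) := by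
    let := ((algebraMap (MvPolynomial n k) (Localization.Away g)).comp MvPolynomial.C).toAlgebra
    have : Algebra.FiniteType k (Localization.Away g) := h1
    exact Algebra.FiniteType.isNoetherianRing k (Localization.Away g)
  have hfin : Finite n := finite_of_noetherian_away g hg (Localization.Away g)
  -- reindex
  let s := Nat.card n
  let eq : n ≃ Fin s := Finite.equivFin n
  let ρ : MvPolynomial n k ≃ₐ[k] MvPolynomial (Fin s) k := MvPolynomial.renameEquiv k eq
  let F : Spec (CommRingCat.of (MvPolynomial (Fin s) k)) ⟶ 𝔸(n; Spec (CommRingCat.of k)) :=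
    Spec.map (CommRingCat.ofHom ρ.toRingEquiv.toRingHom) ≫ e.inv
  have hFiso : IsIso F := by
    have : IsIso (CommRingCat.ofHom ρ.toRingEquiv.toRingHom) :=
      (ρ.toRingEquiv.toCommRingCatIso).isIso_hom
    infer_instance
  have hF : F ≫ (𝔸(n; Spec (CommRingCat.of k)) ↘ Spec (CommRingCat.of k)) =
      Spec.map (CommRingCat.ofHom (algebraMap k (MvPolynomial (Fin s) k))) := by
    change (Spec.map _ ≫ e.inv) ≫ _ = _
    rw [Category.assoc, AffineSpace.SpecIso_inv_over, ← Spec.map_comp]
    congr 1
    rw [← CommRingCat.ofHom_comp]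
    congr 1
    exact RingHom.ext fun x => ρ.commutes x
  refine ⟨s, hn.trans ?_⟩
  exact (Scheme.Hom.birationalOver F _ _ hF).symm

end Groth.Agent.H40.Birat
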