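import Mathlib.AlgebraicGeometry.Sites.Fpqc
import Mathlib.AlgebraicGeometry.Morphisms.FinitePresentation
import Mathlib.AlgebraicGeometry.Noetherian
import Mathlib.AlgebraicGeometry.Morphisms.FlatMono
import Mathlib.CategoryTheory.Monoidal.Cartesian.Over
import Mathlib.CategoryTheory.Monoidal.Cartesian.Grp

set_option autoImplicit false
universe u

open CategoryTheory AlgebraicGeometry

namespace Groth.Agent.H40

variable {S : Scheme.{u}}

/-- a flat, surjective morphism locally of finite presentation of `S`-schemes. -/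
def IsCovFP {T' T : Over S} (c : T' ⟶ T) : Prop :=
  Flat c.left ∧ Surjective c.left ∧ LocallyOfFinitePresentation c.left

lemma IsCovFP.id (T : Over S) : IsCovFP (𝟙 T) := by
  refine ⟨?_, ?_, ?_⟩
  · show Flat (𝟙 T.left); infer_instance
  · show Surjective (𝟙 T.left); infer_instance
  · show LocallyOfFinitePresentation (𝟙 T.left); infer_instance

lemma IsCovFP.comp {T'' T' T : Over S} {c' : T'' ⟶ T'} {c : T' ⟶ T} (hc' : IsCovFP c') (hc : IsCovFP c) :
    IsCovFP (c' ≫ c) := by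
  obtain ⟨h1, h2, h3⟩ := hc'
  obtain ⟨h4, h5, h6⟩ := hc
  refine ⟨?_, ?_, ?_⟩
  · show Flat (c'.left ≫ c.left); infer_instance
  · show Surjective (c'.left ≫ c.left); infer_instance
  · show LocallyOfFinitePresentation (c'.left ≫ c.left); infer_instance

lemma IsCovFP.effectiveEpi_left {T' T : Over S} {c : T' ⟶ T} (hc : IsCovFP c) : EffectiveEpi c.left := by
  obtain ⟨h1, h2, h3⟩ := hc
  infer_instance

lemma IsCovFP.epi {T' T : Over S} {c : T' ⟶ T} (hc : IsCovFP c) : Epi c := by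
  have := hc.effectiveEpi_left
  have h : Epi ((Over.forget S).map c) := (inferInstance : Epi c.left)
  exact (Over.forget S).epi_of_epi_map h

lemma IsCovFP.pullback_fst {X Y Z : Over S} (f : X ⟶ Z) (g : Y ⟶ Z) (hg : IsCovFP g) :
    IsCovFP (Limits.pullback.fst f g) := by
  obtain ⟨h1, h2, h3⟩ := hg
  have hpb := (IsPullback.of_hasPullback f g).map (Over.forget S)
  exact ⟨MorphismProperty.of_isPullback (P := @Flat) hpb.flip h1,
    MorphismProperty.of_isPullback (P := @Surjective) hpb.flip h2,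
    MorphismProperty.of_isPullback (P := @LocallyOfFinitePresentation) hpb.flip h3⟩

lemma IsCovFP.pullback_snd {X Y Z : Over S} (f : X ⟶ Z) (g : Y ⟶ Z) (hf : IsCovFP f) :
    IsCovFP (Limits.pullback.snd f g) := by
  obtain ⟨h1, h2, h3⟩ := hf
  have hpb := (IsPullback.of_hasPullback f g).map (Over.forget S)
  exact ⟨MorphismProperty.of_isPullback (P := @Flat) hpb h1,
    MorphismProperty.of_isPullback (P := @Surjective) hpb h2,
    MorphismProperty.of_isPullback (P := @LocallyOfFinitePresentation) hpb h3⟩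

/-- descent of morphisms along a cover, in `Over S`. -/
lemma IsCovFP.exists_desc {T' T W : Over S} {c : T' ⟶ T} (hc : IsCovFP c) (e : T' ⟶ W)
    (h : ∀ (Z : Over S) (g₁ g₂ : Z ⟶ T'), g₁ ≫ c = g₂ ≫ c → g₁ ≫ e = g₂ ≫ e) :
    ∃ v : T ⟶ W, c ≫ v = e := by
  have hEE := hc.effectiveEpi_left
  have hcoeq : ∀ {Z : Scheme} (g₁ g₂ : Z ⟶ T'.left),
      g₁ ≫ c.left = g₂ ≫ c.left → g₁ ≫ e.left = g₂ ≫ e.left := by
    intro Z g₁ g₂ h12
    have hw : g₁ ≫ T'.hom = g₂ ≫ T'.hom := by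
      rw [← Over.w c, ← Category.assoc, h12, Category.assoc]
    let Z' : Over S := Over.mk (g₁ ≫ T'.hom)
    let γ₁ : Z' ⟶ T' := Over.homMk g₁ rfl
    let γ₂ : Z' ⟶ T' := Over.homMk g₂ hw.symm
    have h12' : γ₁ ≫ c = γ₂ ≫ c := by
      apply Over.OverMorphism.ext
      exact h12
    exact congrArg (fun t => t.left) (h Z' γ₁ γ₂ h12')
  have hfac : c.left ≫ EffectiveEpi.desc c.left e.left hcoeq = e.left := EffectiveEpi.fac _ _ _
  have hw : EffectiveEpi.desc c.left e.left hcoeq ≫ W.hom = T.hom := by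
    rw [← cancel_epi c.left, ← Category.assoc, hfac, Over.w, Over.w]
  refine ⟨Over.homMk (EffectiveEpi.desc c.left e.left hcoeq) hw, ?_⟩
  apply Over.OverMorphism.ext
  exact hfac

/-- descent of a factorisation through a monomorphism. -/
lemma IsCovFP.exists_factor {T' T H G : Over S} {c : T' ⟶ T} (hc : IsCovFP c) (i : H ⟶ G) [Mono i]
    (g : T ⟶ G) (h' : T' ⟶ H) (hh : h' ≫ i = c ≫ g) : ∃ v : T ⟶ H, v ≫ i = g := by
  obtain ⟨v, hv⟩ := hc.exists_desc h' (by
    intro Z g₁ g₂ h12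
    rw [← cancel_mono i, Category.assoc, Category.assoc, hh, ← Category.assoc, h12,
      Category.assoc])
  refine ⟨v, ?_⟩
  have := hc.epi
  rw [← cancel_epi c, ← Category.assoc, hv, hh]

/-- points lift locally along a cover. -/
lemma IsCovFP.exists_local_lift {G Q T : Over S} {q : G ⟶ Q} (hq : IsCovFP q) (x : T ⟶ Q) :
    ∃ (T' : Over S) (c : T' ⟶ T) (y : T' ⟶ G), IsCovFP c ∧ y ≫ q = c ≫ x :=
  ⟨Limits.pullback x q, Limits.pullback.fst x q, Limits.pullback.snd x q,
    IsCovFP.pullback_fst x q hq, Limits.pullback.condition.symm⟩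

/-- two covers have a common refinement. -/
lemma IsCovFP.exists_common {T T₁ T₂ : Over S} {c₁ : T₁ ⟶ T} {c₂ : T₂ ⟶ T} (h₁ : IsCovFP c₁)
    (h₂ : IsCovFP c₂) : ∃ (T' : Over S) (p₁ : T' ⟶ T₁) (p₂ : T' ⟶ T₂),
      p₁ ≫ c₁ = p₂ ≫ c₂ ∧ IsCovFP (p₁ ≫ c₁) :=
  ⟨Limits.pullback c₁ c₂, Limits.pullback.fst c₁ c₂, Limits.pullback.snd c₁ c₂,
    Limits.pullback.condition, (IsCovFP.pullback_fst c₁ c₂ h₂).comp h₁⟩

/-- a monomorphism which is locally surjective on points is an isomorphism. -/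
lemma isIso_of_mono_of_local_sectionFP {C C' : Over S} (f : C ⟶ C') [Mono f]
    (h : ∃ (T' : Over S) (c : T' ⟶ C') (y : T' ⟶ C), IsCovFP c ∧ y ≫ f = c) : IsIso f := by
  obtain ⟨T', c, y, hc, hy⟩ := h
  obtain ⟨g, hg⟩ := hc.exists_desc y (by
    intro Z g₁ g₂ h12
    rw [← cancel_mono f, Category.assoc, Category.assoc, hy, h12])
  have := hc.epi
  have h1 : g ≫ f = 𝟙 C' := by
    rw [← cancel_epi c, ← Category.assoc, hg, hy, Category.comp_id]
  have h2 : f ≫ g = 𝟙 C := by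
    rw [← cancel_mono f, Category.assoc, h1, Category.comp_id, Category.id_comp]
  exact ⟨g, h2, h1⟩

end Groth.Agent.H40
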