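import Groth.Agent.H40.CoverFP
import Groth.Agent.H40.Torsor
import Groth.Agent.H40.GrpPts

set_option autoImplicit false
universe u

open CategoryTheory MonoidalCategory CartesianMonoidalCategory MonObj AlgebraicGeometry

namespace Groth.Agent.H40

variable {S : Scheme.{u}}

lemma IsCovFP.of_isPullback {A B C D : Over S} {a : A ⟶ B} {b : A ⟶ C} {c : B ⟶ D} {d : C ⟶ D}
    (sq : IsPullback a b c d) (hd : IsCovFP d) : IsCovFP a := by
  obtain ⟨h1, h2, h3⟩ := hd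
  have hpb := sq.map (Over.forget S)
  exact ⟨MorphismProperty.of_isPullback (P := @Flat) hpb.flip h1,
    MorphismProperty.of_isPullback (P := @Surjective) hpb.flip h2,
    MorphismProperty.of_isPullback (P := @LocallyOfFinitePresentation) hpb.flip h3⟩

lemma IsCovFP.whiskerRight {X X' : Over S} {q : X ⟶ X'} (hq : IsCovFP q) (Y : Over S) :
    IsCovFP (q ▷ Y) :=
  IsCovFP.of_isPullback (isPullback_whiskerRight_fst q Y) hq

lemma IsCovFP.whiskerLeft {X X' : Over S} (Y : Over S) {q : X ⟶ X'} (hq : IsCovFP q) :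
    IsCovFP (Y ◁ q) :=
  IsCovFP.of_isPullback (isPullback_whiskerLeft_snd q Y) hq

lemma IsCovFP.tensorHom {X X' Y Y' : Over S} {q : X ⟶ X'} {q' : Y ⟶ Y'} (hq : IsCovFP q)
    (hq' : IsCovFP q') : IsCovFP (q ⊗ₘ q') := by
  rw [tensorHom_def]
  exact (hq.whiskerRight Y).comp (hq'.whiskerLeft X')

/-- two points of `G` with the same image in the quotient differ by a point of the subgroup. -/
lemma exists_mul_of_comp_eq {G H Q : Over S} [GrpObj G] (i : H ⟶ G) (q : G ⟶ Q)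
    (sq : IsPullback (fst G H) ((G ◁ i) ≫ μ[G]) q q) {Z : Over S} (g₁ g₂ : Z ⟶ G)
    (h12 : g₁ ≫ q = g₂ ≫ q) : ∃ h : Z ⟶ H, g₂ = g₁ * (h ≫ i) := by
  refine ⟨sq.lift g₁ g₂ h12 ≫ snd G H, ?_⟩
  have h1 : sq.lift g₁ g₂ h12 ≫ fst G H = g₁ := sq.lift_fst _ _ _
  have h2 : sq.lift g₁ g₂ h12 ≫ (G ◁ i) ≫ μ[G] = g₂ := sq.lift_snd _ _ _
  have h3 : g₁ * ((sq.lift g₁ g₂ h12 ≫ snd G H) ≫ i) = sq.lift g₁ g₂ h12 ≫ (G ◁ i) ≫ μ[G] := by
    rw [Hom.mul_def, ← Category.assoc]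
    congr 1
    apply CartesianMonoidalCategory.hom_ext
    · simp [h1]
    · simp
  rw [h3, h2]

/-- right translation by a point of the subgroup does not change the image in the quotient. -/
lemma mul_comp_quot {G H Q : Over S} [GrpObj G] (i : H ⟶ G) (q : G ⟶ Q)
    (sq : IsPullback (fst G H) ((G ◁ i) ≫ μ[G]) q q) {Z : Over S} (g : Z ⟶ G) (h : Z ⟶ H) :
    (g * (h ≫ i)) ≫ q = g ≫ q := by
  have hw := sq.w
  have h1 : g * (h ≫ i) = lift g h ≫ (G ◁ i) ≫ μ[G] := by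
    rw [Hom.mul_def, ← Category.assoc]
    congr 1
    apply CartesianMonoidalCategory.hom_ext <;> simp
  have hw' : (G ◁ i) ≫ μ[G] ≫ q = fst G H ≫ q := by rw [hw, Category.assoc]
  rw [h1, Category.assoc, Category.assoc, hw', ← Category.assoc, lift_fst]

/-- descent of a morphism along the quotient map of a group by a subgroup. -/
theorem exists_desc_of_quotient {G H Q W : Over S} [GrpObj G] (i : H ⟶ G) (q : G ⟶ Q)
    (hq : IsCovFP q) (sq : IsPullback (fst G H) ((G ◁ i) ≫ μ[G]) q q) (e : G ⟶ W)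
    (he : ∀ (Z : Over S) (g : Z ⟶ G) (h : Z ⟶ H), (g * (h ≫ i)) ≫ e = g ≫ e) :
    ∃ v : Q ⟶ W, q ≫ v = e := by
  refine hq.exists_desc e ?_
  intro Z g₁ g₂ h12
  obtain ⟨h, rfl⟩ := exists_mul_of_comp_eq i q sq g₁ g₂ h12
  exact (he Z g₁ h).symm

/-- a homomorphism which is trivial on the subgroup descends to the quotient, as a homomorphism. -/
theorem exists_desc_hom_of_quotient {G H Q K : Over S} [GrpObj G] [GrpObj Q] [GrpObj K]
    (i : H ⟶ G) (q : G ⟶ Q) [IsMonHom q]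
    (hq : IsCovFP q) (sq : IsPullback (fst G H) ((G ◁ i) ≫ μ[G]) q q) (f : G ⟶ K) [IsMonHom f]
    (hf : i ≫ f = 1) : ∃ g : Q ⟶ K, IsMonHom g ∧ q ≫ g = f := by
  obtain ⟨φ', hφ'⟩ := exists_desc_of_quotient i q hq sq f (by
    intro Z g h
    rw [MonObj.mul_comp, Category.assoc, hf, MonObj.comp_one, _root_.mul_one])
  have hepi := hq.epi
  refine ⟨φ', ⟨?_, ?_⟩, hφ'⟩
  · rw [← IsMonHom.one_hom (f := q), Category.assoc, hφ', IsMonHom.one_hom]
  · have hepi2 := (hq.tensorHom hq).epi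
    rw [← cancel_epi (q ⊗ₘ q), ← Category.assoc, ← IsMonHom.mul_hom (f := q), Category.assoc, hφ',
      IsMonHom.mul_hom, ← Category.assoc, MonoidalCategory.tensorHom_comp_tensorHom, hφ']

end Groth.Agent.H40
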