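import Groth.Agent.H40.CD.FpqcImm
import Groth.Agent.H40.CoverMonFP
import Mathlib.AlgebraicGeometry.Sites.Fpqc

/-!
# Morphisms of `S`-schemes which are covering for the fpqc topology

`c : T' ⟶ T` is covering if some singleton fpqc covering `q : Z ⟶ T` factors through it.
-/

set_option autoImplicit false
set_option backward.isDefEq.respectTransparency.types false
universe u

open CategoryTheory AlgebraicGeometry Limits MonoidalCategory CartesianMonoidalCategory

namespace Groth.Agent.H40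

open Groth.Agent.H40.CD

/-- a singleton fpqc covering is an effective epimorphism. -/
theorem effectiveEpi_of_mem_fpqcPrecoverage {Z Y : Scheme.{u}} (q : Z ⟶ Y)
    (hq : Presieve.singleton q ∈ Scheme.fpqcPrecoverage Y) : EffectiveEpi q := by
  rw [← Sieve.effectiveEpimorphic_singleton,
    Presieve.EffectiveEpimorphic.iff_forall_isSheafFor_yoneda]
  intro W
  exact (GrothendieckTopology.Subcanonical.isSheaf_of_isRepresentable _).isSheafFor _
    (Precoverage.generate_mem_toGrothendieck hq)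

/-- singleton fpqc coverings compose. -/
theorem singleton_comp_mem_fpqcPrecoverage {Z' Z Y : Scheme.{u}} (q' : Z' ⟶ Z) (q : Z ⟶ Y)
    (hq' : Presieve.singleton q' ∈ Scheme.fpqcPrecoverage Z)
    (hq : Presieve.singleton q ∈ Scheme.fpqcPrecoverage Y) :
    Presieve.singleton (q' ≫ q) ∈ Scheme.fpqcPrecoverage Y := by
  have e1 : Presieve.singleton q = Presieve.ofArrows _ (fun _ : PUnit.{1} => q) :=
    (Presieve.ofArrows_pUnit q).symm
  have e2 : Presieve.singleton q' = Presieve.ofArrows _ (fun _ : PUnit.{1} => q') :=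
    (Presieve.ofArrows_pUnit q').symm
  rw [e1] at hq
  rw [e2] at hq'
  have h := Precoverage.comp_mem_coverings (J := Scheme.fpqcPrecoverage)
    (f := fun _ : PUnit.{1} => q) hq (σ := fun _ => PUnit.{1}) (Y := fun _ _ => Z')
    (g := fun _ _ => q') (fun _ => hq')
  have e3 : Presieve.ofArrows (fun _ : Σ _ : PUnit.{1}, PUnit.{1} => Z') (fun _ => q' ≫ q) =
      Presieve.singleton (q' ≫ q) := by
    funext T
    apply Set.ext
    intro g
    constructor
    · rintro ⟨i⟩
      exact Presieve.singleton.mk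
    · rintro ⟨⟩
      exact Presieve.ofArrows.mk (⟨PUnit.unit, PUnit.unit⟩ : Σ _ : PUnit.{1}, PUnit.{1})
  rw [← e3]
  exact h

variable {S : Scheme.{u}}

/-- `c` is covering for the fpqc topology: a singleton fpqc covering of the target factors
through `c`. -/
def IsFpqcCov {T' T : Over S} (c : T' ⟶ T) : Prop :=
  ∃ (Z : Scheme.{u}) (q : Z ⟶ T.left) (r : Z ⟶ T'.left), r ≫ c.left = q ∧
    Presieve.singleton q ∈ Scheme.fpqcPrecoverage T.left

/-- the form of the covering hypothesis used in the statements. -/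
theorem isFpqcCov_of_image {T' T : Over S} (c : T' ⟶ T)
    (h : ∃ (Z : Scheme.{u}) (q : Z ⟶ T.left) (r : Z ⟶ T'.left), r ≫ c.left = q ∧ Surjective q ∧
      Flat q ∧ ∀ V : T.left.Opens, IsAffineOpen V →
        ∃ W : Z.Opens, IsCompact (W : Set Z) ∧ q.base '' (W : Set Z) = (V : Set T.left)) :
    IsFpqcCov c := by
  obtain ⟨Z, q, r, hr, hs, hf, hqc⟩ := h
  exact ⟨Z, q, r, hr, singleton_mem_fpqcPrecoverage_of_image q hs hf hqc⟩

lemma IsFpqcCov.epi_left {T' T : Over S} {c : T' ⟶ T} (hc : IsFpqcCov c) : Epi c.left := by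
  obtain ⟨Z, q, r, hr, hq⟩ := hc
  have := effectiveEpi_of_mem_fpqcPrecoverage q hq
  have : Epi (r ≫ c.left) := by
    rw [hr]
    infer_instance
  exact epi_of_epi r c.left

lemma IsFpqcCov.epi {T' T : Over S} {c : T' ⟶ T} (hc : IsFpqcCov c) : Epi c := by
  have h : Epi ((Over.forget S).map c) := hc.epi_left
  exact (Over.forget S).epi_of_epi_map h

lemma IsFpqcCov.of_isPullback {A B C D : Over S} {a : A ⟶ B} {b : A ⟶ C} {c : B ⟶ D}
    {d : C ⟶ D} (sq : IsPullback a b c d) (hd : IsFpqcCov d) : IsFpqcCov a := by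
  obtain ⟨Z, q, r, hr, hq⟩ := hd
  have sqL : IsPullback a.left b.left c.left d.left := sq.map (Over.forget S)
  have hw : pullback.fst c.left q ≫ c.left = (pullback.snd c.left q ≫ r) ≫ d.left := by
    rw [Category.assoc, hr, pullback.condition]
  exact ⟨pullback c.left q, pullback.fst c.left q, sqL.lift _ _ hw, sqL.lift_fst _ _ hw,
    singleton_mem_fpqcPrecoverage_of_isPullback hq (IsPullback.of_hasPullback c.left q)⟩

lemma IsFpqcCov.comp {T'' T' T : Over S} {c' : T'' ⟶ T'} {c : T' ⟶ T} (hc' : IsFpqcCov c')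
    (hc : IsFpqcCov c) : IsFpqcCov (c' ≫ c) := by
  obtain ⟨Z', q', r', hr', hq'⟩ := hc'
  obtain ⟨Z, q, r, hr, hq⟩ := hc
  refine ⟨pullback r q', pullback.fst r q' ≫ q, pullback.snd r q' ≫ r', ?_, ?_⟩
  · rw [Over.comp_left, Category.assoc, ← Category.assoc r', hr', ← Category.assoc,
      ← pullback.condition, Category.assoc, hr]
  · exact singleton_comp_mem_fpqcPrecoverage _ _
      (singleton_mem_fpqcPrecoverage_of_isPullback hq' (IsPullback.of_hasPullback r q')) hq

lemma IsFpqcCov.whiskerRight {X X' : Over S} {q : X ⟶ X'} (hq : IsFpqcCov q) (Y : Over S) :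
    IsFpqcCov (q ▷ Y) :=
  IsFpqcCov.of_isPullback (isPullback_whiskerRight_fst q Y) hq

lemma IsFpqcCov.whiskerLeft {X X' : Over S} (Y : Over S) {q : X ⟶ X'} (hq : IsFpqcCov q) :
    IsFpqcCov (Y ◁ q) :=
  IsFpqcCov.of_isPullback (isPullback_whiskerLeft_snd q Y) hq

lemma IsFpqcCov.tensorHom {X X' Y Y' : Over S} {q : X ⟶ X'} {q' : Y ⟶ Y'} (hq : IsFpqcCov q)
    (hq' : IsFpqcCov q') : IsFpqcCov (q ⊗ₘ q') := by
  rw [MonoidalCategory.tensorHom_def]
  exact (hq.whiskerRight Y).comp (hq'.whiskerLeft X')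

/-- descent of morphisms along a covering morphism, in `Over S`. -/
lemma IsFpqcCov.exists_desc {T' T W : Over S} {c : T' ⟶ T} (hc : IsFpqcCov c) (e : T' ⟶ W)
    (h : ∀ (Z : Over S) (g₁ g₂ : Z ⟶ T'), g₁ ≫ c = g₂ ≫ c → g₁ ≫ e = g₂ ≫ e) :
    ∃ v : T ⟶ W, c ≫ v = e := by
  have hepi := hc.epi_left
  obtain ⟨Z, q, r, hr, hq⟩ := hc
  have hEE := effectiveEpi_of_mem_fpqcPrecoverage q hq
  have hcoeq : ∀ {A : Scheme.{u}} (g₁ g₂ : A ⟶ T'.left),
      g₁ ≫ c.left = g₂ ≫ c.left → g₁ ≫ e.left = g₂ ≫ e.left := by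
    intro A g₁ g₂ h12
    have hw : g₁ ≫ T'.hom = g₂ ≫ T'.hom := by
      rw [← Over.w c, ← Category.assoc, h12, Category.assoc]
    let Z' : Over S := Over.mk (g₁ ≫ T'.hom)
    let γ₁ : Z' ⟶ T' := Over.homMk g₁ rfl
    let γ₂ : Z' ⟶ T' := Over.homMk g₂ hw.symm
    have h12' : γ₁ ≫ c = γ₂ ≫ c := by
      apply Over.OverMorphism.ext
      exact h12
    exact congrArg (fun t => t.left) (h Z' γ₁ γ₂ h12')
  have hcoeq' : ∀ {A : Scheme.{u}} (g₁ g₂ : A ⟶ Z),
      g₁ ≫ q = g₂ ≫ q → g₁ ≫ r ≫ e.left = g₂ ≫ r ≫ e.left := by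
    intro A g₁ g₂ h12
    rw [← Category.assoc, ← Category.assoc]
    apply hcoeq
    rw [Category.assoc, Category.assoc, hr, h12]
  let v₀ : T.left ⟶ W.left := EffectiveEpi.desc q (r ≫ e.left) hcoeq'
  have hfac₀ : q ≫ v₀ = r ≫ e.left := EffectiveEpi.fac _ _ _
  have hfac : c.left ≫ v₀ = e.left := by
    haveI : Epi (pullback.fst c.left q) := by
      have := effectiveEpi_of_mem_fpqcPrecoverage _
        (singleton_mem_fpqcPrecoverage_of_isPullback hq (IsPullback.of_hasPullback c.left q))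
      infer_instance
    rw [← cancel_epi (pullback.fst c.left q)]
    have h1 : pullback.fst c.left q ≫ e.left = (pullback.snd c.left q ≫ r) ≫ e.left := by
      apply hcoeq
      rw [Category.assoc, hr, pullback.condition]
    rw [h1, ← Category.assoc, pullback.condition, Category.assoc, hfac₀, Category.assoc]
  have hw : v₀ ≫ W.hom = T.hom := by
    rw [← cancel_epi c.left, ← Category.assoc, hfac, Over.w, Over.w]
  refine ⟨Over.homMk v₀ hw, ?_⟩
  apply Over.OverMorphism.ext
  exact hfac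

end Groth.Agent.H40
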