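import Mathlib.GroupTheory.SpecificGroups.Cyclic
import Mathlib.Algebra.Group.Action.Basic

/-!
# A group of exponent `p` acts trivially by automorphisms on a cyclic group of exponent `p`
-/

set_option autoImplicit false

namespace Groth.Agent.H40

/-- A group all of whose elements are killed by the prime `p` acts trivially by group automorphisms
on a finite cyclic group killed by `p` (as `Aut (ℤ/p)` has order `p - 1`). -/
theorem act_trivial_of_pow_eq_one {M Λ : Type*} [Group M] [Group Λ] [Finite Λ] [IsCyclic Λ]
    (p : ℕ) [hp : Fact p.Prime] (act : M → Λ → Λ) (h1 : ∀ x, act 1 x = x)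
    (hmul : ∀ g h x, act (g * h) x = act g (act h x))
    (hdist : ∀ g x y, act g (x * y) = act g x * act g y)
    (hM : ∀ g : M, g ^ p = 1) (hΛ : ∀ x : Λ, x ^ p = 1) (g : M) (x : Λ) : act g x = x := by
  have hone : ∀ g, act g 1 = 1 := by
    intro g
    have := hdist g 1 1
    rw [mul_one] at this
    exact (mul_eq_left.mp this.symm)
  letI : MulDistribMulAction M Λ :=
    { smul := act
      one_smul := h1
      mul_smul := hmul
      smul_mul := hdist
      smul_one := hone }
  let σ : MulAut Λ := MulDistribMulAction.toMulAut M Λ g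
  have hσp : σ ^ p = 1 := by
    rw [← map_pow, hM, map_one]
  have hcard : Nat.card Λ ∣ p := by
    rw [← IsCyclic.exponent_eq_card]
    exact Monoid.exponent_dvd_of_forall_pow_eq_one hΛ
  have hcop : Nat.Coprime (Nat.card (MulAut Λ)) p := by
    rw [IsCyclic.card_mulAut]
    rcases (Nat.dvd_prime hp.out).mp hcard with h | h
    · rw [h, Nat.totient_one]
      exact Nat.coprime_one_left p
    · rw [h, Nat.totient_prime hp.out]
      have h2 := hp.out.two_le
      exact ((Nat.Prime.coprime_iff_not_dvd hp.out).mpr
        (Nat.not_dvd_of_pos_of_lt (by omega) (by omega))).symm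
  have ho1 : orderOf σ ∣ p := orderOf_dvd_of_pow_eq_one hσp
  have ho2 : orderOf σ ∣ Nat.card (MulAut Λ) := orderOf_dvd_natCard σ
  have ho : orderOf σ = 1 := Nat.eq_one_of_dvd_coprimes hcop ho2 ho1
  have hσ : σ = 1 := orderOf_eq_one_iff.mp ho
  have : σ x = x := by rw [hσ]; rfl
  exact this

end Groth.Agent.H40
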