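import Mathlib
import Groth.Agent.H22.ExtendValPoints

/-!
# A generic section of a proper scheme over a Dedekind domain extends to a section
-/

set_option autoImplicit false
set_option backward.isDefEq.respectTransparency.types false
universe u
open CategoryTheory CategoryTheory.Limits AlgebraicGeometry

namespace Groth.Agent.H40

/-- closed points of the spectrum of a Dedekind domain which is not a field have valuation ring
stalks. -/
lemma valuationRing_stalk_of_isClosed (R : Type u) [CommRing R] [IsDedekindDomain R]
    (hR : ¬ IsField R) (y : Spec (CommRingCat.of R)) (hy : IsClosed ({y} : Set (Spec (CommRingCat.of R)))) :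
    ∃ _ : IsDomain ((Spec (CommRingCat.of R)).presheaf.stalk y),
      ValuationRing ((Spec (CommRingCat.of R)).presheaf.stalk y) := by
  have hdom : IsDomain ((Spec (CommRingCat.of R)).presheaf.stalk y) := inferInstance
  refine ⟨hdom, ?_⟩
  have hmax : y.asIdeal.IsMaximal := (PrimeSpectrum.isClosed_singleton_iff_isMaximal y).1 hy
  have hne : y.asIdeal ≠ ⊥ := Ring.ne_bot_of_isMaximal_of_not_isField hmax hR
  let k : Algebra R ((Spec (CommRingCat.of R)).presheaf.stalk y) :=
    StructureSheaf.stalkAlgebra R y
  have : IsLocalization.AtPrime ((Spec (CommRingCat.of R)).presheaf.stalk y) y.asIdeal :=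
    StructureSheaf.IsLocalization.to_stalk R y
  have : IsDiscreteValuationRing ((Spec (CommRingCat.of R)).presheaf.stalk y) :=
    IsLocalization.AtPrime.isDiscreteValuationRing_of_dedekind_domain R hne _
  infer_instance

theorem exists_section_of_generic_section (R : Type u) [CommRing R] [IsDedekindDomain R]
    {P : Scheme.{u}} (p : P ⟶ Spec (CommRingCat.of R)) [IsProper p]
    (sK : Spec (CommRingCat.of (FractionRing R)) ⟶ P)
    (hsK : sK ≫ p = Spec.map (CommRingCat.ofHom (algebraMap R (FractionRing R)))) :
    ∃ s : Spec (CommRingCat.of R) ⟶ P, s ≫ p = 𝟙 _ := by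
  by_cases hR : IsField R
  · have hbij : Function.Bijective (algebraMap R (FractionRing R)) :=
      hR.localization_map_bijective (M := nonZeroDivisors R) (by simp)
    have : IsIso (CommRingCat.ofHom (algebraMap R (FractionRing R))) := by
      rw [ConcreteCategory.isIso_iff_bijective]
      exact hbij
    have : IsIso (Spec.map (CommRingCat.ofHom (algebraMap R (FractionRing R)))) := inferInstance
    refine ⟨inv (Spec.map (CommRingCat.ofHom (algebraMap R (FractionRing R)))) ≫ sK, ?_⟩
    rw [Category.assoc, hsK, IsIso.inv_hom_id]
  · have : IsIntegral (Spec (CommRingCat.of R)) := inferInstance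
    -- the generic stalk is the fraction field
    let k : Algebra R ((Spec (CommRingCat.of R)).presheaf.stalk (genericPoint (Spec (CommRingCat.of R)))) :=
      StructureSheaf.stalkAlgebra R (genericPoint (Spec (CommRingCat.of R)))
    have hfr : IsFractionRing R
        ((Spec (CommRingCat.of R)).presheaf.stalk (genericPoint (Spec (CommRingCat.of R)))) :=
      functionField_isFractionRing_of_affine (CommRingCat.of R)
    let e : FractionRing R ≃ₐ[R]
        (Spec (CommRingCat.of R)).presheaf.stalk (genericPoint (Spec (CommRingCat.of R))) :=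
      FractionRing.algEquiv R _
    let ψ : CommRingCat.of (FractionRing R) ⟶
        (Spec (CommRingCat.of R)).presheaf.stalk (genericPoint (Spec (CommRingCat.of R))) :=
      CommRingCat.ofHom e.toAlgHom.toRingHom
    have hψ : CommRingCat.ofHom (algebraMap R (FractionRing R)) ≫ ψ =
        StructureSheaf.toStalk R (genericPoint (Spec (CommRingCat.of R))) := by
      ext r
      exact e.commutes r
    have hφ : (Spec.map ψ ≫ sK) ≫ p =
        (Spec (CommRingCat.of R)).fromSpecStalk (genericPoint (Spec (CommRingCat.of R))) ≫
          𝟙 (Spec (CommRingCat.of R)) := by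
      rw [Category.comp_id, Category.assoc, hsK, ← Spec.map_comp, Spec.fromSpecStalk_eq', hψ]
      rfl
    obtain ⟨U, hηU, f, -, hf⟩ := spread_out_of_isGermInjective' (𝟙 (Spec (CommRingCat.of R))) p
      (Spec.map ψ ≫ sK) hφ
    have hUd : Dense (U : Set (Spec (CommRingCat.of R))) := U.2.dense ⟨_, hηU⟩
    obtain ⟨g, ⟨-, hg⟩, -⟩ :=
      Groth.Agent.H22.ExtendValPoints.existsUnique_extension_of_valuationRing_closedPoints p
        (𝟙 (Spec (CommRingCat.of R)))
        (fun y _ => inferInstance) (fun y hy => valuationRing_stalk_of_isClosed R hR y hy)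
        U hUd f hf
    exact ⟨g, hg⟩

end Groth.Agent.H40
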