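import Groth.Agent.H40.FpqcFam
import Groth.Prelude.Def_W4bk4git07Quot

/-!
# Universally submersive morphisms: fpqc descent and local sections
-/

set_option autoImplicit false
set_option backward.isDefEq.respectTransparency.types false
universe u
open CategoryTheory CategoryTheory.Limits AlgebraicGeometry Topology TopologicalSpace

namespace Groth.Agent.H40

/-- quotient maps are local on the target. -/
lemma isQuotientMap_of_openCover {α β : Type*} [TopologicalSpace α] [TopologicalSpace β]
    (f : α → β) (hf : Continuous f) {ι : Type*} (U : ι → Opens β) (hU : IsOpenCover U)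
    (h : ∀ i, IsQuotientMap ((U i).carrier.restrictPreimage f)) : IsQuotientMap f := by
  rw [isQuotientMap_iff]
  refine ⟨.of_isOpen_preimage_iff_isOpen fun s => ⟨fun hs => ?_, fun hs => hs.preimage hf⟩,
    fun y => ?_⟩
  · rw [hU.isOpen_iff_coe_preimage]
    intro i
    rw [← (h i).isOpen_preimage]
    exact hs.preimage continuous_subtype_val
  · obtain ⟨i, hi⟩ := hU.exists_mem y
    obtain ⟨⟨x, hx⟩, e⟩ := (h i).surjective ⟨y, hi⟩
    exact ⟨x, congrArg Subtype.val e⟩

/-- the property of being universally submersive. -/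
abbrev Subm : MorphismProperty Scheme.{u} := (topologically @IsQuotientMap).universally

instance quotientMap_respectsIso : (topologically @IsQuotientMap : MorphismProperty Scheme.{u}).RespectsIso :=
  topologically_respectsIso _ (fun f => f.isQuotientMap) (fun _ _ hf hg => hg.comp hf)

instance subm_isZariskiLocalAtTarget : IsZariskiLocalAtTarget Subm.{u} := by
  refine universally_isZariskiLocalAtTarget _ (fun {X Y} f {ι} U hU h => ?_)
  refine isQuotientMap_of_openCover f f.continuous U hU (fun i => ?_)
  rw [← morphismRestrict_base]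
  exact h i

/-- a morphism with a section is universally submersive. -/
theorem subm_of_section {X Y : Scheme.{u}} (p : X ⟶ Y) (σ : Y ⟶ X) (h : σ ≫ p = 𝟙 Y) : Subm p := by
  intro X' Y' i₁ i₂ p' hp'
  have hw : 𝟙 Y' ≫ i₂ = (i₂ ≫ σ) ≫ p := by rw [Category.assoc, h, Category.comp_id, Category.id_comp]
  have hσ' : hp'.lift (𝟙 Y') (i₂ ≫ σ) hw ≫ p' = 𝟙 Y' := hp'.lift_fst _ _ _
  refine IsQuotientMap.of_inverse (hp'.lift (𝟙 Y') (i₂ ≫ σ) hw).continuous p'.continuous (fun y => ?_)
  rw [← Scheme.Hom.comp_apply, hσ']
  rfl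

/-- universal submersiveness descends along fpqc morphisms. -/
lemma subm_descendsAlong :
    MorphismProperty.DescendsAlong Subm.{u}
      (@Surjective ⊓ @Flat ⊓ @QuasiCompact : MorphismProperty Scheme.{u}) where
  of_isPullback {A X Y Z fst snd f g} h hf hfst := by
    intro Y' Z' i₁ i₂ g' hg'
    obtain ⟨⟨hf1, hf2⟩, hf3⟩ := hf
    have hf1' : Surjective f := hf1
    have hf2' : Flat f := hf2
    have hf3' : QuasiCompact f := hf3
    -- base change of the cover
    have hp₁ : IsQuotientMap (pullback.fst i₂ f) := Flat.isQuotientMap_of_surjective _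
    -- the big rectangle
    have hbig : IsPullback (pullback.fst g' (pullback.fst i₂ f) ≫ i₁) (pullback.snd g' (pullback.fst i₂ f))
        g (pullback.fst i₂ f ≫ i₂) :=
      (IsPullback.of_hasPullback g' (pullback.fst i₂ f)).paste_horiz hg'.flip
    have hcond : pullback.fst i₂ f ≫ i₂ = pullback.snd i₂ f ≫ f := pullback.condition
    rw [hcond] at hbig
    have hw : (pullback.snd g' (pullback.fst i₂ f) ≫ pullback.snd i₂ f) ≫ f =
        (pullback.fst g' (pullback.fst i₂ f) ≫ i₁) ≫ g := by
      rw [Category.assoc, ← hbig.w]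
    have hl1 : h.lift _ _ hw ≫ fst = pullback.snd g' (pullback.fst i₂ f) ≫ pullback.snd i₂ f :=
      h.lift_fst _ _ _
    have hl2 : h.lift _ _ hw ≫ snd = pullback.fst g' (pullback.fst i₂ f) ≫ i₁ := h.lift_snd _ _ _
    rw [← hl2] at hbig
    have hleft : IsPullback (h.lift _ _ hw) (pullback.snd g' (pullback.fst i₂ f)) fst
        (pullback.snd i₂ f) := IsPullback.of_right hbig hl1 h.flip
    have hr₂ : IsQuotientMap (pullback.snd g' (pullback.fst i₂ f)) := hfst _ _ _ hleft.flip
    have hcomp : IsQuotientMap (g' ∘ pullback.fst g' (pullback.fst i₂ f)) := by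
      have e : (g' : Y' → Z') ∘ pullback.fst g' (pullback.fst i₂ f) =
          pullback.fst i₂ f ∘ pullback.snd g' (pullback.fst i₂ f) := by
        ext x
        change (pullback.fst g' (pullback.fst i₂ f) ≫ g') x = (pullback.snd g' (pullback.fst i₂ f) ≫ pullback.fst i₂ f) x
        rw [pullback.condition]
      rw [e]
      exact hp₁.comp hr₂
    exact IsQuotientMap.of_comp (pullback.fst g' (pullback.fst i₂ f)).continuous g'.continuous hcomp

/-- a morphism which has sections locally for the fpqc topology is universally submersive. -/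
theorem isUnivSubmersive_of_fpqc_sections {E P : Scheme.{u}} (v : E ⟶ P) {R : Presieve P}
    (hR : R ∈ Scheme.fpqcPrecoverage P)
    (hsec : ∀ ⦃U : Scheme.{u}⦄ (g : U ⟶ P), R g → ∃ s : U ⟶ E, s ≫ v = g) :
    GIT.IsUnivSubmersive v := by
  refine prop_of_fpqcPresieve Subm subm_descendsAlong v hR (fun U g hg => ?_)
  obtain ⟨s, rfl⟩ := hsec g hg
  exact subm_of_section (pullback.snd v (s ≫ v)) (pullback.lift s (𝟙 U) (by simp))
    (pullback.lift_snd _ _ _)

end Groth.Agent.H40
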