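import Groth.Prelude.Def_DescFam
import Groth.Agent.H40.Submersive

/-!
# fpqc descent data of open immersions are effective
-/

set_option autoImplicit false
set_option backward.isDefEq.respectTransparency.types false
universe u
open CategoryTheory CategoryTheory.Limits AlgebraicGeometry TopologicalSpace Topology

namespace Groth.Agent.H40

/-- openness can be tested on an fpqc covering family. -/
theorem isOpen_of_fpqc_family {S : Scheme.{u}} {ι : Type u} {X : ι → Scheme.{u}}
    (f : ∀ i, X i ⟶ S) (hf : Presieve.ofArrows X f ∈ Scheme.fpqcPrecoverage S)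
    (V : Set S) (hV : ∀ i, IsOpen ((f i) ⁻¹' V)) : IsOpen V := by
  have hsub : GIT.IsUnivSubmersive (Sigma.desc f) := by
    refine isUnivSubmersive_of_fpqc_sections (Sigma.desc f) hf ?_
    rintro U g ⟨i⟩
    exact ⟨Sigma.ι X i, Sigma.ι_desc _ _⟩
  have hq : IsQuotientMap (Sigma.desc f) :=
    MorphismProperty.universally_le (P := topologically @IsQuotientMap) _ hsub
  rw [← hq.isOpen_preimage]
  have hcov : (Sigma.desc f) ⁻¹' V =
      ⋃ i, (Sigma.ι X i) '' ((f i) ⁻¹' V) := by
    ext z
    simp only [Set.mem_preimage, Set.mem_iUnion, Set.mem_image]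
    constructor
    · intro hz
      obtain ⟨i, y, rfl⟩ := (sigmaOpenCover X).exists_eq z
      refine ⟨i, y, ?_, rfl⟩
      have : f i y = (Sigma.desc f) ((Sigma.ι X i) y) := by
        rw [← Scheme.Hom.comp_apply, Sigma.ι_desc]
      rw [this]
      exact hz
    · rintro ⟨i, y, hy, rfl⟩
      have : f i y = (Sigma.desc f) ((Sigma.ι X i) y) := by
        rw [← Scheme.Hom.comp_apply, Sigma.ι_desc]
      rw [← this]
      exact hy
  rw [hcov]
  exact isOpen_iUnion fun i => (Sigma.ι X i).isOpenEmbedding.isOpenMap _ (hV i)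

open Desc in
theorem schDDFam_isEffective_of_isOpenImmersion {S : Scheme.{u}} {ι : Type u}
    {X : ι → Scheme.{u}} (f : ∀ i, X i ⟶ S)
    (hf : Presieve.ofArrows X f ∈ Scheme.fpqcPrecoverage S)
    (D : Desc.SchDDFam f) (hD : ∀ i, IsOpenImmersion (D.obj i).hom) :
    D.IsEffective := by
  have hmono : ∀ i, Mono (D.obj i).hom := fun i => inferInstance
  -- transfer of factorisation
  have htrans : ∀ {T : Scheme.{u}} {i j : ι} (x₀ : T ⟶ X i) (x₁ : T ⟶ X j),
      x₀ ≫ f i = x₁ ≫ f j → Set.range x₁ ⊆ Set.range (D.obj j).hom →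
      Set.range x₀ ⊆ Set.range (D.obj i).hom := by
    intro T i j x₀ x₁ h h1
    let v₁ : Lifts (D.obj j) x₁ :=
      ⟨IsOpenImmersion.lift (D.obj j).hom x₁ h1, IsOpenImmersion.lift_fac _ _ _⟩
    let v₀ := (D.φ x₀ x₁ h).symm v₁
    rw [← v₀.2, Scheme.Hom.comp_base, TopCat.coe_comp]
    exact Set.range_comp_subset_range _ _
  -- the open subset of `S`
  let V : Set S := ⋃ i, (f i) '' Set.range (D.obj i).hom
  have hpre : ∀ i, (f i) ⁻¹' V = Set.range (D.obj i).hom := by
    intro i
    apply Set.Subset.antisymm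
    · rintro x hx
      simp only [V, Set.mem_preimage, Set.mem_iUnion, Set.mem_image] at hx
      obtain ⟨j, y, hy, hxy⟩ := hx
      obtain ⟨z, hz1, hz2⟩ := Scheme.Pullback.exists_preimage_pullback (f := f i) (g := f j) x y
        hxy.symm
      have := htrans ((pullback (f i) (f j)).fromSpecResidueField z ≫ pullback.fst (f i) (f j))
        ((pullback (f i) (f j)).fromSpecResidueField z ≫ pullback.snd (f i) (f j))
        (by rw [Category.assoc, Category.assoc, pullback.condition]) (by
          rw [Scheme.Hom.comp_base, TopCat.coe_comp, Set.range_comp,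
            Scheme.range_fromSpecResidueField, Set.image_singleton, Set.singleton_subset_iff, hz2]
          exact hy)
      rw [Scheme.Hom.comp_base, TopCat.coe_comp, Set.range_comp,
        Scheme.range_fromSpecResidueField, Set.image_singleton, Set.singleton_subset_iff,
        hz1] at this
      exact this
    · intro x hx
      simp only [V, Set.mem_preimage, Set.mem_iUnion, Set.mem_image]
      exact ⟨i, x, hx, rfl⟩
  have hVo : IsOpen V := by
    refine isOpen_of_fpqc_family f hf V (fun i => ?_)
    rw [hpre]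
    exact (D.obj i).hom.isOpenEmbedding.isOpen_range
  let Vo : S.Opens := ⟨V, hVo⟩
  let Uo : Over S := Over.mk Vo.ι
  have hrange : ∀ i, Set.range (pullback.fst (f i) Vo.ι) = Set.range (D.obj i).hom := by
    intro i
    rw [Scheme.Pullback.range_fst, Scheme.Opens.range_ι]
    exact hpre i
  let e : ∀ i, pullback (f i) Vo.ι ≅ (D.obj i).left := fun i =>
    IsOpenImmersion.isoOfRangeEq (pullback.fst (f i) Vo.ι) (D.obj i).hom (hrange i)
  have he : ∀ i, (e i).hom ≫ (D.obj i).hom = pullback.fst (f i) Vo.ι := fun i =>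
    IsOpenImmersion.isoOfRangeEq_hom_fac _ _ _
  have he' : ∀ i, (e i).inv ≫ pullback.fst (f i) Vo.ι = (D.obj i).hom := fun i =>
    IsOpenImmersion.isoOfRangeEq_inv_fac _ _ _
  let E : ∀ i, (canonicalDDFam f Uo).obj i ≅ D.obj i := fun i => Over.isoMk (e i) (he i)
  have hmono' : ∀ i, Mono ((canonicalDDFam f Uo).obj i).hom := fun i => by
    change Mono (pullback.fst (f i) Vo.ι)
    infer_instance
  let a : canonicalDDFam f Uo ⟶ D :=
    { hom := fun i => (E i).hom
      comm := by
        intro T i j x₀ x₁ h v w hw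
        rw [← cancel_mono (D.obj j).hom, (D.φ x₀ x₁ h w).2, Category.assoc]
        have : ((E j).hom).left ≫ (D.obj j).hom = ((canonicalDDFam f Uo).obj j).hom :=
          Over.w (E j).hom
        rw [this]
        exact (((canonicalDDFam f Uo).φ x₀ x₁ h v).2).symm }
  let b : D ⟶ canonicalDDFam f Uo :=
    { hom := fun i => (E i).inv
      comm := by
        intro T i j x₀ x₁ h v w hw
        rw [← cancel_mono ((canonicalDDFam f Uo).obj j).hom,
          ((canonicalDDFam f Uo).φ x₀ x₁ h w).2, Category.assoc]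
        have : ((E j).inv).left ≫ ((canonicalDDFam f Uo).obj j).hom = (D.obj j).hom :=
          Over.w (E j).inv
        rw [this]
        exact ((D.φ x₀ x₁ h v).2).symm }
  refine ⟨Uo, ⟨⟨a, b, ?_, ?_⟩⟩⟩
  · apply SchDDFam.hom_ext
    funext i
    exact (E i).hom_inv_id
  · apply SchDDFam.hom_ext
    funext i
    exact (E i).inv_hom_id

end Groth.Agent.H40
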