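import Groth.Agent.H40.DiagRep
import Groth.Agent.H40.GLnPtsBC

/-!
# Diagonal embeddings of finite diagonalisable groups into `GL_m`
-/

set_option autoImplicit false
universe u

open CategoryTheory AlgebraicGeometry CategoryTheory.Limits MonoidalCategory
  CartesianMonoidalCategory MonObj
open Groth.Agent.H42 Groth.Agent.H40
open scoped TensorProduct

namespace Groth.Agent.H40.DiagEmb

open Groth.Agent.H82.TorusHom Groth.Agent.H40.DiagRep Groth.Agent.H40.GLnPts CoordGrp

section Univ

variable {k : Type u} [CommRing k] {M : Type} [AddCommGroup M]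

/-- the universal point is an isomorphism -/
theorem isIso_univ
    (u : T k (MonoidAlgebra k (Multiplicative M)) ⟶ Red.DS (Spec (CommRingCat.of k)) M)
    (hu : ∀ χ, dsFn u χ = gam k _ (MonoidAlgebra.of k (Multiplicative M) χ)) : IsIso u := by
  apply isIso_of_yoneda_map_bijective
  intro X
  refine ⟨?_, fun x => exists_factor u hu x⟩
  intro h h' hh
  change h ≫ u = h' ≫ u at hh
  apply Over.OverMorphism.ext
  apply pb_injective
  apply MonoidAlgebra.ringHom_ext
  · intro r
    have e : MonoidAlgebra.single (1 : Multiplicative M) r =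
        algebraMap k (MonoidAlgebra k (Multiplicative M)) r := by
      rw [MonoidAlgebra.coe_algebraMap]
      rfl
    have h1 := appTop_gam_algebraMap (K := k) (MonoidAlgebra k (Multiplicative M)) h r
    have h2 := appTop_gam_algebraMap (K := k) (MonoidAlgebra k (Multiplicative M)) h' r
    rw [gam_apply, ← pb_apply] at h1 h2
    rw [e, h1, h2]
  · intro χ
    have e : MonoidAlgebra.single χ (1 : k) = MonoidAlgebra.of k (Multiplicative M) χ := rfl
    rw [e, pb_apply, pb_apply, ← gam_apply k, ← hu, ← dsFn_comp, ← dsFn_comp, hh]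

end Univ

section Theta

variable {S' S : Scheme.{u}} (f : S' ⟶ S) (M : Type) [AddCommGroup M]

/-- `D_{S'}(M)` is the base change of `D_S(M)`. -/
theorem exists_theta : ∃ θ : Red.DS S' M ≅ Red.bc f (Red.DS S M),
    ∀ {X : Over S'} (x : X ⟶ Red.DS S' M) (χ : Multiplicative M),
      dsFn (bcPt f (Red.DS S M) (x ≫ θ.hom)) χ = dsFn x χ := by
  let χ₀ : Multiplicative M →* Γ((Red.DS S' M).left, ⊤) :=
    dsFn (S := S') (X := Red.DS S' M) (𝟙 (Red.DS S' M))
  obtain ⟨z₀, hz₀⟩ := dsFn_surjective (S := S) (X := (Over.map f).obj (Red.DS S' M)) (M := M) χ₀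
  obtain ⟨θh, hθh⟩ := bcPt_surjective f (Red.DS S M) z₀
  have key : ∀ {X : Over S'} (x : X ⟶ Red.DS S' M) (χ : Multiplicative M),
      dsFn (bcPt f (Red.DS S M) (x ≫ θh)) χ = dsFn x χ := by
    intro X x χ
    rw [bcPt_comp, hθh, dsFn_comp, hz₀]
    have := dsFn_comp x (𝟙 (Red.DS S' M)) χ
    rw [Category.comp_id] at this
    exact this.symm
  haveI : IsIso θh := by
    apply isIso_of_yoneda_map_bijective
    intro X
    constructor
    · intro x y hxy
      change x ≫ θh = y ≫ θh at hxy
      apply dsFn_ext
      intro χ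
      rw [← key x χ, ← key y χ, hxy]
    · intro w
      let χ₁ : Multiplicative M →* Γ(((Over.map f).obj X).left, ⊤) :=
        dsFn (S := S) (X := (Over.map f).obj X) (bcPt f (Red.DS S M) w)
      obtain ⟨x, hx⟩ := dsFn_surjective (S := S') (X := X) (M := M) χ₁
      refine ⟨x, ?_⟩
      change x ≫ θh = w
      apply bcPt_injective f (Red.DS S M)
      apply dsFn_ext
      intro χ
      rw [key, hx]
  exact ⟨asIso θh, key⟩

end Theta

section Emb

variable {k : Type u} [CommRing k] {M : Type} [AddCommGroup M] {m : ℕ}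

theorem isUnit_det_diag {X : Over (Spec (CommRingCat.of k))}
    (x : X ⟶ Red.DS (Spec (CommRingCat.of k)) M) (c : Fin m → Multiplicative M) :
    IsUnit (Matrix.diagonal fun j => dsFn x (c j)).det := by
  rw [Matrix.det_diagonal]
  exact IsUnit.prod_univ_iff.mpr fun j => dsFn_isUnit x (c j)

/-- the diagonal embedding with characters `c j`. -/
noncomputable def iDiag (k : Type u) [CommRing k] (c : Fin m → Multiplicative M) :
    Red.DS (Spec (CommRingCat.of k)) M ⟶ CoactBr.sp k (GLn m k) :=
  (glMat_surjective (Matrix.diagonal fun j => dsFn (𝟙 (Red.DS (Spec (CommRingCat.of k)) M)) (c j))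
    (isUnit_det_diag _ c)).choose

theorem glMat_iDiag (c : Fin m → Multiplicative M) {X : Over (Spec (CommRingCat.of k))}
    (x : X ⟶ Red.DS (Spec (CommRingCat.of k)) M) :
    glMat (x ≫ iDiag k c) = Matrix.diagonal fun j => dsFn x (c j) := by
  have h := (glMat_surjective (Matrix.diagonal fun j =>
    dsFn (𝟙 (Red.DS (Spec (CommRingCat.of k)) M)) (c j)) (isUnit_det_diag _ c)).choose_spec
  have key : ∀ j, x.left.appTop (dsFn (𝟙 (Red.DS (Spec (CommRingCat.of k)) M)) (c j)) =
      dsFn x (c j) := by
    intro j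
    have := dsFn_comp x (𝟙 (Red.DS (Spec (CommRingCat.of k)) M)) (c j)
    rw [Category.comp_id] at this
    exact this.symm
  rw [glMat_comp]
  change (glMat (iDiag k c)).map _ = _
  unfold iDiag
  rw [h, Matrix.diagonal_map (map_zero _)]
  simp only [key]

instance isMonHom_iDiag (c : Fin m → Multiplicative M) : IsMonHom (iDiag k c) := by
  apply isMonHom_of_points
  · apply glMat_ext
    rw [glMat_iDiag, glMat_one]
    simp only [dsFn_one]
    exact Matrix.diagonal_one
  · intro X g g'
    apply glMat_ext
    rw [glMat_mul, glMat_iDiag, glMat_iDiag, glMat_iDiag, Matrix.diagonal_mul_diagonal]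
    congr 1
    funext j
    exact dsFn_mul g g' (c j)

end Emb

section Closed

theorem isClosedImmersion_of_pb_surjective {A B : Type u} [CommRing A] [CommRing B]
    (g : Spec (CommRingCat.of A) ⟶ Spec (CommRingCat.of B))
    (h : ∀ a : A, ∃ b : B, pb g b = (Scheme.ΓSpecIso (CommRingCat.of A)).inv a) :
    IsClosedImmersion g := by
  rw [← Spec.map_preimage g]
  apply IsClosedImmersion.spec_of_surjective
  intro a
  obtain ⟨b, hb⟩ := h a
  refine ⟨b, ?_⟩
  have h1 := pb_comp_specMap (𝟙 (Spec (CommRingCat.of A))) (Spec.preimage g).hom b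
  rw [Category.id_comp, CommRingCat.ofHom_hom, Spec.map_preimage, hb, pb_apply] at h1
  have h2 : (Scheme.ΓSpecIso (CommRingCat.of A)).inv a =
      (Scheme.ΓSpecIso (CommRingCat.of A)).inv ((Spec.preimage g).hom b) := h1
  have h3 := congrArg (Scheme.ΓSpecIso (CommRingCat.of A)).hom h2
  simpa using h3.symm

variable {k : Type u} [CommRing k] {M : Type} [AddCommGroup M] [Finite M] {m : ℕ}

theorem isClosedImmersion_iDiag (c : Fin m → Multiplicative M)
    (hc : Subgroup.closure (Set.range c) = ⊤) : IsClosedImmersion (iDiag k c).left := by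
  classical
  haveI : Fintype M := Fintype.ofFinite M
  obtain ⟨u, hu⟩ := exists_univ k M
  haveI := isIso_univ u hu
  set A := MonoidAlgebra k (Multiplicative M) with hA
  haveI : IsIso u.left := inferInstanceAs (IsIso ((Over.forget _).map u))
  rw [← MorphismProperty.cancel_left_of_respectsIso @IsClosedImmersion u.left]
  let g : Spec (CommRingCat.of A) ⟶ Spec (CommRingCat.of (GLn m k)) := ptL (u ≫ iDiag k c)
  change IsClosedImmersion g
  apply isClosedImmersion_of_pb_surjective
  -- the range of the ring map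
  let φ : GLn m k →+* A := ((gam k A).symm : Γ((T k A).left, ⊤) →+* A).comp (pb g)
  have hφ : ∀ b, gam k A (φ b) = pb g b := fun b => (gam k A).apply_symm_apply _
  suffices hsurj : ∀ a : A, a ∈ φ.range by
    intro a
    obtain ⟨b, hb⟩ := hsurj a
    exact ⟨b, by rw [← hφ, hb, gam_apply]⟩
  have halg : ∀ r : k, algebraMap k A r ∈ φ.range := by
    intro r
    refine ⟨algebraMap k (GLn m k) r, ?_⟩
    apply (gam k A).injective
    rw [hφ, ← pb_T_hom, ← pb_comp_specMap]
    have hw : g ≫ Spec.map (CommRingCat.ofHom (algebraMap k (GLn m k))) = (T k A).hom :=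
      ptL_w (u ≫ iDiag k c)
    rw [hw]
  have hof : ∀ j, MonoidAlgebra.of k (Multiplicative M) (c j) ∈ φ.range := by
    intro j
    refine ⟨GLn.X j j, ?_⟩
    apply (gam k A).injective
    rw [hφ, ← hu]
    have := congrFun (congrFun (glMat_iDiag c u) j) j
    rw [Matrix.diagonal_apply_eq] at this
    exact this
  have hall : ∀ χ : Multiplicative M, MonoidAlgebra.of k (Multiplicative M) χ ∈ φ.range := by
    intro χ
    have hχ : χ ∈ Subgroup.closure (Set.range c) := by rw [hc]; trivial
    induction hχ using Subgroup.closure_induction with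
    | mem x hx =>
      obtain ⟨j, rfl⟩ := hx
      exact hof j
    | one => rw [map_one]; exact one_mem _
    | mul x y _ _ hx hy => rw [map_mul]; exact mul_mem hx hy
    | inv x _ hx =>
      have e : x⁻¹ = x ^ (orderOf x - 1) := by
        rw [inv_eq_iff_mul_eq_one, ← pow_succ', Nat.sub_add_cancel (orderOf_pos x),
          pow_orderOf_eq_one]
      rw [e, map_pow]
      exact pow_mem hx _
  intro a
  rw [eq_sum_single a]
  refine sum_mem fun χ _ => ?_
  rw [MonoidAlgebra.single_eq_algebraMap_mul_of]
  exact mul_mem (halg _) (hall χ)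

end Closed

end Groth.Agent.H40.DiagEmb
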