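import Mathlib

/-!
# Simultaneous diagonalisation of a complete family of orthogonal idempotent matrices
-/

set_option autoImplicit false
universe u

namespace Groth.Agent.H40.DiagLin

open Module

variable {K : Type u} [Field K] {M : Type*} [Fintype M] [DecidableEq M] {m : ℕ}

/-- the diagonal idempotent attached to a labelling `c` and a label `χ`. -/
def E (K : Type u) [Field K] {m : ℕ} (c : Fin m → M) (χ : M) : Matrix (Fin m) (Fin m) K :=
  Matrix.diagonal fun j => if c j = χ then 1 else 0

theorem exists_diag (P : M → Matrix (Fin m) (Fin m) K)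
    (hP : ∀ χ ψ, P χ * P ψ = if χ = ψ then P χ else 0) (hsum : ∑ χ, P χ = 1) :
    ∃ (c : Fin m → M) (Q Q' : Matrix (Fin m) (Fin m) K), Q * Q' = 1 ∧ Q' * Q = 1 ∧
      ∀ χ, Q * P χ * Q' = E K c χ := by
  classical
  let V : M → Submodule K (Fin m → K) := fun χ => LinearMap.range (Matrix.mulVecLin (P χ))
  have hmem : ∀ χ ψ (v : Fin m → K), v ∈ V ψ → (P χ).mulVec v = if χ = ψ then v else 0 := by
    rintro χ ψ v ⟨w, rfl⟩
    rw [Matrix.mulVecLin_apply, Matrix.mulVec_mulVec, hP]
    split_ifs with h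
    · rw [h]
    · rw [Matrix.zero_mulVec]
  have hsup : iSup V = ⊤ := by
    rw [eq_top_iff]
    intro v _
    have hv : v = ∑ χ, (P χ).mulVec v := by
      rw [← Matrix.sum_mulVec, hsum, Matrix.one_mulVec]
    rw [hv]
    refine Submodule.sum_mem _ fun χ _ => ?_
    exact Submodule.mem_iSup_of_mem χ ⟨v, rfl⟩
  have hind : iSupIndep V := by
    rw [iSupIndep_def]
    intro χ
    rw [Submodule.disjoint_def]
    intro v hv hv'
    have h1 : (P χ).mulVec v = v := by rw [hmem χ χ v hv, if_pos rfl]
    have h2 : (⨆ ψ, ⨆ (_ : ψ ≠ χ), V ψ) ≤ LinearMap.ker (Matrix.mulVecLin (P χ)) := by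
      refine iSup₂_le fun ψ hψ w hw => ?_
      rw [LinearMap.mem_ker, Matrix.mulVecLin_apply, hmem χ ψ w hw, if_neg (Ne.symm hψ)]
    have h3 := h2 hv'
    rw [LinearMap.mem_ker, Matrix.mulVecLin_apply, h1] at h3
    exact h3
  have hint : DirectSum.IsInternal V :=
    DirectSum.isInternal_submodule_of_iSupIndep_of_iSup_eq_top hind hsup
  let b := hint.collectedBasis (fun χ => Module.finBasis K (V χ))
  have hcard : Fintype.card (Σ χ, Fin (finrank K (V χ))) = m := by
    rw [← Module.finrank_eq_card_basis b, Module.finrank_fin_fun]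
  let e : (Σ χ, Fin (finrank K (V χ))) ≃ Fin m := Fintype.equivFinOfCardEq hcard
  let b' : Basis (Fin m) K (Fin m → K) := b.reindex e
  let c : Fin m → M := fun j => (e.symm j).1
  have hb' : ∀ j, b' j ∈ V (c j) := by
    intro j
    have : b' j = b (e.symm j) := by simp [b']
    rw [this]
    exact hint.collectedBasis_mem _ _
  let s := Pi.basisFun K (Fin m)
  refine ⟨c, b'.toMatrix s, s.toMatrix b', Basis.toMatrix_mul_toMatrix_flip _ _,
    Basis.toMatrix_mul_toMatrix_flip _ _, fun χ => ?_⟩
  have key : P χ * s.toMatrix b' = s.toMatrix b' * E K c χ := by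
    ext i j
    have h1 : (P χ * s.toMatrix b') i j = ((P χ).mulVec (b' j)) i := by
      rw [Matrix.mul_apply, Matrix.mulVec, dotProduct]
      refine Finset.sum_congr rfl fun l _ => ?_
      rw [Basis.toMatrix_apply, Pi.basisFun_repr]
    rw [h1, hmem χ (c j) (b' j) (hb' j), E, Matrix.mul_diagonal, Basis.toMatrix_apply,
      Pi.basisFun_repr]
    by_cases h : c j = χ
    · rw [if_pos h.symm, if_pos h, mul_one]
    · rw [if_neg (Ne.symm h), if_neg h, mul_zero]
      rfl
  rw [Matrix.mul_assoc, key, ← Matrix.mul_assoc, Basis.toMatrix_mul_toMatrix_flip, Matrix.one_mul]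

end Groth.Agent.H40.DiagLin
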