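import Groth.Agent.H42.DiagPts
import Groth.Agent.H40.GrpPts

/-!
# Points of `Red.DSmap` and `Red.chi`, and homomorphism property
-/

set_option autoImplicit false
universe u

open CategoryTheory MonoidalCategory CartesianMonoidalCategory MonObj GrpObj AlgebraicGeometry
open CategoryTheory.Limits
open Groth.Agent.H42

namespace Groth.Agent.H40

section BaseChange

variable {S' S : Scheme.{u}} (f : S' ⟶ S) {G G' : Over S} [GrpObj G] [GrpObj G']

theorem bcPt_map (g : G ⟶ G') {X : Over S'} (x : X ⟶ Red.bc f G) :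
    bcPt f G' (x ≫ (Over.pullback f).map g) = bcPt f G x ≫ g := by
  unfold bcPt
  exact Adjunction.homEquiv_naturality_right_symm _ _ _

end BaseChange

section DiagZ

variable {M N : Type} [AddCommGroup M] [AddCommGroup N]
  {Y : Over (Spec (CommRingCat.of (ULift.{u} ℤ)))}

theorem diagFnZ_diagMap (φ : M →+ N) (c : Y ⟶ Red.diag (ULift.{u} ℤ) N) (m : Multiplicative M) :
    diagFnZ (c ≫ Red.diagMap (ULift.{u} ℤ) φ) m =
      diagFnZ c (AddMonoidHom.toMultiplicative φ m) := by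
  rw [diagFnZ_apply, diagFnZ_apply]
  have h : ptL (c ≫ Red.diagMap (ULift.{u} ℤ) φ) = ptL c ≫ Spec.map (CommRingCat.ofHom
      (MonoidAlgebra.mapDomainAlgHom (ULift.{u} ℤ) (ULift.{u} ℤ)
        (AddMonoidHom.toMultiplicative φ)).toRingHom) := rfl
  rw [h, pb_comp_specMap]
  congr 1
  simp

end DiagZ

section DiagS

variable {S : Scheme.{u}} {X : Over S} {M N : Type} [AddCommGroup M] [AddCommGroup N]

theorem dsFn_DSmap (φ : M →+ N) (x : X ⟶ Red.DS S N) (m : Multiplicative M) :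
    dsFn (x ≫ Red.DSmap S φ) m = dsFn x (AddMonoidHom.toMultiplicative φ m) := by
  unfold dsFn Red.DSmap
  rw [bcPt_map, diagFnZ_diagMap]

theorem dsFn_isUnit (x : X ⟶ Red.DS S M) (m : Multiplicative M) : IsUnit (dsFn x m) :=
  (Group.isUnit m).map (dsFn x)

theorem dsFn_one (m : Multiplicative M) : dsFn (1 : X ⟶ Red.DS S M) m = 1 := by
  have := dsFn_mul (1 : X ⟶ Red.DS S M) 1 m
  rw [_root_.mul_one (1 : X ⟶ Red.DS S M)] at this
  exact (dsFn_isUnit (1 : X ⟶ Red.DS S M) m).mul_left_cancel (by rw [← this, _root_.mul_one])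

theorem dsFn_ext {x y : X ⟶ Red.DS S M} (h : ∀ m, dsFn x m = dsFn y m) : x = y :=
  dsFn_injective (MonoidHom.ext h)

instance isMonHom_DSmap (φ : M →+ N) : IsMonHom (Red.DSmap S φ) := by
  apply isMonHom_of_points
  · apply dsFn_ext
    intro m
    rw [dsFn_DSmap, dsFn_one, dsFn_one]
  · intro T g g'
    apply dsFn_ext
    intro m
    rw [dsFn_DSmap, dsFn_mul, dsFn_mul, dsFn_DSmap, dsFn_DSmap]

instance isMonHom_chi (m : M) : IsMonHom (Red.chi S m) := by
  unfold Red.chi
  infer_instance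

theorem gmFn_eq_dsFn (x : X ⟶ Red.Gm S) : Red.gmFn x = dsFn x (Multiplicative.ofAdd (1 : ℤ)) := rfl

theorem gmFn_chi (m : M) (x : X ⟶ Red.DS S M) :
    Red.gmFn (x ≫ Red.chi S m) = dsFn x (Multiplicative.ofAdd m) := by
  rw [gmFn_eq_dsFn]
  unfold Red.chi
  rw [dsFn_DSmap]
  congr 1
  simp

end DiagS

end Groth.Agent.H40
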