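import Groth.Agent.H82.TorusHom
import Mathlib.RingTheory.Bialgebra.MonoidAlgebra

/-!
# Matrix representations of a finite diagonalisable group: weight decomposition

A natural multiplicative family of matrices on the points of `D(M)` over `Spec K` (`M` finite) is
`x ↦ ∑ χ, χ(x) • P χ` for a complete family of orthogonal idempotent matrices `P χ` over `K`.
-/

set_option autoImplicit false
universe u

open CategoryTheory AlgebraicGeometry CategoryTheory.Limits MonoidalCategory
  CartesianMonoidalCategory MonObj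
open Groth.Agent.H42 Groth.Agent.H40
open scoped TensorProduct

namespace Groth.Agent.H40.DiagRep

open Groth.Agent.H82.TorusHom

section Alg

variable {K : Type u} [CommRing K] {G : Type} [DecidableEq G]

/-- coefficient functional of the monoid algebra. -/
noncomputable def cf (χ : G) : MonoidAlgebra K G →ₗ[K] K :=
  Finsupp.lapply χ ∘ₗ (MonoidAlgebra.coeffLinearEquiv K).toLinearMap

theorem cf_apply (χ : G) (a : MonoidAlgebra K G) : cf χ a = a.coeff χ := rfl

theorem cf_single (χ ψ : G) (r : K) :
    cf χ (MonoidAlgebra.single ψ r) = if ψ = χ then r else 0 := by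
  rw [cf_apply, MonoidAlgebra.coeff_single, Finsupp.single_apply]

theorem eq_sum_single [Fintype G] (a : MonoidAlgebra K G) :
    a = ∑ χ, MonoidAlgebra.single χ (cf χ a) := by
  conv_lhs => rw [← MonoidAlgebra.sum_coeff_single a]
  rw [Finsupp.sum_fintype]
  · rfl
  · intro i
    exact MonoidAlgebra.single_zero i

theorem cf_sum_of_mul [Fintype G] [Monoid G] (c : G → K) (χ₀ : G) :
    cf χ₀ (∑ x, MonoidAlgebra.of K G x * algebraMap K (MonoidAlgebra K G) (c x)) = c χ₀ := by
  rw [map_sum]
  have : ∀ x, cf χ₀ (MonoidAlgebra.of K G x * algebraMap K (MonoidAlgebra K G) (c x)) =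
      if x = χ₀ then c x else 0 := by
    intro x
    rw [← Algebra.commutes, ← MonoidAlgebra.single_eq_algebraMap_mul_of, cf_single]
  simp only [this]
  rw [Finset.sum_ite_eq' Finset.univ χ₀]
  simp

theorem lid_map_cf_comul [Monoid G] (χ ψ : G) (a : MonoidAlgebra K G) :
    TensorProduct.lid K K (TensorProduct.map (cf χ) (cf ψ) (Coalgebra.comul (R := K) a)) =
      if χ = ψ then cf χ a else 0 := by
  have key : (TensorProduct.lid K K).toLinearMap ∘ₗ TensorProduct.map (cf χ) (cf ψ) ∘ₗ
      (Coalgebra.comul (R := K) (A := MonoidAlgebra K G)) =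
      if χ = ψ then cf χ else 0 := by
    apply MonoidAlgebra.lhom_ext'
    intro x
    apply LinearMap.ext_ring
    simp only [LinearMap.comp_apply, MonoidAlgebra.lsingle_apply, MonoidAlgebra.comul_single,
      CommSemiring.comul_apply, TensorProduct.map_tmul, LinearEquiv.coe_coe,
      TensorProduct.lid_tmul, cf_single, smul_eq_mul]
    by_cases h : χ = ψ
    · subst h
      rw [if_pos rfl, cf_single]
      split_ifs <;> simp
    · rw [if_neg h, LinearMap.zero_apply]
      by_cases h1 : x = χ
      · subst h1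
        rw [if_neg h, mul_zero]
      · rw [if_neg h1, zero_mul]
  have := congrArg (fun L : MonoidAlgebra K G →ₗ[K] K => L a) key
  simp only [LinearMap.comp_apply, LinearEquiv.coe_coe] at this
  rw [this]
  split_ifs
  · rfl
  · rfl

end Alg

section Rep

variable {K : Type u} [CommRing K] {M : Type} [AddCommGroup M] [Fintype M] [DecidableEq M] {m : ℕ}

theorem pb_T_hom (B : Type u) [CommRing B] [Algebra K B] (r : K) :
    pb (T K B).hom r = gam K B (algebraMap K B r) := by
  have h := pb_comp_specMap (𝟙 (Spec (CommRingCat.of B))) (algebraMap K B) r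
  rw [Category.id_comp] at h
  change pb (Spec.map (CommRingCat.ofHom (algebraMap K B))) r = _
  rw [h, pb_apply, gam_apply]
  rfl

theorem appTop_gam_algebraMap {X : Over (Spec (CommRingCat.of K))} (B : Type u) [CommRing B]
    [Algebra K B] (h : X ⟶ T K B) (r : K) :
    h.left.appTop (gam K B (algebraMap K B r)) = pb X.hom r := by
  rw [gam_apply, ← pb_apply, ← pb_comp_specMap]
  have hw : h.left ≫ Spec.map (CommRingCat.ofHom (algebraMap K B)) = X.hom := Over.w h
  rw [hw]

/-- the value of a function on `Spec K[M]` pulled back along a point, in terms of characters -/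
theorem appTop_gam_eq_sum
    (u : T K (MonoidAlgebra K (Multiplicative M)) ⟶ Red.DS (Spec (CommRingCat.of K)) M)
    (hu : ∀ χ, dsFn u χ = gam K _ (MonoidAlgebra.of K (Multiplicative M) χ))
    {X : Over (Spec (CommRingCat.of K))} (h : X ⟶ T K (MonoidAlgebra K (Multiplicative M)))
    (a : MonoidAlgebra K (Multiplicative M)) :
    h.left.appTop (gam K _ a) = ∑ χ, dsFn (h ≫ u) χ * pb X.hom (cf χ a) := by
  conv_lhs => rw [eq_sum_single a]
  rw [map_sum, map_sum]
  refine Finset.sum_congr rfl fun χ _ => ?_
  rw [MonoidAlgebra.single_eq_algebraMap_mul_of, map_mul, map_mul, appTop_gam_algebraMap,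
    dsFn_comp, hu, mul_comm]

variable (F : ∀ X : Over (Spec (CommRingCat.of K)),
    (X ⟶ Red.DS (Spec (CommRingCat.of K)) M) → Matrix (Fin m) (Fin m) Γ(X.left, ⊤))

/-- **weight decomposition** of a natural multiplicative family of matrices on `D(M)` -/
theorem exists_proj
    (hcomp : ∀ {X X' : Over (Spec (CommRingCat.of K))} (h : X' ⟶ X)
      (x : X ⟶ Red.DS (Spec (CommRingCat.of K)) M), F X' (h ≫ x) = (F X x).map h.left.appTop)
    (hmul : ∀ {X : Over (Spec (CommRingCat.of K))} (x y : X ⟶ Red.DS (Spec (CommRingCat.of K)) M),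
      F X (x * y) = F X x * F X y)
    (hone : ∀ {X : Over (Spec (CommRingCat.of K))},
      F X (1 : X ⟶ Red.DS (Spec (CommRingCat.of K)) M) = 1) :
    ∃ P : Multiplicative M → Matrix (Fin m) (Fin m) K,
      (∀ χ ψ, P χ * P ψ = if χ = ψ then P χ else 0) ∧ (∑ χ, P χ = 1) ∧
      ∀ {X : Over (Spec (CommRingCat.of K))} (x : X ⟶ Red.DS (Spec (CommRingCat.of K)) M),
        F X x = ∑ χ, dsFn x χ • (P χ).map (pb X.hom) := by
  classical
  obtain ⟨u, hu⟩ := exists_univ K M
  set A := MonoidAlgebra K (Multiplicative M) with hA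
  let Au : Matrix (Fin m) (Fin m) A := (F _ u).map (gam K A).symm
  have hAu : F _ u = Au.map (gam K A) := by
    ext i j
    simp [Au]
  let P : Multiplicative M → Matrix (Fin m) (Fin m) K := fun χ => Au.map (cf χ)
  -- the formula
  have hform : ∀ {X : Over (Spec (CommRingCat.of K))} (x : X ⟶ Red.DS (Spec (CommRingCat.of K)) M),
      F X x = ∑ χ, dsFn x χ • (P χ).map (pb X.hom) := by
    intro X x
    obtain ⟨h, rfl⟩ := exists_factor u hu x
    rw [hcomp, hAu]
    ext i j
    rw [Matrix.map_apply, Matrix.map_apply, appTop_gam_eq_sum u hu h, Matrix.sum_apply]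
    refine Finset.sum_congr rfl fun χ _ => ?_
    rw [Matrix.smul_apply, Matrix.map_apply, smul_eq_mul]
    rfl
  have hF : ∀ {B : Type u} [CommRing B] [Algebra K B] (g : A →ₐ[K] B),
      F _ (tmap g ≫ u) = Au.map (fun a => gam K B (g a)) := by
    intro B _ _ g
    rw [hcomp, hAu]
    ext i j
    rw [Matrix.map_apply, Matrix.map_apply, Matrix.map_apply]
    exact tmap_appTop g _
  refine ⟨P, ?_, ?_, hform⟩
  · -- orthogonality
    intro χ ψ
    let iL : A →ₐ[K] A ⊗[K] A := Algebra.TensorProduct.includeLeft
    let iR : A →ₐ[K] A ⊗[K] A := Algebra.TensorProduct.includeRight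
    let Δ : A →ₐ[K] A ⊗[K] A := Bialgebra.comulAlgHom K A
    have hx : (tmap iL ≫ u) * (tmap iR ≫ u) = tmap Δ ≫ u := by
      apply dsFn_ext
      intro w
      rw [dsFn_mul, dsFn_comp, dsFn_comp, dsFn_comp, hu, tmap_appTop, tmap_appTop, tmap_appTop,
        ← map_mul]
      congr 1
      change (MonoidAlgebra.of K (Multiplicative M) w) ⊗ₜ[K] (1 : A) *
          (1 : A) ⊗ₜ[K] (MonoidAlgebra.of K (Multiplicative M) w) =
        Coalgebra.comul (R := K) (MonoidAlgebra.of K (Multiplicative M) w)
      rw [MonoidAlgebra.of_apply, MonoidAlgebra.comul_single, Algebra.TensorProduct.tmul_mul_tmul,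
        _root_.mul_one, _root_.one_mul]
      rfl
    have h1 : Au.map (fun a => gam K _ (Δ a)) =
        Au.map (fun a => gam K _ (iL a)) * Au.map (fun a => gam K _ (iR a)) := by
      rw [← hF, ← hF, ← hF, ← hmul, hx]
    ext i j
    have h2 := congrFun (congrFun h1 i) j
    rw [Matrix.map_apply, Matrix.mul_apply] at h2
    simp only [Matrix.map_apply] at h2
    simp only [← map_mul] at h2
    rw [← map_sum] at h2
    have h3 := (gam K (A ⊗[K] A)).injective h2
    have h4 : Coalgebra.comul (R := K) (Au i j) = ∑ l, Au i l ⊗ₜ[K] Au l j := by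
      change Δ (Au i j) = _
      rw [h3]
      refine Finset.sum_congr rfl fun l _ => ?_
      change (Au i l ⊗ₜ[K] (1 : A)) * ((1 : A) ⊗ₜ[K] Au l j) = _
      rw [Algebra.TensorProduct.tmul_mul_tmul, _root_.mul_one, _root_.one_mul]
    have h5 := lid_map_cf_comul χ ψ (Au i j)
    rw [h4, map_sum, map_sum] at h5
    simp only [TensorProduct.map_tmul, TensorProduct.lid_tmul, smul_eq_mul] at h5
    rw [Matrix.mul_apply]
    simp only [P, Matrix.map_apply]
    rw [h5]
    split_ifs
    · rfl
    · rfl
  · -- completeness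
    have h1 := hform (1 : T K K ⟶ Red.DS (Spec (CommRingCat.of K)) M)
    rw [hone] at h1
    simp only [dsFn_one, one_smul] at h1
    have hinj : Function.Injective (pb (T K K).hom) := by
      intro a b hab
      rw [pb_T_hom, pb_T_hom] at hab
      exact (gam K K).injective hab
    have h2 : (∑ χ, P χ).map (pb (T K K).hom) = (1 : Matrix (Fin m) (Fin m) K).map (pb (T K K).hom) := by
      rw [Matrix.map_one _ (map_zero _) (map_one _), h1]
      ext i j
      simp [Matrix.sum_apply]
    exact Matrix.map_injective hinj h2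

/-- the idempotents are determined by the family of matrices -/
theorem proj_unique (P P' : Multiplicative M → Matrix (Fin m) (Fin m) K)
    (h : ∀ (X : Over (Spec (CommRingCat.of K))) (x : X ⟶ Red.DS (Spec (CommRingCat.of K)) M),
      ∑ χ, dsFn x χ • (P χ).map (pb X.hom) = ∑ χ, dsFn x χ • (P' χ).map (pb X.hom)) :
    P = P' := by
  classical
  obtain ⟨u, hu⟩ := exists_univ K M
  set A := MonoidAlgebra K (Multiplicative M) with hA
  have h1 := h _ u
  funext χ₀
  ext i j
  have h2 := congrFun (congrFun h1 i) j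
  simp only [Matrix.sum_apply, Matrix.smul_apply, Matrix.map_apply, smul_eq_mul, hu, pb_T_hom,
    ← map_mul] at h2
  rw [← map_sum, ← map_sum] at h2
  have h3 := congrArg (cf χ₀) ((gam K A).injective h2)
  rw [cf_sum_of_mul (fun x => P x i j), cf_sum_of_mul (fun x => P' x i j)] at h3
  exact h3

end Rep

end Groth.Agent.H40.DiagRep
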