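import Groth.Agent.H40.ExactSeq
import Groth.Agent.H40.LocTriv

/-!
# Torsors and exact sequences: reduction to the kernel and semilinear maps to the quotient
-/

set_option autoImplicit false
set_option backward.isDefEq.respectTransparency.types false
universe u
open CategoryTheory CategoryTheory.Limits MonoidalCategory CartesianMonoidalCategory MonObj GrpObj
  AlgebraicGeometry

namespace Groth.Agent.H40

variable {S : Scheme.{u}}

lemma isLocallyTrivialFor_of_comp_right {K : Precoverage Scheme.{u}} {E P B : Scheme.{u}}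
    (v : E ⟶ P) (w : P ⟶ B) (h : NonAbH1.IsLocallyTrivialFor K (Over.mk (v ≫ w))) :
    NonAbH1.IsLocallyTrivialFor K (Over.mk w) := by
  obtain ⟨R, hR, hsec⟩ := h
  refine ⟨R, hR, fun S' f hf => ?_⟩
  obtain ⟨s, hs⟩ := hsec f hf
  exact ⟨s ≫ v, by rw [Category.assoc]; exact hs⟩

lemma psmul_trivialAction {G : Over S} [GrpObj G] {T : Over S} (x y : T ⟶ G) :
    psmul (NonAbH1.trivialAction G) x y = x * y := by
  rw [psmul_def]
  change lift x y ≫ μ[G] = _
  rw [Hom.mul_def]

section Semilinear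
variable {G G'' P : Over S} [GrpObj G] [GrpObj G'']

/-- a semilinear map from a torsor to the quotient group has sections locally. -/
theorem isLocallyTrivialFor_semilinear {K : Precoverage Scheme.{u}} [K.IsStableUnderBaseChange]
    [K.IsStableUnderComposition] (v : G ⟶ G'') (a : AlgGrp.Action G P) (t : P ⟶ G'')
    (ht : ∀ {T : Over S} (g : T ⟶ G) (p : T ⟶ P), psmul a g p ≫ t = (g ≫ v) * (p ≫ t))
    (hP : NonAbH1.IsLocallyTrivialFor K P)
    (hv : NonAbH1.IsLocallyTrivialFor K (Over.mk v.left : Over G''.left)) :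
    NonAbH1.IsLocallyTrivialFor K (Over.mk t.left : Over G''.left) := by
  have hact : a.act ≫ t = (fst G P ≫ v) * (snd G P ≫ t) := by
    have := ht (fst G P) (snd G P)
    rwa [psmul_def, lift_fst_snd, Category.id_comp] at this
  set Φ : G ⊗ P ⟶ G'' ⊗ P := lift (a.act ≫ t) (snd G P) with hΦ
  set ρ : G'' ⊗ P ⟶ G'' := (fst G'' P) * (snd G'' P ≫ t)⁻¹ with hρ
  have hpb : IsPullback (fst G P) Φ v ρ := by
    apply isPullback_of_points
    · rw [hρ, MonObj.comp_mul, GrpObj.comp_inv, hΦ, lift_fst, ← Category.assoc, lift_snd, hact,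
        mul_inv_cancel_right]
    · intro T x y hxy
      refine ⟨lift x (y ≫ snd G'' P), lift_fst _ _, ?_⟩
      rw [hΦ, comp_lift, lift_snd, ← Category.assoc, ← psmul_def, ht, hxy, hρ, MonObj.comp_mul,
        GrpObj.comp_inv, ← Category.assoc, inv_mul_cancel_right]
      apply CartesianMonoidalCategory.hom_ext
      · rw [lift_fst]
      · rw [lift_snd]
    · intro T p p' h1 h2
      apply CartesianMonoidalCategory.hom_ext
      · exact h1
      · have := congr($h2 ≫ snd G'' P)
        rwa [Category.assoc, Category.assoc, hΦ, lift_snd] at this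
  have h1 : NonAbH1.IsLocallyTrivialFor K (Over.mk Φ.left : Over (G'' ⊗ P).left) :=
    isLocallyTrivialFor_of_isPullback (hpb.map (Over.forget S)) hv
  have h2 : NonAbH1.IsLocallyTrivialFor K (Over.mk (fst G'' P).left : Over G''.left) :=
    isLocallyTrivialFor_fst G'' hP
  have h3 := isLocallyTrivialFor_comp Φ.left (fst G'' P).left h1 h2
  have e : Φ.left ≫ (fst G'' P).left = a.act.left ≫ t.left := by
    rw [← Over.comp_left, ← Over.comp_left, hΦ, lift_fst]
  rw [e] at h3
  exact isLocallyTrivialFor_of_comp_right _ _ h3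

end Semilinear

section Exact
variable {G G' G'' P Q : Over S} [GrpObj G] [GrpObj G'] [GrpObj G'']

/-- the kernel acts simply transitively on the fibres of a semilinear map from a pseudo-torsor. -/
theorem isPullback_restrict_of_exact (u : G' ⟶ G) [IsMonHom u] (v : G ⟶ G'') [IsMonHom v]
    (huv : u ≫ v = 1)
    (hsq : IsPullback (fst G G') ((G ◁ u) ≫ μ[G]) v v)
    (a : AlgGrp.Action G P) (hps : NonAbH1.IsPseudoTorsorSch a) (t : P ⟶ G'')
    (ht : ∀ {T : Over S} (g : T ⟶ G) (p : T ⟶ P), psmul a g p ≫ t = (g ≫ v) * (p ≫ t)) :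
    IsPullback (a.restrict u).act (snd G' P) t t := by
  have hpbP := isPullback_toUnit_of_isPseudoTorsor a hps
  have hinv : ∀ {T : Over S} (g' : T ⟶ G') (p : T ⟶ P),
      psmul (a.restrict u) g' p ≫ t = p ≫ t := by
    intro T g' p
    rw [psmul_restrict, ht, Category.assoc, huv, MonObj.comp_one, _root_.one_mul]
  apply isPullback_of_psmul
  · have := hinv (fst G' P) (snd G' P)
    rwa [psmul_def, lift_fst_snd, Category.id_comp] at this
  · intro T x x' hxx
    obtain ⟨g, hg⟩ := exists_psmul_of_isPullback a (toUnit P) hpbP x x' (toUnit_unique _ _)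
    have h1 : g ≫ v = 1 := by
      have := ht g x'
      rw [hg, hxx] at this
      exact (mul_eq_right.1 this.symm)
    obtain ⟨g', hg'⟩ := exists_of_exact u v hsq (1 : T ⟶ G) g (by rw [h1, MonObj.one_comp])
    refine ⟨g', ?_⟩
    rw [psmul_restrict, ← hg, ← hg', _root_.one_mul]
  · intro T g g' x' hgg
    rw [psmul_restrict, psmul_restrict] at hgg
    exact eq_of_exact u v hsq g g' (eq_of_psmul_eq_of_isPullback a (toUnit P) hpbP _ _ x' hgg)

/-- a reduction of a `G`-torsor to `G'` gives a semilinear map to `G''`. -/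
theorem exists_semilinear_of_reduction (u : G' ⟶ G) [IsMonHom u] (v : G ⟶ G'') [IsMonHom v]
    (huv : u ≫ v = 1)
    (a : AlgGrp.Action G P) (hps : NonAbH1.IsPseudoTorsorSch a)
    (b : AlgGrp.Action G' Q) (hQ : NonAbH1.IsTorsorFor Scheme.fpqcPrecoverage b)
    (w : Q ⟶ P)
    (hw : ∀ {T : Over S} (g' : T ⟶ G') (q : T ⟶ Q), psmul b g' q ≫ w = psmul a (g' ≫ u) (q ≫ w)) :
    ∃ t : P ⟶ G'', ∀ {T : Over S} (g : T ⟶ G) (p : T ⟶ P),
      psmul a g p ≫ t = (g ≫ v) * (p ≫ t) := by
  have hpbP := isPullback_toUnit_of_isPseudoTorsor a hps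
  have hpbQ := isPullback_toUnit_of_isPseudoTorsor b hQ.1
  -- the division map
  have hdiv : ∀ {T : Over S} (p : T ⟶ P) (q : T ⟶ Q), ∃ g : T ⟶ G, psmul a g (q ≫ w) = p :=
    fun p q => exists_psmul_of_isPullback a (toUnit P) hpbP p (q ≫ w) (toUnit_unique _ _)
  obtain ⟨d, hd⟩ := hdiv (fst P Q) (snd P Q)
  have hd' : ∀ {T : Over S} (z : T ⟶ P ⊗ Q) (g : T ⟶ G),
      psmul a g (z ≫ snd P Q ≫ w) = z ≫ fst P Q → z ≫ d = g := by
    intro T z g hg
    apply eq_of_psmul_eq_of_isPullback a (toUnit P) hpbP _ _ (z ≫ snd P Q ≫ w)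
    rw [hg, ← comp_psmul, hd]
  have hloc : NonAbH1.IsLocallyTrivialFor Scheme.fpqcPrecoverage
      (Over.mk (fst P Q).left : Over P.left) := isLocallyTrivialFor_fst P hQ.2
  obtain ⟨t, htdef, -⟩ := existsUnique_desc_over_of_locallyTrivial (fst P Q) hloc (d ≫ v) (by
    intro Z z₁ z₂ h12
    obtain ⟨g', hg'⟩ := exists_psmul_of_isPullback b (toUnit Q) hpbQ (z₁ ≫ snd P Q) (z₂ ≫ snd P Q)
      (toUnit_unique _ _)
    -- z₂ ≫ d = (z₁ ≫ d) * (g' ≫ u)
    have h2 : z₂ ≫ d = (z₁ ≫ d) * (g' ≫ u) := by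
      apply hd'
      rw [mul_psmul, ← Category.assoc, ← hw, hg', ← h12, Category.assoc, ← hd, ← comp_psmul]
    rw [← Category.assoc, ← Category.assoc, h2, MonObj.mul_comp, Category.assoc g', huv,
      MonObj.comp_one, _root_.mul_one])
  refine ⟨t, ?_⟩
  intro T g p
  -- pass to the cover `T ⊗ Q ⟶ T`
  have hlocT : NonAbH1.IsLocallyTrivialFor Scheme.fpqcPrecoverage
      (Over.mk (fst T Q).left : Over T.left) := isLocallyTrivialFor_fst T hQ.2
  have hepi : Epi (fst T Q) := epi_of_locallyTrivial _ hlocT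
  rw [← cancel_epi (fst T Q)]
  -- the two points of `P ⊗ Q`
  have e1 : fst T Q ≫ p ≫ t = lift (fst T Q ≫ p) (snd T Q) ≫ d ≫ v := by
    rw [← htdef, ← Category.assoc (lift _ _), lift_fst, Category.assoc]
  have e2 : fst T Q ≫ psmul a g p ≫ t = lift (fst T Q ≫ psmul a g p) (snd T Q) ≫ d ≫ v := by
    rw [← htdef, ← Category.assoc (lift _ _), lift_fst, Category.assoc]
  have e3 : lift (fst T Q ≫ psmul a g p) (snd T Q) ≫ d =
      (fst T Q ≫ g) * (lift (fst T Q ≫ p) (snd T Q) ≫ d) := by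
    apply hd'
    rw [lift_fst, ← Category.assoc, lift_snd, mul_psmul, comp_psmul]
    congr 1
    have := congr(lift (fst T Q ≫ p) (snd T Q) ≫ $hd)
    rwa [comp_psmul, lift_fst, ← Category.assoc, lift_snd] at this
  rw [e2, ← Category.assoc, e3, MonObj.mul_comp, MonObj.comp_mul, e1, Category.assoc,
    Category.assoc]

end Exact

end Groth.Agent.H40
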