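import Groth.Agent.H40.RedStruct

/-!
# Descent of a commuting action to the quotient of a torsor, and the quotient torsor
-/

set_option autoImplicit false
universe u
open CategoryTheory CategoryTheory.Limits MonoidalCategory CartesianMonoidalCategory MonObj GrpObj
  AlgebraicGeometry

namespace Groth.Agent.H40.QuotAction

open Groth.Agent.H40

variable {S : Scheme.{u}} {G H E P : Over S}

/-- two morphisms out of `A ⊗ P` agree if they agree on the points coming from `E`, where
`p : E ⟶ P` has sections locally for the flat topology. -/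
lemma hom_ext_whiskerLeft (p : E ⟶ P)
    (hloc : NonAbH1.IsLocallyTrivialFor Scheme.fpqcPrecoverage (Over.mk p.left : Over P.left))
    {A W : Over S} (u v : A ⊗ P ⟶ W)
    (h : ∀ {T : Over S} (α : T ⟶ A) (e : T ⟶ E), lift α (e ≫ p) ≫ u = lift α (e ≫ p) ≫ v) :
    u = v := by
  have hepi : Epi (A ◁ p) := epi_whiskerLeft_of_locallyTrivial p hloc
  rw [← cancel_epi (A ◁ p)]
  have e1 : A ◁ p = lift (fst A E) (snd A E ≫ p) := by
    apply CartesianMonoidalCategory.hom_ext <;> simp
  rw [e1]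
  exact h _ _

variable [GrpObj G] [GrpObj H]

/-- an action of `H` on the total space of a `G`-torsor `p : E ⟶ P` which commutes with the action
of `G` descends to `P`. -/
theorem exists_action_of_commute (a : AlgGrp.Action G E) (p : E ⟶ P)
    (hp : IsPullback a.act (snd G E) p p)
    (hloc : NonAbH1.IsLocallyTrivialFor Scheme.fpqcPrecoverage (Over.mk p.left : Over P.left))
    (c : AlgGrp.Action H E)
    (hcomm : ∀ {T : Over S} (g : T ⟶ G) (h : T ⟶ H) (e : T ⟶ E),
      psmul c h (psmul a g e) = psmul a g (psmul c h e)) :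
    ∃ cbar : AlgGrp.Action H P, ∀ {T : Over S} (h : T ⟶ H) (e : T ⟶ E),
      psmul cbar h (e ≫ p) = psmul c h e ≫ p := by
  have hlocH : NonAbH1.IsLocallyTrivialFor Scheme.fpqcPrecoverage
      (Over.mk (H ◁ p).left : Over (H ⊗ P).left) :=
    isLocallyTrivialFor_of_isPullback
      ((isPullback_whiskerLeft (G := H) p).map (Over.forget S)) hloc
  obtain ⟨act, hact, -⟩ := existsUnique_desc_over_of_locallyTrivial (H ◁ p) hlocH (c.act ≫ p) (by
    intro Z z₁ z₂ h12
    have h1 : z₁ ≫ fst H E = z₂ ≫ fst H E := by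
      have := congr($h12 ≫ fst H P)
      simpa using this
    have h2 : (z₁ ≫ snd H E) ≫ p = (z₂ ≫ snd H E) ≫ p := by
      have := congr($h12 ≫ snd H P)
      simpa using this
    obtain ⟨g, hg⟩ := exists_psmul_of_isPullback a p hp _ _ h2
    have e1 : z₁ = lift (z₁ ≫ fst H E) (z₁ ≫ snd H E) := eq_lift_fst_snd z₁
    have e2 : z₂ = lift (z₂ ≫ fst H E) (z₂ ≫ snd H E) := eq_lift_fst_snd z₂
    rw [e1, e2, ← Category.assoc, ← Category.assoc, ← psmul_def, ← psmul_def, ← hg, h1, hcomm,
      psmul_comp_of_isPullback a p hp])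
  have hpt : ∀ {T : Over S} (h : T ⟶ H) (e : T ⟶ E),
      lift h (e ≫ p) ≫ act = psmul c h e ≫ p := by
    intro T h e
    have e1 : lift h (e ≫ p) = lift h e ≫ (H ◁ p) := by
      apply CartesianMonoidalCategory.hom_ext <;> simp
    rw [e1, Category.assoc, hact, psmul_def, Category.assoc]
  refine ⟨⟨act, ?_, ?_⟩, fun h e => hpt h e⟩
  · apply hom_ext_whiskerLeft p hloc
    intro T α e
    have hα : α ≫ η[H] = 1 := by rw [Hom.one_def, toUnit_unique (toUnit T) α]
    rw [← Category.assoc, lift_whiskerRight, hα, hpt, one_psmul, leftUnitor_hom, lift_snd]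
  · apply hom_ext_whiskerLeft p hloc
    intro T α e
    have eα : α = lift (α ≫ fst H H) (α ≫ snd H H) := eq_lift_fst_snd α
    rw [← Category.assoc, lift_whiskerRight, eα, ← Hom.mul_def, hpt, mul_psmul,
      lift_lift_associator_hom_assoc, ← Category.assoc, lift_whiskerLeft, hpt, hpt]

/-- the quotient torsor: if the descended action is simply transitive on the fibres of `r` (in
terms of points coming from `E`) then `r` is a pseudo-torsor under `H`. -/
theorem isPullback_of_commute (p : E ⟶ P)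
    (hloc : NonAbH1.IsLocallyTrivialFor Scheme.fpqcPrecoverage (Over.mk p.left : Over P.left))
    (c : AlgGrp.Action H E) (cbar : AlgGrp.Action H P)
    (hcbar : ∀ {T : Over S} (h : T ⟶ H) (e : T ⟶ E), psmul cbar h (e ≫ p) = psmul c h e ≫ p)
    {Y : Over S} (r : P ⟶ Y)
    (hinv : ∀ {T : Over S} (h : T ⟶ H) (e : T ⟶ E), psmul c h e ≫ p ≫ r = e ≫ p ≫ r)
    (htrans : ∀ {T : Over S} (e e' : T ⟶ E), e ≫ p ≫ r = e' ≫ p ≫ r →
      ∃ h : T ⟶ H, psmul c h e' ≫ p = e ≫ p)
    (hfree : ∀ {T : Over S} (h h' : T ⟶ H) (e : T ⟶ E),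
      psmul c h e ≫ p = psmul c h' e ≫ p → h = h') :
    IsPullback cbar.act (snd H P) r r := by
  -- the cover of `T` by lifts of a point of `P`
  have hcov : ∀ {T : Over S} (y : T ⟶ P), ∃ (T₁ : Over S) (v : T₁ ⟶ T) (e : T₁ ⟶ E),
      NonAbH1.IsLocallyTrivialFor Scheme.fpqcPrecoverage (Over.mk v.left : Over T.left) ∧
      v ≫ y = e ≫ p := by
    intro T y
    have hpb := IsPullback.of_hasPullback y p
    exact ⟨pullback y p, pullback.fst y p, pullback.snd y p,
      isLocallyTrivialFor_of_isPullback (hpb.flip.map (Over.forget S)) hloc, hpb.w⟩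
  have huniq : ∀ (T : Over S) (h h' : T ⟶ H) (y : T ⟶ P),
      psmul cbar h y = psmul cbar h' y → h = h' := by
    intro T h h' y hh
    obtain ⟨T₁, v, e, hv, hve⟩ := hcov y
    have hepi : Epi v := epi_of_locallyTrivial v hv
    rw [← cancel_epi v]
    apply hfree _ _ e
    rw [← hcbar, ← hcbar, ← hve, ← comp_psmul, ← comp_psmul, hh]
  apply isPullback_of_psmul
  · apply hom_ext_whiskerLeft p hloc
    intro T h e
    rw [← Category.assoc, ← psmul_def, hcbar, ← Category.assoc, lift_snd, Category.assoc,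
      Category.assoc, hinv]
  · intro T y y' hyy
    obtain ⟨T₁, v₁, e₁, hv₁, hve₁⟩ := hcov y
    obtain ⟨T₂, v₂, e₂, hv₂, hve₂⟩ := hcov (v₁ ≫ y')
    have hv : NonAbH1.IsLocallyTrivialFor Scheme.fpqcPrecoverage
        (Over.mk (v₂ ≫ v₁).left : Over T.left) := isLocallyTrivialFor_comp v₂.left v₁.left hv₂ hv₁
    have hepi : Epi (v₂ ≫ v₁) := epi_of_locallyTrivial _ hv
    have he : (v₂ ≫ e₁) ≫ p ≫ r = e₂ ≫ p ≫ r := by
      rw [Category.assoc, ← Category.assoc e₁, ← hve₁, ← Category.assoc e₂, ← hve₂]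
      simp only [Category.assoc]
      rw [hyy]
    obtain ⟨ht, hht⟩ := htrans _ _ he
    have hht' : psmul cbar ht ((v₂ ≫ v₁) ≫ y') = (v₂ ≫ v₁) ≫ y := by
      rw [Category.assoc, hve₂, hcbar, hht, Category.assoc, Category.assoc, hve₁]
    obtain ⟨h, hh, -⟩ := existsUnique_desc_over_of_locallyTrivial (v₂ ≫ v₁) hv ht (by
      intro Z z₁ z₂ h12
      apply huniq Z _ _ (z₁ ≫ (v₂ ≫ v₁) ≫ y')
      rw [← comp_psmul, hht']
      have e3 : z₁ ≫ (v₂ ≫ v₁) ≫ y' = z₂ ≫ (v₂ ≫ v₁) ≫ y' := by
        rw [← Category.assoc, h12, Category.assoc]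
      rw [e3, ← comp_psmul, hht', ← Category.assoc, h12, Category.assoc])
    refine ⟨h, ?_⟩
    rw [← cancel_epi (v₂ ≫ v₁), comp_psmul, hh, hht']
  · exact huniq

end Groth.Agent.H40.QuotAction
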