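import Groth.Agent.H40.CoverMonFP
import Groth.Agent.H40.FlatDesc
import Groth.Agent.H53.LfpFppfSource

/-! Third isomorphism theorem for fppf quotients of group schemes: `(G/H)/(K/H) = G/K`. -/

set_option autoImplicit false
universe u

open CategoryTheory CategoryTheory.Limits MonoidalCategory CartesianMonoidalCategory MonObj
  AlgebraicGeometry

namespace Groth.Agent.H40

variable {S : Scheme.{u}}

lemma lift_whiskerLeft_mul {G K : Over S} [GrpObj G] (k : K ⟶ G) {Z : Over S} (g : Z ⟶ G)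
    (κ : Z ⟶ K) : lift g κ ≫ (G ◁ k) ≫ μ[G] = g * (κ ≫ k) := by
  rw [Hom.mul_def, ← Category.assoc]
  congr 1
  apply CartesianMonoidalCategory.hom_ext <;> simp

/-- pointwise form of the compatibility of the induced action with the multiplication. -/
lemma act_pt {G K QH Kb : Over S} [GrpObj G] (k : K ⟶ G) (qH : G ⟶ QH) (qKb : K ⟶ Kb)
    (act : QH ⊗ Kb ⟶ QH) (hact : (qH ⊗ₘ qKb) ≫ act = (G ◁ k) ≫ μ[G] ≫ qH)
    {Z : Over S} (g : Z ⟶ G) (κ : Z ⟶ K) :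
    lift (g ≫ qH) (κ ≫ qKb) ≫ act = (g * (κ ≫ k)) ≫ qH := by
  have h1 : lift (g ≫ qH) (κ ≫ qKb) = lift g κ ≫ (qH ⊗ₘ qKb) := by
    apply CartesianMonoidalCategory.hom_ext <;> simp
  rw [h1, Category.assoc, hact, ← lift_whiskerLeft_mul]
  simp only [Category.assoc]

/-- `(G/H) × (K/H) ≅ (G/H) ×_{G/K} (G/H)`. -/
theorem isPullback_quot_quot {H K G QH Kb QK : Over S} [GrpObj H] [GrpObj K] [GrpObj G]
    (h : H ⟶ K) (k : K ⟶ G) [Mono k] [IsMonHom k]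
    (qH : G ⟶ QH) (hqH : IsCovFP qH) (sqH : IsPullback (fst G H) ((G ◁ (h ≫ k)) ≫ μ[G]) qH qH)
    (qKb : K ⟶ Kb) (hqKb : IsCovFP qKb) (sqKb : IsPullback (fst K H) ((K ◁ h) ≫ μ[K]) qKb qKb)
    (act : QH ⊗ Kb ⟶ QH) (hact : (qH ⊗ₘ qKb) ≫ act = (G ◁ k) ≫ μ[G] ≫ qH)
    (qK : G ⟶ QK) (sqK : IsPullback (fst G K) ((G ◁ k) ≫ μ[G]) qK qK)
    (qbar : QH ⟶ QK) (hq : qH ≫ qbar = qK) :
    IsPullback (fst QH Kb) act qbar qbar := by
  have hepi2 := (hqH.tensorHom hqKb).epi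
  have hw : fst QH Kb ≫ qbar = act ≫ qbar := by
    rw [← cancel_epi (qH ⊗ₘ qKb)]
    have hKw : (G ◁ k) ≫ μ[G] ≫ qK = fst G K ≫ qK := by
      have := sqK.w
      rw [Category.assoc] at this
      exact this.symm
    calc (qH ⊗ₘ qKb) ≫ fst QH Kb ≫ qbar = fst G K ≫ qH ≫ qbar := by
          rw [← Category.assoc, tensorHom_fst, Category.assoc]
      _ = fst G K ≫ qK := by rw [hq]
      _ = (G ◁ k) ≫ μ[G] ≫ qK := hKw.symm
      _ = ((G ◁ k) ≫ μ[G] ≫ qH) ≫ qbar := by simp only [Category.assoc, hq]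
      _ = ((qH ⊗ₘ qKb) ≫ act) ≫ qbar := by rw [hact]
      _ = (qH ⊗ₘ qKb) ≫ act ≫ qbar := Category.assoc _ _ _
  let c : QH ⊗ Kb ⟶ pullback qbar qbar := pullback.lift (fst QH Kb) act hw
  have hc1 : c ≫ pullback.fst qbar qbar = fst QH Kb := pullback.lift_fst _ _ _
  have hc2 : c ≫ pullback.snd qbar qbar = act := pullback.lift_snd _ _ _
  have hmono : Mono c := by
    refine ⟨fun {Z} w₁ w₂ h12 => ?_⟩
    have hx : w₁ ≫ fst QH Kb = w₂ ≫ fst QH Kb := by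
      have := congrArg (· ≫ pullback.fst qbar qbar) h12
      simpa [hc1] using this
    have ha : w₁ ≫ act = w₂ ≫ act := by
      have := congrArg (· ≫ pullback.snd qbar qbar) h12
      simpa [hc2] using this
    obtain ⟨T', c', y, hc', hy⟩ := (hqH.tensorHom (hqKb.tensorHom hqKb)).exists_local_lift
      (lift (w₁ ≫ fst QH Kb) (lift (w₁ ≫ snd QH Kb) (w₂ ≫ snd QH Kb)))
    have hepi' := hc'.epi
    let g : T' ⟶ G := y ≫ fst G (K ⊗ K)
    let κ₁ : T' ⟶ K := y ≫ snd G (K ⊗ K) ≫ fst K K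
    let κ₂ : T' ⟶ K := y ≫ snd G (K ⊗ K) ≫ snd K K
    have hg : g ≫ qH = c' ≫ w₁ ≫ fst QH Kb := by
      have := congrArg (· ≫ fst QH (Kb ⊗ Kb)) hy
      simpa [g] using this
    have hκ₁ : κ₁ ≫ qKb = c' ≫ w₁ ≫ snd QH Kb := by
      have := congrArg (· ≫ snd QH (Kb ⊗ Kb) ≫ fst Kb Kb) hy
      simpa [κ₁] using this
    have hκ₂ : κ₂ ≫ qKb = c' ≫ w₂ ≫ snd QH Kb := by
      have := congrArg (· ≫ snd QH (Kb ⊗ Kb) ≫ snd Kb Kb) hy
      simpa [κ₂] using this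
    have hw₁ : c' ≫ w₁ = lift (g ≫ qH) (κ₁ ≫ qKb) := by
      apply CartesianMonoidalCategory.hom_ext
      · rw [lift_fst, Category.assoc, hg]
      · rw [lift_snd, Category.assoc, hκ₁]
    have hw₂ : c' ≫ w₂ = lift (g ≫ qH) (κ₂ ≫ qKb) := by
      apply CartesianMonoidalCategory.hom_ext
      · rw [lift_fst, Category.assoc, ← hx, hg]
      · rw [lift_snd, Category.assoc, hκ₂]
    have hπeq : (g * (κ₁ ≫ k)) ≫ qH = (g * (κ₂ ≫ k)) ≫ qH := by
      rw [← act_pt k qH qKb act hact, ← act_pt k qH qKb act hact, ← hw₁, ← hw₂, Category.assoc,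
        Category.assoc, ha]
    obtain ⟨t, ht⟩ := exists_mul_of_comp_eq (h ≫ k) qH sqH _ _ hπeq
    have hκ : κ₂ = κ₁ * (t ≫ h) := by
      rw [← cancel_mono k, MonObj.mul_comp, Category.assoc t h k]
      rw [_root_.mul_assoc] at ht
      exact mul_left_cancel ht
    have hρ : κ₂ ≫ qKb = κ₁ ≫ qKb := by
      rw [hκ, mul_comp_quot h qKb sqKb]
    have hsnd : w₁ ≫ snd QH Kb = w₂ ≫ snd QH Kb := by
      rw [← cancel_epi c', ← hκ₁, ← hκ₂, hρ]
    apply CartesianMonoidalCategory.hom_ext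
    · exact hx
    · exact hsnd
  have hiso : IsIso c := by
    refine isIso_of_mono_of_local_sectionFP c ?_
    let p₁ := pullback.fst qbar qbar
    let p₂ := pullback.snd qbar qbar
    obtain ⟨T', c', y, hc', hy⟩ := (hqH.tensorHom hqH).exists_local_lift (lift p₁ p₂)
    let g₁ : T' ⟶ G := y ≫ fst G G
    let g₂ : T' ⟶ G := y ≫ snd G G
    have hg₁ : g₁ ≫ qH = c' ≫ p₁ := by
      have := congrArg (· ≫ fst QH QH) hy
      simpa [g₁] using this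
    have hg₂ : g₂ ≫ qH = c' ≫ p₂ := by
      have := congrArg (· ≫ snd QH QH) hy
      simpa [g₂] using this
    have hgg : g₁ ≫ qK = g₂ ≫ qK := by
      rw [← hq, ← Category.assoc, ← Category.assoc, hg₁, hg₂, Category.assoc, Category.assoc]
      congr 1
      exact pullback.condition
    obtain ⟨κ, hκ⟩ := exists_mul_of_comp_eq k qK sqK g₁ g₂ hgg
    refine ⟨T', c', lift (g₁ ≫ qH) (κ ≫ qKb), hc', ?_⟩
    apply pullback.hom_ext
    · rw [Category.assoc, hc1, lift_fst, hg₁]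
    · rw [Category.assoc, hc2, act_pt k qH qKb act hact, ← hκ, hg₂]
  exact IsPullback.of_iso_pullback ⟨hw⟩ (asIso c) hc1 hc2

/-- if `p : G/H ⟶ Y` has kernel pair `(G/H) × (K/H)`, then `G ⟶ G/H ⟶ Y` has kernel pair `G × K`. -/
theorem isPullback_comp_quot {H K G QH Kb Y : Over S} [GrpObj H] [GrpObj K] [GrpObj G]
    (h : H ⟶ K) (k : K ⟶ G) [Mono k] [IsMonHom k]
    (qH : G ⟶ QH) (hqH : IsCovFP qH) (sqH : IsPullback (fst G H) ((G ◁ (h ≫ k)) ≫ μ[G]) qH qH)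
    (qKb : K ⟶ Kb) (hqKb : IsCovFP qKb)
    (act : QH ⊗ Kb ⟶ QH) (hact : (qH ⊗ₘ qKb) ≫ act = (G ◁ k) ≫ μ[G] ≫ qH)
    (p : QH ⟶ Y) (sqp : IsPullback (fst QH Kb) act p p) :
    IsPullback (fst G K) ((G ◁ k) ≫ μ[G]) (qH ≫ p) (qH ≫ p) := by
  have hw : fst G K ≫ qH ≫ p = ((G ◁ k) ≫ μ[G]) ≫ qH ≫ p := by
    calc fst G K ≫ qH ≫ p = (qH ⊗ₘ qKb) ≫ fst QH Kb ≫ p := by
          rw [← Category.assoc _ (fst QH Kb), tensorHom_fst, Category.assoc]
      _ = (qH ⊗ₘ qKb) ≫ act ≫ p := by rw [sqp.w]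
      _ = ((qH ⊗ₘ qKb) ≫ act) ≫ p := (Category.assoc _ _ _).symm
      _ = ((G ◁ k) ≫ μ[G] ≫ qH) ≫ p := by rw [hact]
      _ = ((G ◁ k) ≫ μ[G]) ≫ qH ≫ p := by simp only [Category.assoc]
  let c : G ⊗ K ⟶ pullback (qH ≫ p) (qH ≫ p) := pullback.lift (fst G K) ((G ◁ k) ≫ μ[G]) hw
  have hc1 : c ≫ pullback.fst (qH ≫ p) (qH ≫ p) = fst G K := pullback.lift_fst _ _ _
  have hc2 : c ≫ pullback.snd (qH ≫ p) (qH ≫ p) = (G ◁ k) ≫ μ[G] := pullback.lift_snd _ _ _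
  have e4 : ∀ {Z : Over S} (z : Z ⟶ G ⊗ K),
      z ≫ (G ◁ k) ≫ μ[G] = (z ≫ fst G K) * ((z ≫ snd G K) ≫ k) := by
    intro Z z
    have hz : z = lift (z ≫ fst G K) (z ≫ snd G K) := by
      apply CartesianMonoidalCategory.hom_ext <;> simp
    rw [← lift_whiskerLeft_mul, ← hz]
  have hmono : Mono c := by
    refine ⟨fun {Z} w₁ w₂ h12 => ?_⟩
    have hg : w₁ ≫ fst G K = w₂ ≫ fst G K := by
      have := congrArg (· ≫ pullback.fst (qH ≫ p) (qH ≫ p)) h12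
      simpa [hc1] using this
    have hm : w₁ ≫ (G ◁ k) ≫ μ[G] = w₂ ≫ (G ◁ k) ≫ μ[G] := by
      have := congrArg (· ≫ pullback.snd (qH ≫ p) (qH ≫ p)) h12
      simpa [hc2] using this
    rw [e4 w₁, e4 w₂, hg] at hm
    have hk : (w₁ ≫ snd G K) ≫ k = (w₂ ≫ snd G K) ≫ k := mul_left_cancel hm
    apply CartesianMonoidalCategory.hom_ext
    · exact hg
    · exact (cancel_mono k).mp hk
  have hiso : IsIso c := by
    refine isIso_of_mono_of_local_sectionFP c ?_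
    let p₁ := pullback.fst (qH ≫ p) (qH ≫ p)
    let p₂ := pullback.snd (qH ≫ p) (qH ≫ p)
    have hpp : (p₁ ≫ qH) ≫ p = (p₂ ≫ qH) ≫ p := by
      rw [Category.assoc, Category.assoc]
      exact pullback.condition
    let l := sqp.lift (p₁ ≫ qH) (p₂ ≫ qH) hpp
    have hl1 : l ≫ fst QH Kb = p₁ ≫ qH := sqp.lift_fst _ _ _
    have hl2 : l ≫ act = p₂ ≫ qH := sqp.lift_snd _ _ _
    obtain ⟨T', c', κ, hc', hκ⟩ := hqKb.exists_local_lift (l ≫ snd QH Kb)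
    have hl : c' ≫ l = lift ((c' ≫ p₁) ≫ qH) (κ ≫ qKb) := by
      apply CartesianMonoidalCategory.hom_ext
      · rw [lift_fst, Category.assoc, hl1, Category.assoc]
      · rw [lift_snd, Category.assoc, hκ]
    have hπeq : ((c' ≫ p₁) * (κ ≫ k)) ≫ qH = (c' ≫ p₂) ≫ qH := by
      rw [← act_pt k qH qKb act hact, ← hl, Category.assoc, hl2, Category.assoc]
    obtain ⟨t, ht⟩ := exists_mul_of_comp_eq (h ≫ k) qH sqH _ _ hπeq
    refine ⟨T', c', lift (c' ≫ p₁) (κ * (t ≫ h)), hc', ?_⟩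
    apply pullback.hom_ext
    · rw [Category.assoc, hc1, lift_fst]
    · rw [Category.assoc, hc2, lift_whiskerLeft_mul, MonObj.mul_comp, Category.assoc t h k,
        ← _root_.mul_assoc, ← ht]
  exact IsPullback.of_iso_pullback ⟨hw⟩ (asIso c) hc1 hc2

end Groth.Agent.H40
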