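import Groth.Agent.H40.AssocBundleMain
import Groth.Agent.H40.QuotAction
import Groth.Agent.H40.ExactSeqTors
import Groth.Agent.H40.ThirdIso

/-!
# Quotient torsors: `E/G ⟶ Y` is an `H`-torsor when `E ⟶ A` is an `H`-torsor and `A ⟶ Y` a `G`-torsor
-/

set_option autoImplicit false
universe u
open CategoryTheory CategoryTheory.Limits MonoidalCategory CartesianMonoidalCategory MonObj GrpObj
  AlgebraicGeometry

namespace Groth.Agent.H40.DoubleQuot

open Groth.Agent.H40 Groth.Agent.H40.QuotAction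

variable {S : Scheme.{u}}

section General
variable {G H E A Y Z : Over S} [GrpObj G] [GrpObj H]

/-- Let `G` and `H` act on `E` by commuting actions, `α : E ⟶ A` be `G`-equivariant and an
`H`-pseudo-torsor, `A ⟶ Y` a `G`-pseudo-torsor, and `p : E ⟶ Z` a `G`-torsor. Then `H` acts on `Z`
and `Z ⟶ Y` is an `H`-pseudo-torsor. -/
theorem exists_quot_torsor (aE : AlgGrp.Action G E) (cE : AlgGrp.Action H E)
    (hcomm : ∀ {T : Over S} (g : T ⟶ G) (h : T ⟶ H) (e : T ⟶ E),
      psmul cE h (psmul aE g e) = psmul aE g (psmul cE h e))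
    (aA : AlgGrp.Action G A) (πA : A ⟶ Y) (hA : IsPullback aA.act (snd G A) πA πA)
    (α : E ⟶ A)
    (hαG : ∀ {T : Over S} (g : T ⟶ G) (e : T ⟶ E), psmul aE g e ≫ α = psmul aA g (e ≫ α))
    (hαH : ∀ {T : Over S} (h : T ⟶ H) (e : T ⟶ E), psmul cE h e ≫ α = e ≫ α)
    (hT : ∀ {T : Over S} (e e' : T ⟶ E), e ≫ α = e' ≫ α → ∃ h : T ⟶ H, psmul cE h e' = e)
    (hF : ∀ {T : Over S} (h h' : T ⟶ H) (e : T ⟶ E), psmul cE h e = psmul cE h' e → h = h')
    (p : E ⟶ Z) (hp : IsPullback aE.act (snd G E) p p)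
    (hlocp : NonAbH1.IsLocallyTrivialFor Scheme.fpqcPrecoverage (Over.mk p.left : Over Z.left))
    (r : Z ⟶ Y) (hpr : p ≫ r = α ≫ πA) :
    ∃ cbar : AlgGrp.Action H Z,
      (∀ {T : Over S} (h : T ⟶ H) (e : T ⟶ E), psmul cbar h (e ≫ p) = psmul cE h e ≫ p) ∧
      IsPullback cbar.act (snd H Z) r r := by
  obtain ⟨cbar, hcbar⟩ := exists_action_of_commute aE p hp hlocp cE hcomm
  refine ⟨cbar, hcbar, ?_⟩
  have hpinv : ∀ {T : Over S} (g : T ⟶ G) (e : T ⟶ E), psmul aE g e ≫ p = e ≫ p :=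
    fun g e => psmul_comp_of_isPullback aE p hp g e
  apply isPullback_of_commute p hlocp cE cbar hcbar r
  · intro T h e
    rw [hpr, ← Category.assoc, ← Category.assoc, hαH]
  · intro T e e' hee
    have h1 : (e ≫ α) ≫ πA = (e' ≫ α) ≫ πA := by
      rw [Category.assoc, Category.assoc, ← hpr, hee]
    obtain ⟨g, hg⟩ := exists_psmul_of_isPullback aA πA hA _ _ h1
    obtain ⟨h, hh⟩ := hT e (psmul aE g e') (by rw [hαG, hg])
    refine ⟨h, ?_⟩
    rw [← hpinv g, ← hcomm, hh]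
  · intro T h h' e hh
    obtain ⟨g, hg⟩ := exists_psmul_of_isPullback aE p hp _ _ hh
    have h1 := congr($hg ≫ α)
    rw [hαG, hαH, hαH] at h1
    have hg1 : g = 1 := by
      apply eq_of_psmul_eq_of_isPullback aA πA hA g 1 (e ≫ α)
      rw [h1, one_psmul]
    rw [hg1, one_psmul] at hg
    exact (hF _ _ _ hg).symm

end General

section Groups
variable {G H Q : Over S} [GrpObj G] [GrpObj H]

lemma psmul_invRight_restrict (i : H ⟶ G) [IsMonHom i] {T : Over S} (h : T ⟶ H) (x : T ⟶ G) :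
    psmul ((AlgGrp.Action.invRight G).restrict i) h x = x * (h ≫ i)⁻¹ := by
  rw [psmul_restrict, psmul_def, AlgGrp.Action.lift_invRight_act]

/-- `G ⟶ G/H` is a torsor for the action of `H` by right translation (through the inverse). -/
lemma isPullback_invRight_of_quot (i : H ⟶ G) [IsMonHom i] [Mono i] (π : G ⟶ Q)
    (hsq : IsPullback (fst G H) ((G ◁ i) ≫ μ[G]) π π) :
    IsPullback ((AlgGrp.Action.invRight G).restrict i).act (snd H G) π π := by
  have hm : ∀ {T : Over S} (z : T ⟶ G ⊗ H),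
      z ≫ (G ◁ i) ≫ μ[G] = (z ≫ fst G H) * ((z ≫ snd G H) ≫ i) := by
    intro T z
    have := lift_whiskerLeft_mul i (z ≫ fst G H) (z ≫ snd G H)
    rwa [← eq_lift_fst_snd] at this
  have hinv : ∀ {T : Over S} (x : T ⟶ G) (h : T ⟶ H), (x * (h ≫ i)) ≫ π = x ≫ π := by
    intro T x h
    have h1 := hm (lift x h)
    rw [lift_fst, lift_snd] at h1
    have h2 : (lift x h ≫ ((G ◁ i) ≫ μ[G])) ≫ π = x ≫ π := by
      rw [Category.assoc, ← hsq.w, ← Category.assoc, lift_fst]
    rw [← h1]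
    exact h2
  apply isPullback_of_psmul
  · apply AlgGrp.Action.hom_ext_lift₂
    intro T h x
    rw [← Category.assoc, ← psmul_def, psmul_invRight_restrict, ← Category.assoc, lift_snd,
      ← GrpObj.inv_comp, hinv]
  · intro T x x' hxx
    have h1 := hm (hsq.lift x x' hxx)
    rw [hsq.lift_snd, hsq.lift_fst] at h1
    refine ⟨hsq.lift x x' hxx ≫ snd G H, ?_⟩
    generalize hsq.lift x x' hxx ≫ snd G H = hh at h1
    rw [psmul_invRight_restrict, h1, mul_inv_cancel_right]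
  · intro T h h' x hh
    rw [psmul_invRight_restrict, psmul_invRight_restrict] at hh
    have h1 : (h ≫ i)⁻¹ = (h' ≫ i)⁻¹ := mul_left_cancel hh
    exact (cancel_mono i).1 (inv_inj.1 h1)

end Groups

end Groth.Agent.H40.DoubleQuot
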