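import Groth.Agent.H40.PushUniq
import Groth.Prelude.Def_NonAbH2

/-!
# Exact sequences of group schemes: the right translation torsor `G ⟶ G''`
-/

set_option autoImplicit false
set_option backward.isDefEq.respectTransparency.types false
universe u
open CategoryTheory CategoryTheory.Limits MonoidalCategory CartesianMonoidalCategory MonObj GrpObj
  AlgebraicGeometry

namespace Groth.Agent.H40

variable {S : Scheme.{u}}

section
variable {G X Y : Over S} [GrpObj G]

lemma isEquivariant_of_psmul (a : AlgGrp.Action G X) (b : AlgGrp.Action G Y) (f : X ⟶ Y)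
    (h : ∀ {T : Over S} (g : T ⟶ G) (x : T ⟶ X), psmul a g x ≫ f = psmul b g (x ≫ f)) :
    AlgGrp.Action.IsEquivariant a b f := by
  have := h (fst G X) (snd G X)
  rw [psmul_def, psmul_def, lift_fst_snd, Category.id_comp] at this
  change a.act ≫ f = (G ◁ f) ≫ b.act
  rw [this]
  congr 1

end

section
variable {G G' G'' : Over S} [GrpObj G] [GrpObj G'] [GrpObj G'']

/-- `G'` acting on `G` through `u` by right translation by inverses. -/
noncomputable def rAct (u : G' ⟶ G) [IsMonHom u] : AlgGrp.Action G' G :=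
  (AlgGrp.Action.invRight G).restrict u

lemma psmul_rAct (u : G' ⟶ G) [IsMonHom u] {T : Over S} (g' : T ⟶ G') (g : T ⟶ G) :
    psmul (rAct u) g' g = g * (g' ≫ u)⁻¹ := by
  rw [psmul_def, rAct, AlgGrp.Action.lift_restrict_act, AlgGrp.Action.lift_invRight_act]

/-- points of the cartesian square of an exact sequence. -/
lemma exists_of_exact (u : G' ⟶ G) (v : G ⟶ G'')
    (hsq : IsPullback (fst G G') ((G ◁ u) ≫ μ[G]) v v) {T : Over S} (x y : T ⟶ G)
    (hxy : x ≫ v = y ≫ v) : ∃ g' : T ⟶ G', x * (g' ≫ u) = y := by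
  refine ⟨hsq.lift x y hxy ≫ snd G G', ?_⟩
  have e : hsq.lift x y hxy = lift x (hsq.lift x y hxy ≫ snd G G') := by
    apply CartesianMonoidalCategory.hom_ext
    · rw [lift_fst, hsq.lift_fst]
    · rw [lift_snd]
  have h2 := hsq.lift_snd x y hxy
  calc x * ((hsq.lift x y hxy ≫ snd G G') ≫ u)
      = lift x ((hsq.lift x y hxy ≫ snd G G') ≫ u) ≫ μ[G] := Hom.mul_def _ _
    _ = (lift x (hsq.lift x y hxy ≫ snd G G') ≫ (G ◁ u)) ≫ μ[G] := by rw [lift_whiskerLeft]
    _ = (hsq.lift x y hxy ≫ (G ◁ u)) ≫ μ[G] := by rw [← e]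
    _ = y := by rw [Category.assoc]; exact h2

lemma eq_of_exact (u : G' ⟶ G) (v : G ⟶ G'')
    (hsq : IsPullback (fst G G') ((G ◁ u) ≫ μ[G]) v v) {T : Over S} (g₁ g₂ : T ⟶ G')
    (h : g₁ ≫ u = g₂ ≫ u) : g₁ = g₂ := by
  have e : lift (1 : T ⟶ G) g₁ = lift (1 : T ⟶ G) g₂ := by
    apply hsq.hom_ext
    · rw [lift_fst, lift_fst]
    · rw [← Category.assoc, ← Category.assoc, lift_whiskerLeft, lift_whiskerLeft, h]
  have := congr($e ≫ snd G G')
  simpa using this

lemma isPullback_rAct (u : G' ⟶ G) [IsMonHom u] (v : G ⟶ G'') [IsMonHom v] (huv : u ≫ v = 1)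
    (hsq : IsPullback (fst G G') ((G ◁ u) ≫ μ[G]) v v) :
    IsPullback (rAct u).act (snd G' G) v v := by
  have hinv : ∀ {T : Over S} (g' : T ⟶ G') (g : T ⟶ G), psmul (rAct u) g' g ≫ v = g ≫ v := by
    intro T g' g
    rw [psmul_rAct, MonObj.mul_comp, GrpObj.inv_comp, Category.assoc, huv, MonObj.comp_one,
      inv_one, _root_.mul_one]
  apply isPullback_of_psmul
  · have := hinv (fst G' G) (snd G' G)
    rwa [psmul_def, lift_fst_snd, Category.id_comp] at this
  · intro T x x' hxx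
    obtain ⟨g', hg'⟩ := exists_of_exact u v hsq x x' hxx
    refine ⟨g', ?_⟩
    rw [psmul_rAct, ← hg', mul_inv_cancel_right]
  · intro T g g' x' hgg
    rw [psmul_rAct, psmul_rAct, mul_right_inj, inv_inj] at hgg
    exact eq_of_exact u v hsq g g' hgg

end

end Groth.Agent.H40
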