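import Groth.Agent.H40.ExactSeqTors
import Groth.Agent.H40.Torsor
import Groth.Agent.H40.BalProd

/-!
# Extensions by a commutative group: centrality and commutativity criteria
-/

set_option autoImplicit false
set_option backward.isDefEq.respectTransparency.types false
universe u
open CategoryTheory CategoryTheory.Limits MonoidalCategory CartesianMonoidalCategory MonObj GrpObj
  AlgebraicGeometry

namespace Groth.Agent.H40

lemma comm_aux {Γ : Type*} [Group Γ] (a b h k : Γ) (hh : ∀ z, h * z = z * h)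
    (hk : ∀ z, k * z = z * k) :
    (a * h) * (b * k) * (a * h)⁻¹ * (b * k)⁻¹ = a * b * a⁻¹ * b⁻¹ := by
  have h1 : h * (b * k) * h⁻¹ = b * k := by rw [hh, mul_inv_cancel_right]
  have h2 : k * a⁻¹ * k⁻¹ = a⁻¹ := by rw [hk, mul_inv_cancel_right]
  calc (a * h) * (b * k) * (a * h)⁻¹ * (b * k)⁻¹
      = a * (h * (b * k) * h⁻¹) * a⁻¹ * (b * k)⁻¹ := by group
    _ = a * (b * k) * a⁻¹ * (b * k)⁻¹ := by rw [h1]
    _ = a * b * (k * a⁻¹ * k⁻¹) * b⁻¹ := by group
    _ = a * b * a⁻¹ * b⁻¹ := by rw [h2]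

lemma conj_aux {Γ : Type*} [Group Γ] (x h g : Γ) (hg : h * g = g * h) :
    (x * h) * g * (x * h)⁻¹ = x * g * x⁻¹ := by
  have h1 : h * g * h⁻¹ = g := by rw [hg, mul_inv_cancel_right]
  calc (x * h) * g * (x * h)⁻¹ = x * (h * g * h⁻¹) * x⁻¹ := by group
    _ = x * g * x⁻¹ := by rw [h1]

variable {S : Scheme.{u}} {P G E : Over S} [GrpObj P] [GrpObj G] [GrpObj E]

lemma exists_kernel_pt (u : G ⟶ E) (v : E ⟶ P) [IsMonHom v]
    (hsq : IsPullback (fst E G) ((E ◁ u) ≫ μ[E]) v v) {T : Over S} (y : T ⟶ E)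
    (hy : y ≫ v = 1) : ∃ g : T ⟶ G, g ≫ u = y := by
  obtain ⟨g, hg⟩ := exists_of_exact u v hsq (1 : T ⟶ E) y (by rw [hy, MonObj.one_comp])
  exact ⟨g, by rw [← hg, _root_.one_mul]⟩

/-- the kernel of an extension is central as soon as pointed maps `P × G ⟶ G` are trivial. -/
theorem central_of_exact [IsCommMonObj G] (u : G ⟶ E) [IsMonHom u] (v : E ⟶ P) [IsMonHom v]
    (huv : u ≫ v = 1) (hsq : IsPullback (fst E G) ((E ◁ u) ≫ μ[E]) v v)
    (hloc : NonAbH1.IsLocallyTrivialFor Scheme.fpqcPrecoverage (Over.mk v.left : Over P.left))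
    (hPG : ∀ f : P ⊗ G ⟶ G, lift (𝟙 P) (toUnit P ≫ η[G]) ≫ f = 1 →
      lift (toUnit G ≫ η[P]) (𝟙 G) ≫ f = 1 → f = 1) :
    ∀ (T : Over S) (g : T ⟶ G) (x : T ⟶ E), (g ≫ u) * x = x * (g ≫ u) := by
  obtain ⟨c, hc⟩ := exists_kernel_pt u v hsq (fst E G * (snd E G ≫ u) * (fst E G)⁻¹) (by
    rw [MonObj.mul_comp, MonObj.mul_comp, GrpObj.inv_comp, Category.assoc, huv, MonObj.comp_one,
      _root_.mul_one, _root_.mul_inv_cancel])
  have hc' : ∀ {T : Over S} (x : T ⟶ E) (g : T ⟶ G),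
      (lift x g ≫ c) ≫ u = x * (g ≫ u) * x⁻¹ := by
    intro T x g
    rw [Category.assoc, hc, MonObj.comp_mul, MonObj.comp_mul, GrpObj.comp_inv, lift_fst,
      ← Category.assoc, lift_snd]
  have hepi : Epi v := epi_of_locallyTrivial v hloc
  have hπloc : NonAbH1.IsLocallyTrivialFor Scheme.fpqcPrecoverage
      (Over.mk (v ▷ G).left : Over (P ⊗ G).left) :=
    isLocallyTrivialFor_of_isPullback ((isPullback_whiskerRight_fst v G).flip.map (Over.forget S))
      hloc
  obtain ⟨cbar, hcbar, -⟩ := existsUnique_desc_over_of_locallyTrivial (v ▷ G) hπloc c (by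
    intro Z z₁ z₂ h12
    have hs : z₁ ≫ snd E G = z₂ ≫ snd E G := by
      have := congr($h12 ≫ snd P G)
      simpa only [Category.assoc, whiskerRight_snd] using this
    have hf : (z₁ ≫ fst E G) ≫ v = (z₂ ≫ fst E G) ≫ v := by
      have := congr($h12 ≫ fst P G)
      simpa only [Category.assoc, whiskerRight_fst] using this
    obtain ⟨h, hh⟩ := exists_of_exact u v hsq _ _ hf
    apply eq_of_exact u v hsq
    rw [eq_lift_fst_snd z₁, eq_lift_fst_snd z₂, hc', hc', ← hs, ← hh]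
    symm
    apply conj_aux
    rw [← MonObj.mul_comp, ← MonObj.mul_comp, _root_.mul_comm])
  have hone : lift (𝟙 P) (toUnit P ≫ η[G]) ≫ cbar = 1 := by
    rw [← cancel_epi v, MonObj.comp_one, ← Category.assoc, comp_lift, Category.comp_id,
      ← Hom.one_def, MonObj.comp_one]
    have e : lift v (1 : E ⟶ G) = lift (𝟙 E) (1 : E ⟶ G) ≫ (v ▷ G) := by
      rw [lift_whiskerRight, Category.id_comp]
    rw [e, Category.assoc, hcbar]
    apply eq_of_exact u v hsq
    rw [hc', MonObj.one_comp, _root_.mul_one, _root_.mul_inv_cancel]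
  have hone' : lift (toUnit G ≫ η[P]) (𝟙 G) ≫ cbar = 𝟙 G := by
    have e : lift (toUnit G ≫ η[P]) (𝟙 G) = lift (1 : G ⟶ E) (𝟙 G) ≫ (v ▷ G) := by
      rw [lift_whiskerRight, MonObj.one_comp, ← Hom.one_def]
    rw [e, Category.assoc, hcbar]
    apply eq_of_exact u v hsq
    rw [hc', Category.id_comp, _root_.one_mul, inv_one, _root_.mul_one]
  have hf1 : cbar * (snd P G)⁻¹ = 1 := by
    apply hPG
    · rw [MonObj.comp_mul, hone, GrpObj.comp_inv, lift_snd, ← Hom.one_def, inv_one,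
        _root_.mul_one]
    · rw [MonObj.comp_mul, hone', GrpObj.comp_inv, lift_snd, _root_.mul_inv_cancel]
  have hcs : cbar = snd P G := by rwa [mul_inv_eq_one] at hf1
  intro T g x
  have h1 := hc' x g
  rw [← hcbar, hcs, whiskerRight_snd, lift_snd] at h1
  rw [eq_mul_inv_iff_mul_eq] at h1
  exact h1

/-- an extension of a commutative group by a central subgroup is commutative as soon as pointed
maps `P × P ⟶ G` are trivial. -/
theorem comm_of_exact (u : G ⟶ E) [IsMonHom u] (v : E ⟶ P) [IsMonHom v]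
    (hsq : IsPullback (fst E G) ((E ◁ u) ≫ μ[E]) v v)
    (hloc : NonAbH1.IsLocallyTrivialFor Scheme.fpqcPrecoverage (Over.mk v.left : Over P.left))
    (hcentral : ∀ (T : Over S) (g : T ⟶ G) (x : T ⟶ E), (g ≫ u) * x = x * (g ≫ u))
    [IsCommMonObj P]
    (hPP : ∀ f : P ⊗ P ⟶ G, lift (𝟙 P) (toUnit P ≫ η[P]) ≫ f = 1 →
      lift (toUnit P ≫ η[P]) (𝟙 P) ≫ f = 1 → f = 1) : IsCommMonObj E := by
  obtain ⟨κ, hκ⟩ := exists_kernel_pt u v hsq
    (fst E E * snd E E * (fst E E)⁻¹ * (snd E E)⁻¹) (by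
    rw [MonObj.mul_comp, MonObj.mul_comp, MonObj.mul_comp, GrpObj.inv_comp, GrpObj.inv_comp,
      _root_.mul_comm (fst E E ≫ v), mul_inv_cancel_right, _root_.mul_inv_cancel])
  have hκ' : ∀ {T : Over S} (x y : T ⟶ E), (lift x y ≫ κ) ≫ u = x * y * x⁻¹ * y⁻¹ := by
    intro T x y
    rw [Category.assoc, hκ, MonObj.comp_mul, MonObj.comp_mul, MonObj.comp_mul, GrpObj.comp_inv,
      GrpObj.comp_inv, lift_fst, lift_snd]
  have hepi : Epi v := epi_of_locallyTrivial v hloc
  set ρ : E ⊗ E ⟶ P ⊗ P := (v ▷ E) ≫ (P ◁ v) with hρ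
  have hρfst : ρ ≫ fst P P = fst E E ≫ v := by
    rw [hρ, Category.assoc, whiskerLeft_fst, whiskerRight_fst]
  have hρsnd : ρ ≫ snd P P = snd E E ≫ v := by
    rw [hρ, Category.assoc, whiskerLeft_snd, ← Category.assoc, whiskerRight_snd]
  have hρloc : NonAbH1.IsLocallyTrivialFor Scheme.fpqcPrecoverage
      (Over.mk ρ.left : Over (P ⊗ P).left) := by
    have h1 : NonAbH1.IsLocallyTrivialFor Scheme.fpqcPrecoverage
        (Over.mk (v ▷ E).left : Over (P ⊗ E).left) :=
      isLocallyTrivialFor_of_isPullback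
        ((isPullback_whiskerRight_fst v E).flip.map (Over.forget S)) hloc
    have h2 : NonAbH1.IsLocallyTrivialFor Scheme.fpqcPrecoverage
        (Over.mk (P ◁ v).left : Over (P ⊗ P).left) :=
      isLocallyTrivialFor_of_isPullback
        ((isPullback_whiskerLeft_snd v P).flip.map (Over.forget S)) hloc
    exact isLocallyTrivialFor_comp (v ▷ E).left (P ◁ v).left h1 h2
  obtain ⟨κbar, hκbar, -⟩ := existsUnique_desc_over_of_locallyTrivial ρ hρloc κ (by
    intro Z z₁ z₂ h12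
    have hf : (z₁ ≫ fst E E) ≫ v = (z₂ ≫ fst E E) ≫ v := by
      have := congr($h12 ≫ fst P P)
      simpa only [Category.assoc, hρfst] using this
    have hs : (z₁ ≫ snd E E) ≫ v = (z₂ ≫ snd E E) ≫ v := by
      have := congr($h12 ≫ snd P P)
      simpa only [Category.assoc, hρsnd] using this
    obtain ⟨h, hh⟩ := exists_of_exact u v hsq _ _ hf
    obtain ⟨k, hk⟩ := exists_of_exact u v hsq _ _ hs
    apply eq_of_exact u v hsq
    rw [eq_lift_fst_snd z₁, eq_lift_fst_snd z₂, hκ', hκ', ← hh, ← hk]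
    symm
    exact comm_aux _ _ _ _ (hcentral _ h) (hcentral _ k))
  have hone : lift (𝟙 P) (toUnit P ≫ η[P]) ≫ κbar = 1 := by
    rw [← cancel_epi v, MonObj.comp_one, ← Category.assoc, comp_lift, Category.comp_id,
      ← Hom.one_def, MonObj.comp_one]
    have e : lift v (1 : E ⟶ P) = lift (𝟙 E) (1 : E ⟶ E) ≫ ρ := by
      apply CartesianMonoidalCategory.hom_ext
      · rw [lift_fst, Category.assoc, hρfst, ← Category.assoc, lift_fst, Category.id_comp]
      · rw [lift_snd, Category.assoc, hρsnd, ← Category.assoc, lift_snd, MonObj.one_comp]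
    rw [e, Category.assoc, hκbar]
    apply eq_of_exact u v hsq
    rw [hκ', MonObj.one_comp, _root_.mul_one, _root_.mul_inv_cancel, inv_one, _root_.mul_one]
  have hone' : lift (toUnit P ≫ η[P]) (𝟙 P) ≫ κbar = 1 := by
    rw [← cancel_epi v, MonObj.comp_one, ← Category.assoc, comp_lift, Category.comp_id,
      ← Hom.one_def, MonObj.comp_one]
    have e : lift (1 : E ⟶ P) v = lift (1 : E ⟶ E) (𝟙 E) ≫ ρ := by
      apply CartesianMonoidalCategory.hom_ext
      · rw [lift_fst, Category.assoc, hρfst, ← Category.assoc, lift_fst, MonObj.one_comp]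
      · rw [lift_snd, Category.assoc, hρsnd, ← Category.assoc, lift_snd, Category.id_comp]
    rw [e, Category.assoc, hκbar]
    apply eq_of_exact u v hsq
    rw [hκ', MonObj.one_comp, _root_.one_mul, inv_one, _root_.mul_one, _root_.mul_inv_cancel]
  have hκ1 : κ = 1 := by rw [← hκbar, hPP κbar hone hone', MonObj.comp_one]
  rw [isCommMonObj_iff_isMulCommutative]
  refine fun X => ⟨⟨fun f g => ?_⟩⟩
  have := hκ' f g
  rw [hκ1, MonObj.comp_one, MonObj.one_comp] at this
  rw [eq_comm, mul_inv_eq_one, mul_inv_eq_iff_eq_mul] at this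
  exact this

end Groth.Agent.H40
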