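import Groth.Agent.H40.ExtCentral
import Groth.Agent.H40.GrpPts

/-!
# Morphisms of extensions compatible with translations are homomorphisms
-/

set_option autoImplicit false
set_option backward.isDefEq.respectTransparency.types false
universe u
open CategoryTheory CategoryTheory.Limits MonoidalCategory CartesianMonoidalCategory MonObj GrpObj
  AlgebraicGeometry

namespace Groth.Agent.H40

lemma hom_aux {Γ : Type*} [Group Γ] (a b ab p q r : Γ) (hE : b * q = p * b) :
    (ab * q * r) * (b * r)⁻¹ * (a * p)⁻¹ = ab * b⁻¹ * a⁻¹ := by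
  have hq : q = b⁻¹ * p * b := by
    have : b⁻¹ * (b * q) = b⁻¹ * (p * b) := by rw [hE]
    rw [inv_mul_cancel_left] at this
    rw [this, ← _root_.mul_assoc]
  rw [hq]
  group

variable {S : Scheme.{u}} {P G E E' : Over S} [GrpObj P] [GrpObj G] [GrpObj E] [GrpObj E']

theorem isMonHom_of_exact (u : G ⟶ E) [IsMonHom u] (v : E ⟶ P) [IsMonHom v]
    (huv : u ≫ v = 1)
    (hsq : IsPullback (fst E G) ((E ◁ u) ≫ μ[E]) v v)
    (hloc : NonAbH1.IsLocallyTrivialFor Scheme.fpqcPrecoverage (Over.mk v.left : Over P.left))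
    (u' : G ⟶ E') [IsMonHom u'] (v' : E' ⟶ P) [IsMonHom v']
    (hsq' : IsPullback (fst E' G) ((E' ◁ u') ≫ μ[E']) v' v')
    (hPP : ∀ c : P ⊗ P ⟶ G, lift (𝟙 P) (toUnit P ≫ η[P]) ≫ c = 1 →
      lift (toUnit P ≫ η[P]) (𝟙 P) ≫ c = 1 → c = 1)
    (f : E ⟶ E') (hv : f ≫ v' = v) (h1 : η[E] ≫ f = η[E'])
    (hl : ∀ (T : Over S) (g : T ⟶ G) (x : T ⟶ E), ((g ≫ u) * x) ≫ f = (g ≫ u') * (x ≫ f))
    (hr : ∀ (T : Over S) (g : T ⟶ G) (x : T ⟶ E), (x * (g ≫ u)) ≫ f = (x ≫ f) * (g ≫ u')) :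
    IsMonHom f := by
  have hone : ∀ {T : Over S}, (1 : T ⟶ E) ≫ f = 1 := by
    intro T
    rw [Hom.one_def, Category.assoc, h1, ← Hom.one_def]
  obtain ⟨δ, hδ⟩ := exists_kernel_pt u' v' hsq'
    (((fst E E * snd E E) ≫ f) * (snd E E ≫ f)⁻¹ * (fst E E ≫ f)⁻¹) (by
    rw [MonObj.mul_comp, MonObj.mul_comp, GrpObj.inv_comp, GrpObj.inv_comp, Category.assoc,
      Category.assoc, Category.assoc, hv, MonObj.mul_comp, mul_inv_cancel_right,
      _root_.mul_inv_cancel])
  have hδ' : ∀ {T : Over S} (x y : T ⟶ E),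
      (lift x y ≫ δ) ≫ u' = ((x * y) ≫ f) * (y ≫ f)⁻¹ * (x ≫ f)⁻¹ := by
    intro T x y
    rw [Category.assoc, hδ, MonObj.comp_mul, MonObj.comp_mul, GrpObj.comp_inv,
      GrpObj.comp_inv, ← Category.assoc, ← Category.assoc, ← Category.assoc, MonObj.comp_mul,
      lift_fst, lift_snd]
  have hepi : Epi v := epi_of_locallyTrivial v hloc
  set ρ : E ⊗ E ⟶ P ⊗ P := (v ▷ E) ≫ (P ◁ v) with hρ
  have hρfst : ρ ≫ fst P P = fst E E ≫ v := by
    rw [hρ, Category.assoc, whiskerLeft_fst, whiskerRight_fst]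
  have hρsnd : ρ ≫ snd P P = snd E E ≫ v := by
    rw [hρ, Category.assoc, whiskerLeft_snd, ← Category.assoc, whiskerRight_snd]
  have hρloc : NonAbH1.IsLocallyTrivialFor Scheme.fpqcPrecoverage
      (Over.mk ρ.left : Over (P ⊗ P).left) := by
    have h1 : NonAbH1.IsLocallyTrivialFor Scheme.fpqcPrecoverage
        (Over.mk (v ▷ E).left : Over (P ⊗ E).left) :=
      isLocallyTrivialFor_of_isPullback
        ((isPullback_whiskerRight_fst v E).flip.map (Over.forget S)) hloc
    have h2 : NonAbH1.IsLocallyTrivialFor Scheme.fpqcPrecoverage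
        (Over.mk (P ◁ v).left : Over (P ⊗ P).left) :=
      isLocallyTrivialFor_of_isPullback
        ((isPullback_whiskerLeft_snd v P).flip.map (Over.forget S)) hloc
    exact isLocallyTrivialFor_comp (v ▷ E).left (P ◁ v).left h1 h2
  obtain ⟨δbar, hδbar, -⟩ := existsUnique_desc_over_of_locallyTrivial ρ hρloc δ (by
    intro Z z₁ z₂ h12
    have hf : (z₁ ≫ fst E E) ≫ v = (z₂ ≫ fst E E) ≫ v := by
      have := congr($h12 ≫ fst P P)
      simpa only [Category.assoc, hρfst] using this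
    have hs : (z₁ ≫ snd E E) ≫ v = (z₂ ≫ snd E E) ≫ v := by
      have := congr($h12 ≫ snd P P)
      simpa only [Category.assoc, hρsnd] using this
    obtain ⟨h, hh⟩ := exists_of_exact u v hsq _ _ hf
    obtain ⟨k, hk⟩ := exists_of_exact u v hsq _ _ hs
    set x := z₁ ≫ fst E E with hx
    set y := z₁ ≫ snd E E with hy
    -- the conjugate of `h` by `y`
    obtain ⟨h', hh'⟩ := exists_kernel_pt u v hsq (y⁻¹ * (h ≫ u) * y) (by
      rw [MonObj.mul_comp, MonObj.mul_comp, GrpObj.inv_comp, Category.assoc h u v, huv,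
        MonObj.comp_one, _root_.mul_one, _root_.inv_mul_cancel])
    apply eq_of_exact u' v' hsq'
    rw [eq_lift_fst_snd z₁, eq_lift_fst_snd z₂, hδ', hδ', ← hh, ← hk, ← hx, ← hy]
    have e1 : (x * (h ≫ u)) * (y * (k ≫ u)) = x * y * (h' ≫ u) * (k ≫ u) := by
      rw [hh']
      group
    have e2 : y * (h' ≫ u) = (h ≫ u) * y := by
      rw [hh']
      group
    have e3 : (y ≫ f) * (h' ≫ u') = (h ≫ u') * (y ≫ f) := by
      rw [← hr, ← hl, e2]
    rw [e1, hr, hr, hr, hr]
    symm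
    exact hom_aux _ _ _ _ _ _ e3)
  have hu1 : lift (𝟙 P) (toUnit P ≫ η[P]) ≫ δbar = 1 := by
    rw [← cancel_epi v, MonObj.comp_one, ← Category.assoc, comp_lift, Category.comp_id,
      ← Hom.one_def, MonObj.comp_one]
    have e : lift v (1 : E ⟶ P) = lift (𝟙 E) (1 : E ⟶ E) ≫ ρ := by
      apply CartesianMonoidalCategory.hom_ext
      · rw [lift_fst, Category.assoc, hρfst, ← Category.assoc, lift_fst, Category.id_comp]
      · rw [lift_snd, Category.assoc, hρsnd, ← Category.assoc, lift_snd, MonObj.one_comp]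
    rw [e, Category.assoc, hδbar]
    apply eq_of_exact u' v' hsq'
    rw [hδ', MonObj.one_comp u', _root_.mul_one, hone, inv_one, _root_.mul_one,
      _root_.mul_inv_cancel]
  have hu2 : lift (toUnit P ≫ η[P]) (𝟙 P) ≫ δbar = 1 := by
    rw [← cancel_epi v, MonObj.comp_one, ← Category.assoc, comp_lift, Category.comp_id,
      ← Hom.one_def, MonObj.comp_one]
    have e : lift (1 : E ⟶ P) v = lift (1 : E ⟶ E) (𝟙 E) ≫ ρ := by
      apply CartesianMonoidalCategory.hom_ext
      · rw [lift_fst, Category.assoc, hρfst, ← Category.assoc, lift_fst, MonObj.one_comp]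
      · rw [lift_snd, Category.assoc, hρsnd, ← Category.assoc, lift_snd, Category.id_comp]
    rw [e, Category.assoc, hδbar]
    apply eq_of_exact u' v' hsq'
    rw [hδ', MonObj.one_comp u', _root_.one_mul, hone, inv_one, _root_.mul_one,
      _root_.mul_inv_cancel]
  have hδ1 : δ = 1 := by rw [← hδbar, hPP δbar hu1 hu2, MonObj.comp_one]
  apply isMonHom_of_points
  · exact hone
  · intro T g g'
    have := hδ' g g'
    rw [hδ1, MonObj.comp_one, MonObj.one_comp u', eq_comm, mul_inv_eq_one,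
      mul_inv_eq_iff_eq_mul] at this
    exact this

end Groth.Agent.H40
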