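import Groth.Prelude.Def_CGrpSh
import Mathlib.Algebra.Homology.DerivedCategory.Ext.Basic

set_option autoImplicit false
universe u

open CategoryTheory AlgebraicGeometry MonoidalCategory CartesianMonoidalCategory MonObj Opposite

namespace Groth.Agent.H40.ExtKill

variable {S : Scheme.{u}} (K : Precoverage Scheme.{u}) [(QuotSh.J K S).Subcanonical]
  (G H : Over S) [GrpObj G] [IsCommMonObj G] [GrpObj H] [IsCommMonObj H]

theorem nsmul_id_pts_eq_zero (m : ℕ) (hG : ∀ (T : Over S) (g : T ⟶ G), g ^ m = 1) :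
    m • 𝟙 (CGrpSh.pts K G) = 0 := by
  apply Sheaf.hom_ext
  apply NatTrans.ext
  funext T
  apply AddCommGrpCat.ext
  intro x
  have e1 : (m • 𝟙 (CGrpSh.pts K G)).hom = m • (𝟙 (CGrpSh.pts K G) : CGrpSh.pts K G ⟶ _).hom := rfl
  rw [e1, NatTrans.app_nsmul]
  change m • x = 0
  apply ULift.ext
  change m • x.down = 0
  have := hG (unop T) x.down.toMul
  apply Additive.toMul.injective
  rw [toMul_nsmul]
  exact this

theorem nsmul_ext_eq_zero (m : ℕ) (hG : ∀ (T : Over S) (g : T ⟶ G), g ^ m = 1) (n : ℕ)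
    (x : CGrpSh.ExtS K G H n) : m • x = 0 := by
  have h0 := nsmul_id_pts_eq_zero K G m hG
  have h1 : x = Abelian.Ext.bilinearComp _ _ _ 0 n n (zero_add n)
      (Abelian.Ext.mk₀ (𝟙 (CGrpSh.pts K G))) x := by
    simp
  have h2 : Abelian.Ext.mk₀ (m • 𝟙 (CGrpSh.pts K G)) = m • Abelian.Ext.mk₀ (𝟙 (CGrpSh.pts K G)) :=
    map_nsmul (Abelian.Ext.addEquiv₀ (X := CGrpSh.pts K G) (Y := CGrpSh.pts K G)).symm _ _
  rw [h1, ← AddMonoidHom.nsmul_apply, ← map_nsmul, ← h2, h0, Abelian.Ext.mk₀_zero, map_zero]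
  rfl

end Groth.Agent.H40.ExtKill
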