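import Groth.Agent.H40.AssocBundleMain
import Groth.Agent.H40.QuotAction
import Groth.Agent.H40.ExactSeqTors

/-!
# The tower `X ⟶ X/N ⟶ Y` of a `G`-torsor `X ⟶ Y` for an extension `1 → N → G → Q → 1`

`X/N` is constructed as the associated bundle `X ×^G Q` (this needs `X × Q ⟶ X` affine).
-/

set_option autoImplicit false
universe u
open CategoryTheory CategoryTheory.Limits MonoidalCategory CartesianMonoidalCategory MonObj GrpObj
  AlgebraicGeometry

namespace Groth.Agent.H40.ExtTorsor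

open Groth.Agent.H40 Groth.Agent.H40.AssocBundle Groth.Agent.H40.QuotAction

variable {S : Scheme.{u}} {G N Q X Y : Over S} [GrpObj G] [GrpObj N] [GrpObj Q]

/-- `G` acting on `Q` through `q` and left translation. -/
noncomputable abbrev bQ (q : G ⟶ Q) [IsMonHom q] : AlgGrp.Action G Q :=
  (NonAbH1.trivialAction Q).restrict q

lemma psmul_bQ (q : G ⟶ Q) [IsMonHom q] {T : Over S} (g : T ⟶ G) (c : T ⟶ Q) :
    psmul (bQ q) g c = (g ≫ q) * c := by
  rw [psmul_restrict, psmul_trivialAction]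

/-- `Q` acting on `X × Q` by `h • (x, c) = (x, c h⁻¹)`. -/
noncomputable abbrev cQ (X Q : Over S) [GrpObj Q] : AlgGrp.Action Q (X ⊗ Q) :=
  (AlgGrp.Action.trivial Q X).prod (AlgGrp.Action.invRight Q)

lemma psmul_cQ_fst {T : Over S} (h : T ⟶ Q) (t : T ⟶ X ⊗ Q) :
    psmul (cQ X Q) h t ≫ fst X Q = t ≫ fst X Q := by
  rw [psmul_prod_fst, psmul_def, AlgGrp.Action.lift_trivial_act]

lemma psmul_cQ_snd {T : Over S} (h : T ⟶ Q) (t : T ⟶ X ⊗ Q) :
    psmul (cQ X Q) h t ≫ snd X Q = (t ≫ snd X Q) * h⁻¹ := by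
  rw [psmul_prod_snd, psmul_def, AlgGrp.Action.lift_invRight_act]

/-- the tower of torsors. -/
theorem exists_tower (iN : N ⟶ G) [IsMonHom iN] (q : G ⟶ Q) [IsMonHom q]
    (hker : AlgGrp.IsKernel iN q)
    (hq : NonAbH1.IsLocallyTrivialFor Scheme.fpqcPrecoverage (Over.mk q.left : Over Q.left))
    (a : AlgGrp.Action G X) (φ : X ⟶ Y) (hcart : IsPullback a.act (snd G X) φ φ)
    (hloc : NonAbH1.IsLocallyTrivialFor Scheme.fpqcPrecoverage (Over.mk φ.left : Over Y.left))
    [Surjective φ.left] [Flat φ.left] [QuasiCompact φ.left] [IsAffineHom (fst X Q).left] :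
    ∃ (P : Over S) (π : X ⟶ P) (r : P ⟶ Y) (cbar : AlgGrp.Action Q P), π ≫ r = φ ∧
      IsPullback (a.restrict iN).act (snd N X) π π ∧
      NonAbH1.IsLocallyTrivialFor Scheme.fpqcPrecoverage (Over.mk π.left : Over P.left) ∧
      IsPullback cbar.act (snd Q P) r r ∧
      NonAbH1.IsLocallyTrivialFor Scheme.fpqcPrecoverage (Over.mk r.left : Over Y.left) ∧
      ∀ {T : Over S} (g : T ⟶ G) (x : T ⟶ X), psmul a g x ≫ π = psmul cbar (g ≫ q) (x ≫ π) := by
  obtain ⟨P, p, r, hpr, hpb, htors⟩ := exists_assocBundle a φ hcart (bQ q)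
  have hlocp : NonAbH1.IsLocallyTrivialFor Scheme.fpqcPrecoverage
      (Over.mk p.left : Over P.left) :=
    isLocallyTrivialFor_of_isPullback (hpb.map (Over.forget S)) hloc
  -- invariance of `p`
  have hpinv : ∀ {T : Over S} (g : T ⟶ G) (t : T ⟶ X ⊗ Q),
      psmul (a.prod (bQ q)) g t ≫ p = t ≫ p := fun g t =>
    psmul_comp_of_isPullback (a.prod (bQ q)) p htors g t
  have hcomm : ∀ {T : Over S} (g : T ⟶ G) (h : T ⟶ Q) (e : T ⟶ X ⊗ Q),
      psmul (cQ X Q) h (psmul (a.prod (bQ q)) g e) =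
        psmul (a.prod (bQ q)) g (psmul (cQ X Q) h e) := by
    intro T g h e
    apply CartesianMonoidalCategory.hom_ext
    · rw [psmul_cQ_fst, psmul_prod_fst, psmul_prod_fst, psmul_cQ_fst]
    · rw [psmul_cQ_snd, psmul_prod_snd, psmul_prod_snd, psmul_cQ_snd, psmul_bQ, psmul_bQ,
        _root_.mul_assoc]
  obtain ⟨cbar, hcbar⟩ := exists_action_of_commute (a.prod (bQ q)) p htors hlocp (cQ X Q) hcomm
  have hrtors : IsPullback cbar.act (snd Q P) r r := by
    apply isPullback_of_commute p hlocp (cQ X Q) cbar hcbar r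
    · intro T h e
      rw [hpr, ← Category.assoc, ← Category.assoc, psmul_cQ_fst]
    · intro T e e' hee
      have h1 : (e ≫ fst X Q) ≫ φ = (e' ≫ fst X Q) ≫ φ := by
        rw [Category.assoc, Category.assoc, ← hpr, hee]
      obtain ⟨g, hg⟩ := exists_psmul_of_isPullback a φ hcart _ _ h1
      refine ⟨(e ≫ snd X Q)⁻¹ * (g ≫ q) * (e' ≫ snd X Q), ?_⟩
      rw [← hpinv g]
      congr 1
      apply CartesianMonoidalCategory.hom_ext
      · rw [psmul_prod_fst, psmul_cQ_fst, hg]
      · rw [psmul_prod_snd, psmul_cQ_snd, psmul_bQ]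
        group
    · intro T h h' e hh
      obtain ⟨g, hg⟩ := exists_psmul_of_isPullback (a.prod (bQ q)) p htors _ _ hh
      have h1 := congr($hg ≫ fst X Q)
      rw [psmul_prod_fst, psmul_cQ_fst, psmul_cQ_fst] at h1
      have hg1 : g = 1 := by
        apply eq_of_psmul_eq_of_isPullback a φ hcart g 1 (e ≫ fst X Q)
        rw [h1, one_psmul]
      have h2 := congr($hg ≫ snd X Q)
      rw [psmul_prod_snd, psmul_cQ_snd, psmul_cQ_snd, psmul_bQ, hg1, MonObj.one_comp,
        _root_.one_mul] at h2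
      have h3 : h'⁻¹ = h⁻¹ := mul_left_cancel h2
      exact (inv_inj.1 h3).symm
  -- the map `π`
  let π : X ⟶ P := lift (𝟙 X) (toUnit X ≫ η[Q]) ≫ p
  have hπpt : ∀ {T : Over S} (x : T ⟶ X), x ≫ π = lift x (1 : T ⟶ Q) ≫ p := by
    intro T x
    have e1 : x ≫ lift (𝟙 X) (toUnit X ≫ η[Q]) = lift x (1 : T ⟶ Q) := by
      rw [comp_lift, Category.comp_id, ← Category.assoc, Hom.one_def,
        toUnit_unique (x ≫ toUnit X) (toUnit T)]
    rw [← e1, Category.assoc]
  have hπr : π ≫ r = φ := by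
    change (lift (𝟙 X) (toUnit X ≫ η[Q]) ≫ p) ≫ r = φ
    rw [Category.assoc, hpr, ← Category.assoc, lift_fst, Category.id_comp]
  -- translation of `(x, 1)`
  have htr : ∀ {T : Over S} (g : T ⟶ G) (x : T ⟶ X) (c : T ⟶ Q),
      psmul (a.prod (bQ q)) g (lift x c) = lift (psmul a g x) ((g ≫ q) * c) := by
    intro T g x c
    apply CartesianMonoidalCategory.hom_ext
    · rw [psmul_prod_fst, lift_fst, lift_fst]
    · rw [psmul_prod_snd, lift_snd, lift_snd, psmul_bQ]
  have hiNq : ∀ {T : Over S} (n : T ⟶ N), (n ≫ iN) ≫ q = 1 := by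
    intro T n
    rw [Category.assoc, hker.w, ← Category.assoc, Hom.one_def, toUnit_unique (n ≫ toUnit N)]
  have hequiv : ∀ {T : Over S} (g : T ⟶ G) (x : T ⟶ X),
      psmul a g x ≫ π = psmul cbar (g ≫ q) (x ≫ π) := by
    intro T g x
    rw [hπpt, hπpt, hcbar, ← hpinv g (psmul (cQ X Q) (g ≫ q) (lift x 1))]
    congr 1
    apply CartesianMonoidalCategory.hom_ext
    · rw [lift_fst, psmul_prod_fst, psmul_cQ_fst, lift_fst]
    · rw [lift_snd, psmul_prod_snd, psmul_cQ_snd, lift_snd, psmul_bQ, _root_.one_mul,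
        mul_inv_cancel]
  have hNtors : IsPullback (a.restrict iN).act (snd N X) π π := by
    have hinv : ∀ {T : Over S} (n : T ⟶ N) (x : T ⟶ X),
        psmul (a.restrict iN) n x ≫ π = x ≫ π := by
      intro T n x
      rw [psmul_restrict, hequiv, hiNq, hπpt, hcbar]
      congr 1
      apply CartesianMonoidalCategory.hom_ext
      · rw [psmul_cQ_fst]
      · rw [psmul_cQ_snd, lift_snd, inv_one, _root_.mul_one]
    apply isPullback_of_psmul
    · have := hinv (fst N X) (snd N X)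
      rwa [psmul_def, lift_fst_snd, Category.id_comp] at this
    · intro T x x' hxx
      rw [hπpt, hπpt] at hxx
      obtain ⟨g, hg⟩ := exists_psmul_of_isPullback (a.prod (bQ q)) p htors _ _ hxx
      rw [htr] at hg
      have h1 := congr($hg ≫ fst X Q)
      rw [lift_fst, lift_fst] at h1
      have h2 := congr($hg ≫ snd X Q)
      rw [lift_snd, lift_snd, _root_.mul_one] at h2
      refine ⟨hker.lift g (toUnit T) (by rw [h2, Hom.one_def]), ?_⟩
      rw [psmul_restrict, hker.lift_fst, h1]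
    · intro T n n' x hnn
      rw [psmul_restrict, psmul_restrict] at hnn
      have := eq_of_psmul_eq_of_isPullback a φ hcart _ _ x hnn
      exact hker.hom_ext this (toUnit_unique _ _)
  -- local triviality of `π`
  have hlocπ : NonAbH1.IsLocallyTrivialFor Scheme.fpqcPrecoverage
      (Over.mk π.left : Over P.left) := by
    have hXq : NonAbH1.IsLocallyTrivialFor Scheme.fpqcPrecoverage
        (Over.mk (X ◁ q).left : Over (X ⊗ Q).left) :=
      isLocallyTrivialFor_of_isPullback ((isPullback_whiskerLeft (G := X) q).map (Over.forget S)) hq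
    have hv := isLocallyTrivialFor_comp (X ◁ q).left p.left hXq hlocp
    let m : X ⊗ G ⟶ X := psmul a (snd X G)⁻¹ (fst X G)
    have hm : m ≫ π = (X ◁ q) ≫ p := by
      have e1 : X ◁ q = lift (fst X G) (snd X G ≫ q) := by
        apply CartesianMonoidalCategory.hom_ext <;> simp
      rw [hπpt, e1, ← hpinv (snd X G)⁻¹ (lift (fst X G) (snd X G ≫ q)), htr, GrpObj.inv_comp,
        inv_mul_cancel]
    have hm' : m.left ≫ π.left = (X ◁ q).left ≫ p.left := congr(($hm).left)
    rw [← hm'] at hv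
    exact isLocallyTrivialFor_of_comp_right m.left π.left hv
  refine ⟨P, π, r, cbar, hπr, hNtors, hlocπ, hrtors, ?_, hequiv⟩
  have hφ' : π.left ≫ r.left = φ.left := congr(($hπr).left)
  rw [← hφ'] at hloc
  exact isLocallyTrivialFor_of_comp_right π.left r.left hloc

end Groth.Agent.H40.ExtTorsor
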