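import Mathlib.RingTheory.Artinian.Module
import Mathlib.RingTheory.Artinian.Ring
import Mathlib.RingTheory.Artinian.Algebra
import Mathlib.FieldTheory.IsAlgClosed.Basic
import Mathlib.LinearAlgebra.Dimension.Constructions
import Mathlib.RingTheory.Spectrum.Maximal.Basic

/-!
# Finite reduced algebras over an algebraically closed field
-/

set_option autoImplicit false
set_option linter.style.haveILetI false
set_option linter.unusedSectionVars false

namespace Groth.Agent.H40.FinRedAlg

variable (L B : Type*) [Field L] [IsAlgClosed L] [CommRing B] [Algebra L B] [Module.Finite L B]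

include L in
theorem isArtinianRing : IsArtinianRing B := isArtinian_of_tower L inferInstance

variable {L B}

/-- the residue field at a maximal ideal is `L`. -/
theorem algebraMap_quot_bijective (m : MaximalSpectrum B) :
    Function.Bijective (algebraMap L (B ⧸ m.asIdeal)) := by
  letI : Field (B ⧸ m.asIdeal) := Ideal.Quotient.field m.asIdeal
  haveI : Algebra.IsIntegral L (B ⧸ m.asIdeal) := Algebra.IsIntegral.of_finite L _
  exact IsAlgClosed.algebraMap_bijective_of_isIntegral

/-- evaluation at a maximal ideal. -/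
noncomputable def evM (m : MaximalSpectrum B) : B →ₐ[L] L :=
  ((AlgEquiv.ofBijective (Algebra.ofId L (B ⧸ m.asIdeal))
    (algebraMap_quot_bijective m)).symm : (B ⧸ m.asIdeal) →ₐ[L] L).comp
    (Ideal.Quotient.mkₐ L m.asIdeal)

theorem algebraMap_evM (m : MaximalSpectrum B) (x : B) :
    algebraMap L (B ⧸ m.asIdeal) (evM m x) = Ideal.Quotient.mk m.asIdeal x := by
  have := (AlgEquiv.ofBijective (Algebra.ofId L (B ⧸ m.asIdeal))
    (algebraMap_quot_bijective m)).apply_symm_apply (Ideal.Quotient.mk m.asIdeal x)
  exact this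

theorem evM_eq_zero_iff (m : MaximalSpectrum B) (x : B) :
    evM (L := L) m x = 0 ↔ x ∈ m.asIdeal := by
  rw [← Ideal.Quotient.eq_zero_iff_mem, ← algebraMap_evM (L := L)]
  constructor
  · intro h
    rw [h, map_zero]
  · intro h
    exact (algebraMap_quot_bijective m).1 (h.trans (map_zero _).symm)

theorem algHom_eq_of_ker_le {f g : B →ₐ[L] L} (h : ∀ x, g x = 0 → f x = 0) : f = g := by
  ext x
  have h1 : g (x - algebraMap L B (g x)) = 0 := by
    rw [map_sub, AlgHom.commutes]
    exact sub_self _
  have h2 := h _ h1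
  rw [map_sub, AlgHom.commutes] at h2
  exact sub_eq_zero.mp h2

theorem evM_bijective : Function.Bijective (evM (L := L) (B := B)) := by
  constructor
  · intro m m' hmm
    apply MaximalSpectrum.ext
    ext x
    rw [← evM_eq_zero_iff (L := L), ← evM_eq_zero_iff (L := L), hmm]
  · intro f
    have hsurj : Function.Surjective f := fun c => ⟨algebraMap L B c, f.commutes c⟩
    have hmax : (RingHom.ker (f : B →+* L)).IsMaximal :=
      RingHom.ker_isMaximal_of_surjective (f : B →+* L) hsurj
    refine ⟨⟨RingHom.ker (f : B →+* L), hmax⟩, ?_⟩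
    symm
    apply algHom_eq_of_ker_le
    intro x hx
    exact RingHom.mem_ker.mp ((evM_eq_zero_iff _ x).mp hx)

variable [IsReduced B]

theorem eq_zero_of_forall_algHom (s : B) (h : ∀ f : B →ₐ[L] L, f s = 0) : s = 0 := by
  haveI := isArtinianRing L B
  apply (IsArtinianRing.equivPi B).injective
  rw [map_zero]
  funext m
  rw [IsArtinianRing.equivPi_apply]
  exact (Ideal.Quotient.eq_zero_iff_mem).mpr ((evM_eq_zero_iff (L := L) m s).mp (h _))

theorem card_algHom : Nat.card (B →ₐ[L] L) = Module.finrank L B := by
  classical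
  haveI := isArtinianRing L B
  haveI : Finite (MaximalSpectrum B) := inferInstance
  letI := Fintype.ofFinite (MaximalSpectrum B)
  rw [← Nat.card_congr (Equiv.ofBijective _ (evM_bijective (L := L) (B := B)))]
  let e : B ≃ₗ[L] (∀ m : MaximalSpectrum B, B ⧸ m.asIdeal) :=
    ((IsArtinianRing.equivPi B).restrictScalars L).toLinearEquiv
  rw [e.finrank_eq, Module.finrank_pi_fintype, Nat.card_eq_fintype_card]
  have : ∀ m : MaximalSpectrum B, Module.finrank L (B ⧸ m.asIdeal) = 1 := by
    intro m
    have e' : L ≃ₗ[L] (B ⧸ m.asIdeal) :=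
      (AlgEquiv.ofBijective (Algebra.ofId L (B ⧸ m.asIdeal))
        (algebraMap_quot_bijective m)).toLinearEquiv
    rw [← e'.finrank_eq, Module.finrank_self]
  simp [this]

end Groth.Agent.H40.FinRedAlg
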