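import Groth.Agent.H40.SekSuwaFin

/-!
# `α^{λ,N}` is bijective on points in algebras where `λ` is invertible
-/

set_option autoImplicit false
universe u

open Polynomial

namespace Groth.Agent.H40

namespace SekSuwaFin

open SekSuwa

variable {R : Type u} [CommRing R] {lam : R} {N : ℕ} (h : DivCond lam N)
  {C : Type u} [CommRing C] [Algebra R C]

/-- the generator of the group algebra of `ℤ/N`. -/
noncomputable def sigma : MonoidAlgebra R (Multiplicative (ZMod N)) :=
  MonoidAlgebra.single (Multiplicative.ofAdd (1 : ZMod N)) 1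

theorem sigma_pow : (sigma : MonoidAlgebra R (Multiplicative (ZMod N))) ^ N = 1 := by
  rw [sigma, MonoidAlgebra.single_pow, one_pow, ← ofAdd_nsmul]
  simp [MonoidAlgebra.one_def]

theorem single_eq_sigma_pow (g : Multiplicative (ZMod N)) [NeZero N] :
    (MonoidAlgebra.single g 1 : MonoidAlgebra R (Multiplicative (ZMod N))) =
      sigma ^ (Multiplicative.toAdd g).val := by
  rw [sigma, MonoidAlgebra.single_pow, one_pow, ← ofAdd_nsmul]
  congr 1
  simp

theorem algHom_ext_sigma [NeZero N] {φ₁ φ₂ : MonoidAlgebra R (Multiplicative (ZMod N)) →ₐ[R] C}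
    (hσ : φ₁ sigma = φ₂ sigma) : φ₁ = φ₂ := by
  apply MonoidAlgebra.algHom_ext
  · intro g
    rw [single_eq_sigma_pow, map_pow, map_pow, hσ]
  · exact Subsingleton.elim _ _

theorem alphaN_comp_injective (hlam : IsUnit (algebraMap R C lam)) :
    Function.Injective (fun φ : AK R lam N h →ₐ[R] C =>
      φ.comp (alphaNHom R lam N h : MonoidAlgebra R (Multiplicative (ZMod N)) →ₐ[R] AK R lam N h)) := by
  intro φ₁ φ₂ hφ
  have h1 : φ₁ (1 + lam • AK.t) = φ₂ (1 + lam • AK.t) := by
    have := DFunLike.congr_fun hφ sigma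
    simp only [AlgHom.comp_apply] at this
    rw [sigma] at this
    erw [alphaNHom_single_one] at this
    exact this
  have ht : φ₁ AK.t = φ₂ AK.t := by
    rw [map_add, map_add, map_one, map_one, map_smul, map_smul, Algebra.smul_def,
      Algebra.smul_def] at h1
    exact hlam.mul_left_cancel (add_left_cancel h1)
  apply AK.algHom_ext ht
  have e1 : φ₁ (1 + lam • AK.t) * φ₁ AK.inv = 1 := by rw [← map_mul, u_mul_inv, map_one]
  have e2 : φ₂ (1 + lam • AK.t) * φ₂ AK.inv = 1 := by rw [← map_mul, u_mul_inv, map_one]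
  calc φ₁ AK.inv = φ₁ AK.inv * (φ₂ (1 + lam • AK.t) * φ₂ AK.inv) := by rw [e2, mul_one]
    _ = (φ₁ (1 + lam • AK.t) * φ₁ AK.inv) * φ₂ AK.inv := by rw [← h1]; ring
    _ = φ₂ AK.inv := by rw [e1, one_mul]

theorem alphaN_comp_surjective [NeZero N] (hlam : IsUnit (algebraMap R C lam)) :
    Function.Surjective (fun φ : AK R lam N h →ₐ[R] C =>
      φ.comp (alphaNHom R lam N h : MonoidAlgebra R (Multiplicative (ZMod N)) →ₐ[R] AK R lam N h)) := by
  intro χ
  have hN : 0 < N := Nat.pos_of_ne_zero (NeZero.ne N)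
  set ζ := χ sigma with hζ
  have hζN : ζ ^ N = 1 := by rw [hζ, ← map_pow, sigma_pow, map_one]
  let b : C := ↑(hlam.unit⁻¹) * (ζ - 1)
  have hb : 1 + lam • b = ζ := by
    rw [Algebra.smul_def, ← mul_assoc]
    have : algebraMap R C lam * ↑(hlam.unit⁻¹) = 1 := hlam.mul_val_inv
    rw [this, one_mul]; ring
  have hbc : (1 + lam • b) * ζ ^ (N - 1) = 1 := by
    rw [hb, ← pow_succ', Nat.sub_add_cancel hN, hζN]
  let ψ₀ : A R lam →ₐ[R] C := A.lift R lam b (ζ ^ (N - 1)) hbc
  have hker : ∀ z ∈ kerIdeal lam N h, ψ₀ z = 0 := by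
    intro z hz
    obtain ⟨a, rfl⟩ := Ideal.mem_span_singleton'.mp hz
    have e := aeval_psiPoly h b
    rw [← Algebra.smul_def lam b, hb, hζN, sub_self] at e
    have hu : IsUnit (algebraMap R C (lam ^ N)) := by rw [map_pow]; exact hlam.pow N
    have e0 : Polynomial.aeval b (psiPoly lam N h) = 0 := hu.mul_right_eq_zero.mp e
    rw [map_mul, kerGen, ← Polynomial.aeval_algHom_apply, A.lift_t, e0, mul_zero]
  let ψ : AK R lam N h →ₐ[R] C := Ideal.Quotient.liftₐ (kerIdeal lam N h) ψ₀ hker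
  have hψt : ψ AK.t = b := by
    change ψ₀ A.t = b
    exact A.lift_t _ _ _
  refine ⟨ψ, ?_⟩
  apply algHom_ext_sigma
  rw [AlgHom.comp_apply, sigma]
  erw [alphaNHom_single_one]
  rw [map_add, map_one, map_smul, hψt, hb, hζ, sigma]

theorem alphaN_comp_bijective [NeZero N] (hlam : IsUnit (algebraMap R C lam)) :
    Function.Bijective (fun φ : AK R lam N h →ₐ[R] C =>
      φ.comp (alphaNHom R lam N h : MonoidAlgebra R (Multiplicative (ZMod N)) →ₐ[R] AK R lam N h)) :=
  ⟨alphaN_comp_injective h hlam, alphaN_comp_surjective h hlam⟩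

end SekSuwaFin

end Groth.Agent.H40
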