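import Groth.Agent.H42.GaGm2
import Groth.Agent.H40.DiagMapPts
import Groth.Agent.H40.SekSuwaAlpha

/-!
# `α^{λ,N}` becomes an isomorphism after base change to a scheme where `λ` is invertible
-/

set_option autoImplicit false
universe u

open CategoryTheory AlgebraicGeometry
open CategoryTheory.Limits
open Groth.Agent.H42

namespace Groth.Agent.H40

namespace SpecPts

variable {R : Type u} [CommRing R] {B B₁ B₂ : Type u} [CommRing B] [CommRing B₁] [CommRing B₂]
  [Bialgebra R B] [Bialgebra R B₁] [Bialgebra R B₂]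
  {Y : Over (Spec (CommRingCat.of R))}

/-- the `R`-algebra structure on the global sections of a scheme over `Spec R`. -/
@[reducible] noncomputable def algY (Y : Over (Spec (CommRingCat.of R))) : Algebra R Γ(Y.left, ⊤) :=
  (pb Y.hom).toAlgebra

/-- the algebra map defined by a point of `Spec B`. -/
noncomputable def ptAlg (c : Y ⟶ (Spec (CommRingCat.of B)).asOver (Spec (CommRingCat.of R))) :
    @AlgHom R B Γ(Y.left, ⊤) _ _ _ _ (algY Y) :=
  letI := algY Y
  { toRingHom := pb (ptL c)
    commutes' := fun r => by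
      change pb (ptL c) (algebraMap R B r) = pb Y.hom r
      rw [← pb_comp_specMap, ptL_w] }

theorem ptAlg_injective :
    Function.Injective (ptAlg (B := B) (Y := Y)) := by
  intro c d hcd
  apply ptL_injective
  apply pb_injective
  letI := algY Y
  exact congrArg (fun φ : B →ₐ[R] Γ(Y.left, ⊤) => (φ : B →+* Γ(Y.left, ⊤))) hcd

theorem ptAlg_surjective :
    Function.Surjective (ptAlg (B := B) (Y := Y)) := by
  letI := algY Y
  intro φ
  obtain ⟨g, hg⟩ := pb_surjective (A := B) (Y := Y.left) (φ : B →+* Γ(Y.left, ⊤))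
  have hw : g ≫ Spec.map (CommRingCat.ofHom (algebraMap R B)) = Y.hom := by
    apply pb_injective
    ext r
    rw [pb_comp_specMap, hg]
    exact φ.commutes r
  refine ⟨Over.homMk g hw, ?_⟩
  apply AlgHom.coe_ringHom_injective
  exact hg

theorem ptAlg_comp_specHom (f : B₁ →ₐc[R] B₂)
    (c : Y ⟶ (Spec (CommRingCat.of B₂)).asOver (Spec (CommRingCat.of R))) :
    ptAlg (c ≫ SekSuwa.specHom f) =
      @AlgHom.comp R B₁ B₂ Γ(Y.left, ⊤) _ _ _ _ _ _ (algY Y) (ptAlg c) (f : B₁ →ₐ[R] B₂) := by
  letI := algY Y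
  apply AlgHom.coe_ringHom_injective
  ext b
  change pb (ptL (c ≫ SekSuwa.specHom f)) b = pb (ptL c) ((f : B₁ →+* B₂) b)
  rw [← pb_comp_specMap]
  rfl

end SpecPts

namespace SekSuwaFin

open SekSuwa SpecPts

variable {R : Type u} [CommRing R] {lam : R} {N : ℕ} (h : DivCond lam N) [NeZero N]

theorem comp_alphaN_bijective {Y : Over (Spec (CommRingCat.of R))}
    (hlam : IsUnit (pb Y.hom lam)) :
    Function.Bijective (fun c : Y ⟶ GK R lam N h => c ≫ alphaN R lam N h) := by
  letI := algY Y
  have hb := alphaN_comp_bijective (C := Γ(Y.left, ⊤)) h hlam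
  have hcomm : ∀ c : Y ⟶ GK R lam N h,
      ptAlg (c ≫ alphaN R lam N h) = (ptAlg c).comp
        (alphaNHom R lam N h : MonoidAlgebra R (Multiplicative (ZMod N)) →ₐ[R] AK R lam N h) :=
    fun c => ptAlg_comp_specHom (alphaNHom R lam N h) c
  constructor
  · intro c d hcd
    apply ptAlg_injective
    apply hb.1
    change (ptAlg c).comp _ = (ptAlg d).comp _
    rw [← hcomm, ← hcomm]
    exact congrArg ptAlg hcd
  · intro d
    obtain ⟨φ, hφ⟩ := hb.2 (ptAlg d)
    obtain ⟨c, rfl⟩ := ptAlg_surjective (B := AK R lam N h) (Y := Y) φ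
    refine ⟨c, ?_⟩
    apply ptAlg_injective
    change ptAlg (c ≫ alphaN R lam N h) = ptAlg d
    rw [hcomm]
    exact hφ

theorem isIso_pullback_alphaN {S' : Scheme.{u}} (k : S' ⟶ Spec (CommRingCat.of R))
    (hlam : IsUnit (pb k lam)) : IsIso ((Over.pullback k).map (alphaN R lam N h)) := by
  apply isIso_of_yoneda_map_bijective
  intro T
  have hY : IsUnit (pb ((Over.map k).obj T).hom lam) := by
    change IsUnit (pb (T.hom ≫ k) lam)
    rw [pb_comp]
    exact hlam.map _
  have hb := comp_alphaN_bijective h (Y := (Over.map k).obj T) hY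
  have hnat : ∀ x : T ⟶ (Over.pullback k).obj (GK R lam N h),
      bcPt k _ (x ≫ (Over.pullback k).map (alphaN R lam N h)) = bcPt k _ x ≫ alphaN R lam N h :=
    fun x => bcPt_map k (alphaN R lam N h) x
  constructor
  · intro x y hxy
    apply bcPt_injective k (GK R lam N h)
    apply hb.1
    change bcPt k _ x ≫ alphaN R lam N h = bcPt k _ y ≫ alphaN R lam N h
    rw [← hnat, ← hnat]
    exact congrArg _ hxy
  · intro y
    obtain ⟨c, hc⟩ := hb.2 (bcPt k _ y)
    obtain ⟨x, rfl⟩ := bcPt_surjective k (GK R lam N h) c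
    refine ⟨x, ?_⟩
    apply bcPt_injective k (Red.diag R (ZMod N))
    change bcPt k _ (x ≫ (Over.pullback k).map (alphaN R lam N h)) = bcPt k _ y
    rw [hnat]
    exact hc

end SekSuwaFin

end Groth.Agent.H40
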