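import Groth.Agent.H40.FinRedAlg
import Groth.Agent.H40.SekSuwaIso
import Mathlib.AlgebraicGeometry.Morphisms.FlatRank

/-!
# Rational points of a finite reduced scheme over an algebraically closed field
-/

set_option autoImplicit false
set_option linter.style.haveILetI false
set_option linter.unusedSectionVars false
universe u

open CategoryTheory AlgebraicGeometry CategoryTheory.Limits
open Groth.Agent.H42

namespace Groth.Agent.H40.FinRedPts

open SpecPts

section Affine

variable {T Y : Scheme.{u}} [IsAffine Y]

/-- morphisms to an affine scheme are ring homomorphisms on global sections. -/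
theorem appTop_bijective :
    Function.Bijective (fun g : T ⟶ Y => g.appTop.hom) := by
  have h1 : ∀ g : T ⟶ Y, pb (g ≫ Y.toSpecΓ) = g.appTop.hom := by
    intro g
    ext b
    rw [pb_comp, pb_toSpecΓ]
  constructor
  · intro g g' hgg
    have : g ≫ Y.toSpecΓ = g' ≫ Y.toSpecΓ := by
      apply pb_injective
      rw [h1, h1]
      exact hgg
    exact (cancel_mono _).mp this
  · intro φ
    obtain ⟨k, hk⟩ := pb_surjective (A := Γ(Y, ⊤)) (Y := T) φ
    refine ⟨k ≫ inv Y.toSpecΓ, ?_⟩
    show (k ≫ inv Y.toSpecΓ).appTop.hom = φ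
    rw [← h1, Category.assoc, IsIso.inv_hom_id, Category.comp_id, hk]

end Affine

section Pts

variable {L : Type u} [Field L]

/-- the base point `Spec L` over itself. -/
noncomputable abbrev P0 (L : Type u) [Field L] : Over (Spec (CommRingCat.of L)) :=
  Over.mk (𝟙 (Spec (CommRingCat.of L)))

lemma pb_id (c : L) :
    pb (𝟙 (Spec (CommRingCat.of L))) c = (Scheme.ΓSpecIso (CommRingCat.of L)).inv c := by
  rw [pb_apply]
  simp

variable (X : Over (Spec (CommRingCat.of L)))

/-- evaluation of functions at a rational point. -/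
noncomputable def evP (x : P0 L ⟶ X) : @AlgHom L Γ(X.left, ⊤) L _ _ _ (algY X) _ :=
  letI := algY X
  { toRingHom := (Scheme.ΓSpecIso (CommRingCat.of L)).hom.hom.comp x.left.appTop.hom
    commutes' := fun c => by
      change (Scheme.ΓSpecIso (CommRingCat.of L)).hom (x.left.appTop (pb X.hom c)) = c
      rw [← pb_comp]
      have hw : x.left ≫ X.hom = 𝟙 (Spec (CommRingCat.of L)) := Over.w x
      rw [hw, pb_id]
      simp }

lemma evP_apply (x : P0 L ⟶ X) (s : Γ(X.left, ⊤)) :
    evP X x s = (Scheme.ΓSpecIso (CommRingCat.of L)).hom (x.left.appTop s) := rfl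

theorem evP_bijective [IsAffine X.left] : Function.Bijective (evP X) := by
  letI := algY X
  have hΓ : Function.Bijective (Scheme.ΓSpecIso (CommRingCat.of L)).hom :=
    ConcreteCategory.bijective_of_isIso _
  constructor
  · intro x x' hxx
    apply Over.OverMorphism.ext
    apply (appTop_bijective (T := Spec (CommRingCat.of L)) (Y := X.left)).1
    ext s
    apply hΓ.1
    exact congrArg (fun f : Γ(X.left, ⊤) →ₐ[L] L => f s) hxx
  · intro f
    let φ : Γ(X.left, ⊤) →+* Γ(Spec (CommRingCat.of L), ⊤) :=
      (Scheme.ΓSpecIso (CommRingCat.of L)).inv.hom.comp (f : Γ(X.left, ⊤) →+* L)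
    obtain ⟨g, hg⟩ := (appTop_bijective (T := Spec (CommRingCat.of L)) (Y := X.left)).2 φ
    have hg' : ∀ s, g.appTop s = (Scheme.ΓSpecIso (CommRingCat.of L)).inv (f s) := fun s =>
      congrArg (fun ψ : Γ(X.left, ⊤) →+* Γ(Spec (CommRingCat.of L), ⊤) => ψ s) hg
    have hw : g ≫ X.hom = 𝟙 _ := by
      apply pb_injective
      ext c
      rw [pb_comp, pb_id, hg']
      congr 1
      exact f.commutes c
    refine ⟨Over.homMk g hw, ?_⟩
    ext s
    rw [evP_apply]
    show (Scheme.ΓSpecIso (CommRingCat.of L)).hom (g.appTop s) = f s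
    rw [hg']
    simp

section Finite

variable [IsFinite X.hom]

instance isAffine_left : IsAffine X.left := isAffine_of_isAffineHom X.hom

theorem finite_sections : @Module.Finite L Γ(X.left, ⊤) _ _ (algY X).toModule := by
  have h1 : X.hom.appTop.hom.Finite := X.hom.finite_appTop
  have h2 : (Scheme.ΓSpecIso (CommRingCat.of L)).inv.hom.Finite :=
    RingHom.Finite.of_surjective _ (ConcreteCategory.bijective_of_isIso _).2
  exact h1.comp h2

variable [IsAlgClosed L]

/-- A function on a finite reduced scheme over an algebraically closed field vanishing at all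
rational points is zero. -/
theorem eq_zero_of_forall_pt [IsReduced X.left] (s : Γ(X.left, ⊤))
    (h : ∀ x : P0 L ⟶ X, x.left.appTop s = 0) : s = 0 := by
  letI := algY X
  haveI := finite_sections X
  apply FinRedAlg.eq_zero_of_forall_algHom (L := L) s
  intro f
  obtain ⟨x, rfl⟩ := (evP_bijective X).2 f
  rw [evP_apply, h x, map_zero]

theorem hom_eq_specMap :
    X.hom = X.left.toSpecΓ ≫ Spec.map (CommRingCat.ofHom (pb X.hom)) := by
  have h1 := Scheme.toSpecΓ_naturality X.hom
  have h2 := toSpecΓ_SpecMap_ΓSpecIso_inv (CommRingCat.of L)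
  calc X.hom = X.hom ≫ (Spec (CommRingCat.of L)).toSpecΓ ≫
        Spec.map (Scheme.ΓSpecIso (CommRingCat.of L)).inv := by rw [h2, Category.comp_id]
    _ = X.left.toSpecΓ ≫ Spec.map X.hom.appTop ≫
        Spec.map (Scheme.ΓSpecIso (CommRingCat.of L)).inv := by
      rw [← Category.assoc, h1, Category.assoc]
    _ = _ := by
      rw [← Spec.map_comp]
      rfl

/-- The number of rational points of a finite flat reduced scheme over an algebraically closed
field is its degree. -/
theorem card_pts [IsReduced X.left] [Flat X.hom] (z : Spec (CommRingCat.of L)) :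
    Nat.card (P0 L ⟶ X) = X.hom.finrank z := by
  letI := algY X
  haveI := finite_sections X
  rw [Nat.card_congr (Equiv.ofBijective _ (evP_bijective X)), FinRedAlg.card_algHom]
  have e : X.hom = X.left.toSpecΓ ≫
      Spec.map (CommRingCat.ofHom (algebraMap L Γ(X.left, ⊤))) := hom_eq_specMap X
  have hfin : IsFinite (Spec.map (CommRingCat.ofHom (algebraMap L Γ(X.left, ⊤)))) := by
    rw [IsFinite.SpecMap_iff]
    exact (RingHom.finite_algebraMap).mpr inferInstance
  have hflat : Flat (Spec.map (CommRingCat.ofHom (algebraMap L Γ(X.left, ⊤)))) := by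
    rw [Flat.SpecMap_iff]
    exact (RingHom.flat_algebraMap_iff).mpr inferInstance
  rw [e, Scheme.Hom.finrank_comp_left_of_isIso]
  have h3 := Scheme.Hom.finrank_SpecMap_algebraMap L Γ(X.left, ⊤) z
  rw [h3, Module.rankAtStalk_eq_finrank_of_free]
  rfl

end Finite

end Pts

end Groth.Agent.H40.FinRedPts
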