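import Groth.Agent.H40.NormalSection
import Groth.Agent.H40.FpqcTors
import Groth.Agent.H40.LocTriv
import Groth.Agent.H1.Descent

/-!
# Sections of finite schemes and of torsors under finite groups over normal integral schemes
-/

set_option autoImplicit false
set_option backward.isDefEq.respectTransparency.types false
universe u
open CategoryTheory CategoryTheory.Limits AlgebraicGeometry

namespace Groth.Agent.H40

/-- a finite scheme over a normal integral scheme with a section over the generic stalk has a
section. -/
theorem hasSectionOver_of_generic {X : Scheme.{u}} [IsIntegral X]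
    (hX : ∀ x : X, IsIntegrallyClosed (X.presheaf.stalk x)) (Y : Over X) [IsFinite Y.hom]
    (hgen : NonAbH1.HasSectionOver Y (X.fromSpecStalk (genericPoint X))) :
    NonAbH1.HasSectionOver Y (𝟙 X) := by
  obtain ⟨φ, hφ⟩ := hgen
  obtain ⟨U, hηU, f, -, hf⟩ := spread_out_of_isGermInjective' (𝟙 X) Y.hom φ
    (by rw [hφ, Category.comp_id])
  obtain ⟨s, hs, -⟩ := exists_section_of_isFinite_of_normal Y.hom hX U ⟨_, hηU⟩ f
    (by rw [hf, Category.comp_id])
  exact ⟨s, hs⟩

/-- torsors under finite group schemes are finite. -/
theorem isFinite_of_isTorsorFor_fppf {S : Scheme.{u}} {G Y : Over S} [GrpObj G] [IsFinite G.hom]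
    (a : AlgGrp.Action G Y) (hY : NonAbH1.IsTorsorFor Scheme.fppfPrecoverage a) :
    IsFinite Y.hom :=
  prop_hom_of_isTorsorFor_fpqc @IsFinite Groth.Agent.H1.isFinite_descendsAlong_fpqc a
    ⟨hY.1, IsLocallyTrivialFor.mono Scheme.fppfPrecoverage_le_fpqcPrecoverage hY.2⟩ inferInstance

end Groth.Agent.H40
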