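import Mathlib.AlgebraicGeometry.AffineSpace

/-!
# Global functions as morphisms to the affine line over `ℤ`
-/

set_option autoImplicit false
universe u
open CategoryTheory AlgebraicGeometry

namespace Groth.Agent.H40

/-- the affine line over `ℤ` (in universe `u`). -/
noncomputable abbrev A1 : Scheme.{u} :=
  Spec (CommRingCat.of (MvPolynomial PUnit.{u + 1} (ULift.{u} ℤ)))

/-- morphisms to the affine line are global functions. -/
noncomputable def fnEquiv (X : Scheme.{u}) : (X ⟶ A1.{u}) ≃ Γ(X, ⊤) :=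
  (AffineSpace.toSpecMvPolyIntEquiv PUnit.{u + 1}).trans (Equiv.funUnique PUnit.{u + 1} Γ(X, ⊤))

lemma fnEquiv_comp {X Y : Scheme.{u}} (f : X ⟶ Y) (g : Y ⟶ A1.{u}) :
    fnEquiv X (f ≫ g) = f.appTop.hom (fnEquiv Y g) := rfl

lemma comp_fnEquiv_symm {X Y : Scheme.{u}} (f : X ⟶ Y) (s : Γ(Y, ⊤)) :
    f ≫ (fnEquiv Y).symm s = (fnEquiv X).symm (f.appTop.hom s) := by
  apply (fnEquiv X).injective
  rw [fnEquiv_comp, Equiv.apply_symm_apply, Equiv.apply_symm_apply]

/-- sections over an open subset as morphisms from the open subscheme to the affine line. -/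
noncomputable def fnOpen {X : Scheme.{u}} (U : X.Opens) : (U.toScheme ⟶ A1.{u}) ≃ Γ(X, U) where
  toFun w := U.topIso.hom.hom (fnEquiv U.toScheme w)
  invFun s := (fnEquiv U.toScheme).symm (U.topIso.inv.hom s)
  left_inv w := by
    have : U.topIso.inv.hom (U.topIso.hom.hom (fnEquiv U.toScheme w)) = fnEquiv U.toScheme w := by
      rw [← RingHom.comp_apply, ← CommRingCat.hom_comp, Iso.hom_inv_id]
      rfl
    change (fnEquiv U.toScheme).symm
      (U.topIso.inv.hom (U.topIso.hom.hom (fnEquiv U.toScheme w))) = w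
    rw [this, Equiv.symm_apply_apply]
  right_inv s := by
    change U.topIso.hom.hom (fnEquiv U.toScheme ((fnEquiv U.toScheme).symm (U.topIso.inv.hom s))) = s
    rw [Equiv.apply_symm_apply, ← RingHom.comp_apply, ← CommRingCat.hom_comp, Iso.inv_hom_id]
    rfl

lemma fnOpen_resLE {X Y : Scheme.{u}} (f : X ⟶ Y) (U : Y.Opens) (V : X.Opens) (e : V ≤ f ⁻¹ᵁ U)
    (w : U.toScheme ⟶ A1.{u}) :
    fnOpen V (f.resLE U V e ≫ w) = (f.appLE U V e).hom (fnOpen U w) := by
  change V.topIso.hom.hom (fnEquiv V.toScheme (f.resLE U V e ≫ w)) =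
    (f.appLE U V e).hom (U.topIso.hom.hom (fnEquiv U.toScheme w))
  rw [fnEquiv_comp]
  have h' : (f.resLE U V e).appTop ≫ V.topIso.hom = U.topIso.hom ≫ f.appLE U V e := by
    have := (arrowResLEAppIso f U V e).hom.w
    simpa [arrowResLEAppIso] using this.symm
  exact congr(($h').hom (fnEquiv U.toScheme w))

end Groth.Agent.H40
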