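import Groth.Prelude.Def_SekSuwa2
import Mathlib.RingTheory.AdjoinRoot

/-!
# The coordinate ring of `G_{λ,N}` is finite free
-/

set_option autoImplicit false
universe u

open Polynomial

namespace Groth.Agent.H40

namespace SekSuwaFin

open SekSuwa

variable {R : Type u} [CommRing R] {lam : R} {N : ℕ}

theorem coeff_rhs (k : ℕ) :
    ((1 + C lam * X) ^ N - 1 : R[X]).coeff k = (N.choose k : R) * lam ^ k - if k = 0 then 1 else 0 := by
  have e : (1 + C lam * X : R[X]) ^ N = ((X + C (1 : R)) ^ N).comp (C lam * X) := by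
    simp [add_comm]
  rw [coeff_sub, e, comp_C_mul_X_coeff, coeff_X_add_C_pow, one_pow, one_mul, coeff_one]

theorem coeff_psiPoly_self (h : DivCond lam N) (hN : 0 < N) : (psiPoly lam N h).coeff N = 1 := by
  have := congrArg (fun q => q.coeff N) (psiPoly_spec h)
  simp only [coeff_C_mul, coeff_rhs] at this
  rw [Nat.choose_self, Nat.cast_one, one_mul, if_neg hN.ne', sub_zero] at this
  exact cancel_nzd h.pow_nzd (by rw [this, mul_one])

theorem coeff_psiPoly_of_lt (h : DivCond lam N) {k : ℕ} (hk : N < k) :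
    (psiPoly lam N h).coeff k = 0 := by
  have := congrArg (fun q => q.coeff k) (psiPoly_spec h)
  simp only [coeff_C_mul, coeff_rhs] at this
  rw [Nat.choose_eq_zero_of_lt hk, Nat.cast_zero, zero_mul,
    if_neg (by omega), sub_zero] at this
  exact cancel_nzd h.pow_nzd (by rw [this, mul_zero])

theorem natDegree_psiPoly_le (h : DivCond lam N) : (psiPoly lam N h).natDegree ≤ N :=
  natDegree_le_iff_coeff_eq_zero.mpr fun _ hk => coeff_psiPoly_of_lt h hk

theorem monic_psiPoly (h : DivCond lam N) (hN : 0 < N) : (psiPoly lam N h).Monic :=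
  monic_of_natDegree_le_of_coeff_eq_one N (natDegree_psiPoly_le h) (coeff_psiPoly_self h hN)

theorem natDegree_psiPoly [Nontrivial R] (h : DivCond lam N) (hN : 0 < N) :
    (psiPoly lam N h).natDegree = N :=
  natDegree_eq_of_le_of_coeff_ne_zero (natDegree_psiPoly_le h)
    (by rw [coeff_psiPoly_self h hN]; exact one_ne_zero)

variable (h : DivCond lam N)

theorem root_rel (hN : 0 < N) :
    (1 + lam • AdjoinRoot.root (psiPoly lam N h)) *
      (1 + lam • AdjoinRoot.root (psiPoly lam N h)) ^ (N - 1) = 1 := by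
  rw [← pow_succ', Nat.sub_add_cancel hN]
  have := aeval_psiPoly h (AdjoinRoot.root (psiPoly lam N h))
  rw [AdjoinRoot.aeval_eq, AdjoinRoot.mk_self, mul_zero] at this
  rw [Algebra.smul_def]
  exact (sub_eq_zero.mp this.symm)

/-- `AK ⟶ R[X]/(P)`. -/
noncomputable def toAdjoinRoot (hN : 0 < N) : AK R lam N h →ₐ[R] AdjoinRoot (psiPoly lam N h) :=
  Ideal.Quotient.liftₐ (kerIdeal lam N h)
    (A.lift R lam (AdjoinRoot.root (psiPoly lam N h))
      ((1 + lam • AdjoinRoot.root (psiPoly lam N h)) ^ (N - 1)) (root_rel h hN))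
    (by
      intro z hz
      obtain ⟨a, rfl⟩ := Ideal.mem_span_singleton'.mp hz
      rw [map_mul, kerGen, ← Polynomial.aeval_algHom_apply, A.lift_t, AdjoinRoot.aeval_eq,
        AdjoinRoot.mk_self, mul_zero])

theorem toAdjoinRoot_mk (hN : 0 < N) (a : A R lam) :
    toAdjoinRoot h hN (AK.mkHom R lam N h a) =
      A.lift R lam (AdjoinRoot.root (psiPoly lam N h))
        ((1 + lam • AdjoinRoot.root (psiPoly lam N h)) ^ (N - 1)) (root_rel h hN) a := rfl

theorem toAdjoinRoot_t (hN : 0 < N) :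
    toAdjoinRoot h hN AK.t = AdjoinRoot.root (psiPoly lam N h) := by
  rw [AK.t, toAdjoinRoot_mk, A.lift_t]

theorem toAdjoinRoot_inv (hN : 0 < N) :
    toAdjoinRoot h hN AK.inv = (1 + lam • AdjoinRoot.root (psiPoly lam N h)) ^ (N - 1) := by
  rw [AK.inv, toAdjoinRoot_mk, A.lift_inv]

/-- `R[X]/(P) ⟶ AK`. -/
noncomputable def ofAdjoinRoot : AdjoinRoot (psiPoly lam N h) →ₐ[R] AK R lam N h :=
  AdjoinRoot.liftAlgHom (psiPoly lam N h) (Algebra.ofId R (AK R lam N h)) AK.t AK.aeval_t

theorem ofAdjoinRoot_root : ofAdjoinRoot h (AdjoinRoot.root (psiPoly lam N h)) = AK.t := by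
  rw [ofAdjoinRoot, AdjoinRoot.liftAlgHom_root]

theorem u_mul_inv : (1 + lam • (AK.t : AK R lam N h)) * AK.inv = 1 := by
  have := congrArg (AK.mkHom R lam N h) (A.u_mul_inv (R := R) (lam := lam))
  rw [map_mul, map_one, A.u, map_add, map_one, map_smul] at this
  exact this

theorem inv_eq (hN : 0 < N) : (AK.inv : AK R lam N h) = (1 + lam • AK.t) ^ (N - 1) := by
  have h0 : (1 + lam • (AK.t : AK R lam N h)) ^ N = 1 := AK.u_pow
  have h1 : (1 + lam • (AK.t : AK R lam N h)) ^ (N - 1) * (1 + lam • AK.t) = 1 := by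
    rw [← pow_succ, Nat.sub_add_cancel hN, h0]
  calc (AK.inv : AK R lam N h) = ((1 + lam • AK.t) ^ (N - 1) * (1 + lam • AK.t)) * AK.inv := by
        rw [h1, one_mul]
    _ = (1 + lam • AK.t) ^ (N - 1) := by rw [mul_assoc, u_mul_inv, mul_one]

/-- `AK ≃ R[X]/(P)`. -/
noncomputable def equivAdjoinRoot (hN : 0 < N) : AK R lam N h ≃ₐ[R] AdjoinRoot (psiPoly lam N h) :=
  AlgEquiv.ofAlgHom (toAdjoinRoot h hN) (ofAdjoinRoot h)
    (by
      apply AdjoinRoot.algHom_ext
      rw [AlgHom.comp_apply, ofAdjoinRoot_root, toAdjoinRoot_t, AlgHom.id_apply])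
    (by
      apply AK.algHom_ext
      · rw [AlgHom.comp_apply, toAdjoinRoot_t, ofAdjoinRoot_root, AlgHom.id_apply]
      · rw [AlgHom.comp_apply, toAdjoinRoot_inv, map_pow, map_add, map_one, map_smul,
          ofAdjoinRoot_root, AlgHom.id_apply, ← inv_eq h hN])

theorem finite_AK (hN : 0 < N) : Module.Finite R (AK R lam N h) := by
  have := (monic_psiPoly h hN).finite_adjoinRoot
  exact Module.Finite.equiv (equivAdjoinRoot h hN).symm.toLinearEquiv

theorem free_AK (hN : 0 < N) : Module.Free R (AK R lam N h) := by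
  have := (monic_psiPoly h hN).free_adjoinRoot
  exact Module.Free.of_equiv (equivAdjoinRoot h hN).symm.toLinearEquiv

end SekSuwaFin

end Groth.Agent.H40
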