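import Groth.Agent.H40.SekSuwaIso
import Groth.Agent.H40.SekSuwaFin
import Groth.Agent.H40.ActPts
import Groth.Agent.H40.CyclicAct
import Mathlib.RingTheory.IntegralDomain

/-!
# Points of the finite Sekiguchi–Suwa group scheme `G_{λ,N}`

The `Y`-points of `G_{λ,N}` are functions `b` on `Y`; `b ↦ 1 + λ b` is a homomorphism to the `N`-th
roots of unity of `Γ(Y)`, injective when `Γ(Y)` is a domain in which `λ ≠ 0`.  Consequently an action
of `G_{μ,p}` on `G_{λ,p}` by group automorphisms is trivial on such points.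
-/

set_option autoImplicit false
universe u

open CategoryTheory AlgebraicGeometry CategoryTheory.Limits MonoidalCategory
  CartesianMonoidalCategory MonObj
open Groth.Agent.H42
open scoped TensorProduct

namespace Groth.Agent.H40.GKP

open SekSuwa SpecPts

variable {R : Type u} [CommRing R] {Y : Over (Spec (CommRingCat.of R))}

section Gen

variable {B : Type u} [CommRing B] [Bialgebra R B]

lemma pb_ptL_algebraMap (c : Y ⟶ (Spec (CommRingCat.of B)).asOver (Spec (CommRingCat.of R)))
    (r : R) : pb (ptL c) (algebraMap R B r) = pb Y.hom r := by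
  rw [← pb_comp_specMap, ptL_w]

lemma pb_ptL_smul (c : Y ⟶ (Spec (CommRingCat.of B)).asOver (Spec (CommRingCat.of R)))
    (r : R) (z : B) : pb (ptL c) (r • z) = pb Y.hom r * pb (ptL c) z := by
  rw [Algebra.smul_def, map_mul, pb_ptL_algebraMap]

lemma pb_pairPt_smul (c d : Y ⟶ (Spec (CommRingCat.of B)).asOver (Spec (CommRingCat.of R)))
    (r : R) (z : B ⊗[R] B) : pb (pairPt c d) (r • z) = pb Y.hom r * pb (pairPt c d) z := by
  have e : r • z = ((algebraMap R B r) ⊗ₜ[R] (1 : B)) * z := by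
    rw [← Algebra.TensorProduct.algebraMap_apply, ← Algebra.smul_def]
  rw [e, map_mul, pb_pairPt_tmul, map_one, _root_.mul_one, pb_ptL_algebraMap]

end Gen

variable {lam : R} {N : ℕ} (h : DivCond lam N)

/-- the function defined by a point of `G_{λ,N}`. -/
noncomputable def gkFn (x : Y ⟶ GK R lam N h) : Γ(Y.left, ⊤) := pb (ptL x) AK.t

/-- the unit `1 + λ b` defined by a point `b` of `G_{λ,N}`. -/
noncomputable def gkU (x : Y ⟶ GK R lam N h) : Γ(Y.left, ⊤) := 1 + pb Y.hom lam * gkFn h x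

lemma gkU_eq (x : Y ⟶ GK R lam N h) : gkU h x = pb (ptL x) (1 + lam • AK.t) := by
  rw [gkU, gkFn, map_add, map_one, pb_ptL_smul]

lemma gkFn_mul (x y : Y ⟶ GK R lam N h) :
    gkFn h (x * y) = gkFn h x + gkFn h y + pb Y.hom lam * (gkFn h x * gkFn h y) := by
  unfold gkFn
  rw [pb_ptL_mul, AK.comul_t, map_add, map_add, pb_pairPt_smul, pb_pairPt_tmul, pb_pairPt_tmul,
    pb_pairPt_tmul, map_one, map_one, _root_.mul_one, _root_.one_mul]

lemma gkFn_one : gkFn h (1 : Y ⟶ GK R lam N h) = 0 := by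
  unfold gkFn
  rw [pb_ptL_one, AK.counit_t, map_zero]

lemma gkU_mul (x y : Y ⟶ GK R lam N h) : gkU h (x * y) = gkU h x * gkU h y := by
  unfold gkU
  rw [gkFn_mul]
  ring

lemma gkU_one : gkU h (1 : Y ⟶ GK R lam N h) = 1 := by
  unfold gkU
  rw [gkFn_one, mul_zero, add_zero]

lemma gkU_pow_self (x : Y ⟶ GK R lam N h) : gkU h x ^ N = 1 := by
  rw [gkU_eq, ← map_pow, AK.u_pow, map_one]

lemma gkFn_injective : Function.Injective (gkFn h (Y := Y)) := by
  intro c d hcd
  apply ptAlg_injective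
  letI := algY Y
  apply AK.algHom_ext
  · exact hcd
  · show pb (ptL c) AK.inv = pb (ptL d) AK.inv
    have hc : pb (ptL c) (1 + lam • AK.t) * pb (ptL c) AK.inv = 1 := by
      rw [← map_mul, SekSuwaFin.u_mul_inv, map_one]
    have hd : pb (ptL d) (1 + lam • AK.t) * pb (ptL d) AK.inv = 1 := by
      rw [← map_mul, SekSuwaFin.u_mul_inv, map_one]
    have hu : pb (ptL c) (1 + lam • AK.t) = pb (ptL d) (1 + lam • AK.t) := by
      rw [← gkU_eq, ← gkU_eq, gkU, gkU, hcd]
    rw [hu] at hc
    have hunit : IsUnit (pb (ptL d) (1 + lam • (AK.t : AK R lam N h))) :=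
      IsUnit.of_mul_eq_one _ hd
    exact hunit.mul_left_cancel (hc.trans hd.symm)

lemma gkFn_comp {Y' : Over (Spec (CommRingCat.of R))} (k : Y' ⟶ Y) (x : Y ⟶ GK R lam N h) :
    gkFn h (k ≫ x) = k.left.appTop (gkFn h x) := by
  unfold gkFn
  rw [ptL_comp, pb_comp]

/-- `b ↦ 1 + λ b` as a monoid homomorphism. -/
noncomputable def gkUHom : (Y ⟶ GK R lam N h) →* Γ(Y.left, ⊤) where
  toFun := gkU h
  map_one' := gkU_one h
  map_mul' := gkU_mul h

section Domain

variable [IsDomain Γ(Y.left, ⊤)] (hlam : pb Y.hom lam ≠ 0)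

include hlam

lemma gkU_injective : Function.Injective (gkU h (Y := Y)) := by
  intro x y hxy
  apply gkFn_injective h
  unfold gkU at hxy
  exact mul_left_cancel₀ hlam (add_left_cancel hxy)

lemma pow_eq_one (x : Y ⟶ GK R lam N h) : x ^ N = 1 := by
  apply gkU_injective h hlam
  have : gkU h (x ^ N) = gkU h x ^ N := map_pow (gkUHom h) x N
  rw [this, gkU_pow_self, gkU_one]

lemma finite_pts (hN : 0 < N) : Finite (Y ⟶ GK R lam N h) := by
  classical
  let F : (Y ⟶ GK R lam N h) → Polynomial.nthRootsFinset N (1 : Γ(Y.left, ⊤)) := fun x =>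
    ⟨gkU h x, (Polynomial.mem_nthRootsFinset hN 1).mpr (gkU_pow_self h x)⟩
  have hF : Function.Injective F := by
    intro x y hxy
    exact gkU_injective h hlam (congrArg Subtype.val hxy)
  exact Finite.of_injective F hF

lemma isCyclic_pts (hN : 0 < N) : IsCyclic (Y ⟶ GK R lam N h) := by
  haveI := finite_pts h hlam hN
  exact isCyclic_of_injective_ringHom (gkUHom h) (gkU_injective h hlam)

end Domain

/-- An action of `G_{μ,p}` on `G_{λ,p}` by group automorphisms is trivial on points with values in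
a scheme whose ring of functions is a domain in which `λ` and `μ` are non-zero. -/
theorem act_eq_of_isDomain {mu : R} {p : ℕ} [Fact p.Prime] (h₁ : DivCond lam p)
    (h₂ : DivCond mu p) [IsDomain Γ(Y.left, ⊤)]
    (hlam : pb Y.hom lam ≠ 0) (hmu : pb Y.hom mu ≠ 0)
    (a : AlgGrp.Action (GK R mu p h₂) (GK R lam p h₁))
    (hmul : ∀ (g : Y ⟶ GK R mu p h₂) (x y : Y ⟶ GK R lam p h₁),
      lift g (x * y) ≫ a.act = (lift g x ≫ a.act) * (lift g y ≫ a.act))
    (g : Y ⟶ GK R mu p h₂) (x : Y ⟶ GK R lam p h₁) : lift g x ≫ a.act = x := by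
  have hp : 0 < p := (Fact.out : p.Prime).pos
  haveI := finite_pts h₁ hlam hp
  haveI := isCyclic_pts h₁ hlam hp
  exact act_trivial_of_pow_eq_one p (fun g x => psmul a g x) (fun x => one_psmul a x)
    (fun g k x => mul_psmul a g k x) hmul (pow_eq_one h₂ hmu) (pow_eq_one h₁ hlam) g x

end Groth.Agent.H40.GKP
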