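import Groth.Agent.H40.SekSuwaFin
import Mathlib.LinearAlgebra.Vandermonde
import Mathlib.LinearAlgebra.TensorProduct.Basis
import Mathlib.RingTheory.RootsOfUnity.PrimitiveRoots
import Mathlib.RingTheory.PowerBasis

/-!
# Points of `G_{λ,N}` in a domain with enough roots of unity separate functions
-/

set_option autoImplicit false
universe u v

open Polynomial
open scoped TensorProduct

namespace Groth.Agent.H40

namespace GKSep

open SekSuwa SekSuwaFin

variable {R : Type u} [CommRing R] {lam : R} {N : ℕ} (h : DivCond lam N)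
variable {L : Type v} [CommRing L] [IsDomain L] [Algebra R L]

/-- the root `(ζ^a - 1)/λ` of `P_{λ,N}`. -/
noncomputable def rt (hlam : IsUnit (algebraMap R L lam)) (ζ : L) (a : Fin N) : L :=
  ↑(hlam.unit⁻¹) * (ζ ^ (a : ℕ) - 1)

omit [IsDomain L] in
theorem lam_mul_rt (hlam : IsUnit (algebraMap R L lam)) (ζ : L) (a : Fin N) :
    algebraMap R L lam * rt hlam ζ a = ζ ^ (a : ℕ) - 1 := by
  rw [rt, ← mul_assoc]
  have : algebraMap R L lam * ↑(hlam.unit⁻¹) = 1 := hlam.mul_val_inv
  rw [this, one_mul]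

omit [IsDomain L] in
theorem aeval_rt (hlam : IsUnit (algebraMap R L lam)) {ζ : L} (hζ : ζ ^ N = 1) (a : Fin N) :
    aeval (rt hlam ζ a) (psiPoly lam N h) = 0 := by
  have e := aeval_psiPoly h (rt hlam ζ a)
  have e2 : (1 + algebraMap R L lam * rt hlam ζ a) ^ N - 1 = 0 := by
    rw [lam_mul_rt, add_sub_cancel, ← pow_mul, mul_comm, pow_mul, hζ, one_pow, sub_self]
  rw [e2] at e
  have hu : IsUnit (algebraMap R L (lam ^ N)) := by
    rw [map_pow]
    exact hlam.pow N
  exact (hu.mul_right_eq_zero).mp e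

omit [IsDomain L] in
theorem rt_injective (hlam : IsUnit (algebraMap R L lam)) {ζ : L} (hζ : IsPrimitiveRoot ζ N) :
    Function.Injective (rt (N := N) hlam ζ) := by
  intro a b hab
  have h1 : ζ ^ (a : ℕ) - 1 = ζ ^ (b : ℕ) - 1 := by
    rw [← lam_mul_rt hlam ζ a, ← lam_mul_rt hlam ζ b, hab]
  have h2 : ζ ^ (a : ℕ) = ζ ^ (b : ℕ) := sub_left_injective h1
  exact Fin.ext (hζ.pow_inj a.isLt b.isLt h2)

/-- the point of `G_{λ,N}` defined by a root of `P_{λ,N}`. -/
noncomputable def ptHom (hN : 0 < N) (b : L) (hb : aeval b (psiPoly lam N h) = 0) :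
    AK R lam N h →ₐ[R] L :=
  (AdjoinRoot.liftAlgHom (psiPoly lam N h) (Algebra.ofId R L) b hb).comp (toAdjoinRoot h hN)

omit [IsDomain L] in
theorem ptHom_t (hN : 0 < N) (b : L) (hb : aeval b (psiPoly lam N h) = 0) :
    ptHom h hN b hb AK.t = b := by
  rw [ptHom, AlgHom.comp_apply, toAdjoinRoot_t, AdjoinRoot.liftAlgHom_root]

variable [Nontrivial R]

/-- the basis `1, t, …, t^{N-1}` of the coordinate ring of `G_{λ,N}`. -/
noncomputable def bAK (hN : 0 < N) : Module.Basis (Fin N) R (AK R lam N h) :=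
  (((AdjoinRoot.powerBasis' (monic_psiPoly h hN)).map (equivAdjoinRoot h hN).symm).basis).reindex
    (finCongr (natDegree_psiPoly h hN))

theorem bAK_apply (hN : 0 < N) (i : Fin N) : bAK h hN i = AK.t ^ (i : ℕ) := by
  rw [bAK, Module.Basis.reindex_apply, PowerBasis.basis_eq_pow, PowerBasis.map_gen,
    AdjoinRoot.powerBasis'_gen]
  have : (equivAdjoinRoot h hN).symm (AdjoinRoot.root (psiPoly lam N h)) = AK.t :=
    ofAdjoinRoot_root h
  rw [this]
  rfl

section Sep

variable {mu : R} (h₂ : DivCond mu N)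

/-- An element of the coordinate ring of `G_{μ,N} × G_{λ,N}` vanishing at all points with values in
a domain `L ⊇ R` containing a primitive `N`-th root of unity and inverses of `λ`, `μ` is zero. -/
theorem eq_zero_of_forall_productMap_eq_zero (hN : 0 < N)
    (hinj : Function.Injective (algebraMap R L))
    (hlam : IsUnit (algebraMap R L lam)) (hmu : IsUnit (algebraMap R L mu))
    {ζ : L} (hζ : IsPrimitiveRoot ζ N)
    (f : AK R mu N h₂ ⊗[R] AK R lam N h)
    (hf : ∀ (φ : AK R mu N h₂ →ₐ[R] L) (φ' : AK R lam N h →ₐ[R] L),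
      Algebra.TensorProduct.productMap φ φ' f = 0) : f = 0 := by
  classical
  let B := (bAK h₂ hN).tensorProduct (bAK h hN)
  have hfB : f = ∑ ij : Fin N × Fin N, B.repr f ij • B ij := (B.sum_repr f).symm
  let C : Fin N → Fin N → L := fun i j => algebraMap R L (B.repr f (i, j))
  have hζN : ζ ^ N = 1 := hζ.pow_eq_one
  have key : ∀ a a' : Fin N,
      ∑ j : Fin N, (∑ i : Fin N, C i j * rt hmu ζ a ^ (i : ℕ)) * rt hlam ζ a' ^ (j : ℕ) = 0 := by
    intro a a'
    have h0 := hf (ptHom h₂ hN (rt hmu ζ a) (aeval_rt h₂ hmu hζN a))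
      (ptHom h hN (rt hlam ζ a') (aeval_rt h hlam hζN a'))
    rw [hfB, map_sum, Fintype.sum_prod_type, Finset.sum_comm] at h0
    rw [← h0]
    refine Finset.sum_congr rfl fun j _ => ?_
    rw [Finset.sum_mul]
    refine Finset.sum_congr rfl fun i _ => ?_
    rw [map_smul, Module.Basis.tensorProduct_apply, bAK_apply, bAK_apply,
      Algebra.TensorProduct.productMap_apply_tmul, map_pow, map_pow, ptHom_t, ptHom_t,
      Algebra.smul_def]
    ring
  have hv : ∀ (a : Fin N) (j : Fin N), ∑ i : Fin N, C i j * rt hmu ζ a ^ (i : ℕ) = 0 := by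
    intro a
    have := Matrix.eq_zero_of_forall_index_sum_mul_pow_eq_zero (rt_injective hlam hζ)
      (v := fun j => ∑ i : Fin N, C i j * rt hmu ζ a ^ (i : ℕ)) (fun a' => key a a')
    intro j
    exact congrFun this j
  have hC : ∀ (j i : Fin N), C i j = 0 := by
    intro j
    have := Matrix.eq_zero_of_forall_index_sum_mul_pow_eq_zero (rt_injective hmu hζ)
      (v := fun i => C i j) (fun a => hv a j)
    intro i
    exact congrFun this i
  have hrepr : B.repr f = 0 := by
    ext ⟨i, j⟩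
    have := hC j i
    show B.repr f (i, j) = 0
    exact hinj (this.trans (map_zero _).symm)
  exact (B.repr.map_eq_zero_iff).mp hrepr

end Sep

end GKSep

end Groth.Agent.H40
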