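import Groth.Agent.H40.GKPts
import Groth.Agent.H40.GKSep
import Mathlib.RingTheory.RootsOfUnity.AlgebraicallyClosed

set_option autoImplicit false
universe u

open CategoryTheory AlgebraicGeometry CategoryTheory.Limits MonoidalCategory
  CartesianMonoidalCategory MonObj
open Groth.Agent.H42
open scoped TensorProduct

namespace Groth.Agent.H40.GKTriv

open SekSuwa SpecPts

section Pair

variable {R A B : Type u} [CommRing R] [CommRing A] [CommRing B] [Bialgebra R A] [Bialgebra R B]
  {Y : Over (Spec (CommRingCat.of R))}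

/-- the product of two affine `R`-schemes is the spectrum of the tensor product. -/
noncomputable def prodIso :
    ((Spec (CommRingCat.of A)).asOver (Spec (CommRingCat.of R)) ⊗
      (Spec (CommRingCat.of B)).asOver (Spec (CommRingCat.of R))).left ≅
      Spec (CommRingCat.of (A ⊗[R] B)) :=
  pullbackSpecIso R A B

lemma prodIso_hom_fst :
    (prodIso (R := R) (A := A) (B := B)).hom ≫ Spec.map (CommRingCat.ofHom
      (Algebra.TensorProduct.includeLeftRingHom : A →+* A ⊗[R] B)) =
      (fst ((Spec (CommRingCat.of A)).asOver (Spec (CommRingCat.of R)))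
        ((Spec (CommRingCat.of B)).asOver (Spec (CommRingCat.of R)))).left :=
  pullbackSpecIso_hom_fst R A B

lemma prodIso_hom_snd :
    (prodIso (R := R) (A := A) (B := B)).hom ≫ Spec.map (CommRingCat.ofHom
      (RingHomClass.toRingHom (Algebra.TensorProduct.includeRight : B →ₐ[R] A ⊗[R] B))) =
      (snd ((Spec (CommRingCat.of A)).asOver (Spec (CommRingCat.of R)))
        ((Spec (CommRingCat.of B)).asOver (Spec (CommRingCat.of R)))).left :=
  pullbackSpecIso_hom_snd R A B

lemma pb_lift_prodIso_tmul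
    (c : Y ⟶ (Spec (CommRingCat.of A)).asOver (Spec (CommRingCat.of R)))
    (d : Y ⟶ (Spec (CommRingCat.of B)).asOver (Spec (CommRingCat.of R))) (x : A) (y : B) :
    pb ((lift c d).left ≫ (prodIso (R := R) (A := A) (B := B)).hom) (x ⊗ₜ[R] y) =
      pb (ptL c) x * pb (ptL d) y := by
  have h1 : ((lift c d).left ≫ (prodIso (R := R) (A := A) (B := B)).hom) ≫
      Spec.map (CommRingCat.ofHom
      (Algebra.TensorProduct.includeLeftRingHom : A →+* A ⊗[R] B)) = ptL c := by
    rw [Category.assoc, prodIso_hom_fst]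
    exact congrArg (fun k => k.left) (lift_fst c d)
  have h2 : ((lift c d).left ≫ (prodIso (R := R) (A := A) (B := B)).hom) ≫
      Spec.map (CommRingCat.ofHom
      (RingHomClass.toRingHom (Algebra.TensorProduct.includeRight : B →ₐ[R] A ⊗[R] B))) =
        ptL d := by
    rw [Category.assoc, prodIso_hom_snd]
    exact congrArg (fun k => k.left) (lift_snd c d)
  have e : x ⊗ₜ[R] y = (Algebra.TensorProduct.includeLeftRingHom : A →+* A ⊗[R] B) x *
      (RingHomClass.toRingHom (Algebra.TensorProduct.includeRight : B →ₐ[R] A ⊗[R] B)) y := by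
    simp [Algebra.TensorProduct.tmul_mul_tmul]
  rw [e, map_mul, ← pb_comp_specMap, ← pb_comp_specMap, h1, h2]

lemma pb_lift_prodIso
    (c : Y ⟶ (Spec (CommRingCat.of A)).asOver (Spec (CommRingCat.of R)))
    (d : Y ⟶ (Spec (CommRingCat.of B)).asOver (Spec (CommRingCat.of R))) (z : A ⊗[R] B) :
    letI := algY Y
    pb ((lift c d).left ≫ (prodIso (R := R) (A := A) (B := B)).hom) z =
      Algebra.TensorProduct.productMap (ptAlg c) (ptAlg d) z := by
  letI := algY Y
  induction z using TensorProduct.induction_on with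
  | zero => rw [map_zero, map_zero]
  | tmul x y =>
    rw [pb_lift_prodIso_tmul, Algebra.TensorProduct.productMap_apply_tmul]
    rfl
  | add z w hz hw => rw [map_add, map_add, hz, hw]

lemma pb_prodIso_surjective :
    Function.Surjective (pb (prodIso (R := R) (A := A) (B := B)).hom) := by
  intro s
  haveI : IsIso (prodIso (R := R) (A := A) (B := B)).hom.appTop :=
    inferInstanceAs (IsIso ((prodIso (R := R) (A := A) (B := B)).hom.app ⊤))
  have := (ConcreteCategory.bijective_of_isIso
    ((Scheme.ΓSpecIso (CommRingCat.of (A ⊗[R] B))).inv ≫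
      (prodIso (R := R) (A := A) (B := B)).hom.appTop)).2 s
  exact this

end Pair

section Sep

variable {R : Type u} [CommRing R] [Nontrivial R] {lam mu : R} {N : ℕ} (h₁ : DivCond lam N)
  (h₂ : DivCond mu N) {Y : Over (Spec (CommRingCat.of R))} [IsDomain Γ(Y.left, ⊤)]

/-- A function on `G_{μ,N} × G_{λ,N}` vanishing at all `Y`-points is zero, when `Γ(Y)` is a domain
containing `R`, a primitive `N`-th root of unity and inverses of `λ` and `μ`. -/
theorem eq_zero_of_forall_point (hN : 0 < N) (hinj : Function.Injective (pb Y.hom))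
    (hlam : IsUnit (pb Y.hom lam)) (hmu : IsUnit (pb Y.hom mu))
    {ζ : Γ(Y.left, ⊤)} (hζ : IsPrimitiveRoot ζ N)
    (s : Γ((GK R mu N h₂ ⊗ GK R lam N h₁).left, ⊤))
    (hs : ∀ (c : Y ⟶ GK R mu N h₂) (d : Y ⟶ GK R lam N h₁), (lift c d).left.appTop s = 0) :
    s = 0 := by
  letI := algY Y
  obtain ⟨f, rfl⟩ := pb_prodIso_surjective (R := R) (A := AK R mu N h₂) (B := AK R lam N h₁) s
  have hf : f = 0 := by
    refine GKSep.eq_zero_of_forall_productMap_eq_zero (L := Γ(Y.left, ⊤)) h₁ h₂ hN hinj hlam hmu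
      hζ f ?_
    intro φ φ'
    obtain ⟨c, rfl⟩ := ptAlg_surjective (B := AK R mu N h₂) (Y := Y) φ
    obtain ⟨d, rfl⟩ := ptAlg_surjective (B := AK R lam N h₁) (Y := Y) φ'
    rw [← pb_lift_prodIso, pb_comp]
    exact hs c d
  rw [hf, map_zero]

end Sep

section Field

variable (R : Type u) [CommRing R] (L : Type u) [Field L] [Algebra R L]

/-- `Spec L` as a scheme over `Spec R`. -/
noncomputable abbrev YL : Over (Spec (CommRingCat.of R)) :=
  (Spec (CommRingCat.of L)).asOver (Spec (CommRingCat.of R))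

variable {R L}

lemma pb_YL (r : R) :
    pb (YL R L).hom r = (Scheme.ΓSpecIso (CommRingCat.of L)).inv (algebraMap R L r) := by
  have h := pb_comp_specMap (𝟙 (Spec (CommRingCat.of L))) (algebraMap R L) r
  rw [Category.id_comp] at h
  refine h.trans ?_
  rw [pb_apply]
  simp

instance isDomain_YL : IsDomain Γ((YL R L).left, ⊤) :=
  MulEquiv.isDomain L (Scheme.ΓSpecIso (CommRingCat.of L)).commRingCatIsoToRingEquiv.toMulEquiv

end Field

section Main

variable (R : Type u) [CommRing R] [IsDomain R] [CharZero R] (p : ℕ) [Fact p.Prime] (lam mu : R)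
  (h₁ : DivCond lam p) (h₂ : DivCond mu p)

/-- Over a domain of characteristic zero, an action of `G_{μ,p}` on `G_{λ,p}` by group automorphisms
is trivial. -/
theorem act_eq_snd (a : AlgGrp.Action (GK R mu p h₂) (GK R lam p h₁))
    (hmul : ∀ (T : Over (Spec (CommRingCat.of R))) (g : T ⟶ GK R mu p h₂)
      (x y : T ⟶ GK R lam p h₁),
      lift g (x * y) ≫ a.act = (lift g x ≫ a.act) * (lift g y ≫ a.act)) :
    a.act = snd (GK R mu p h₂) (GK R lam p h₁) := by
  let K := FractionRing R
  let L := AlgebraicClosure K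
  have hp : 0 < p := (Fact.out : p.Prime).pos
  have hinjL : Function.Injective (algebraMap R L) := by
    rw [IsScalarTower.algebraMap_eq R K L]
    exact (algebraMap K L).injective.comp (IsFractionRing.injective R K)
  haveI : CharZero L := charZero_of_injective_algebraMap hinjL
  haveI : NeZero (p : L) := ⟨Nat.cast_ne_zero.mpr hp.ne'⟩
  obtain ⟨ζ, hζ⟩ := HasEnoughRootsOfUnity.exists_primitiveRoot L p
  have hΓinj : Function.Injective (Scheme.ΓSpecIso (CommRingCat.of L)).inv.hom :=
    (ConcreteCategory.bijective_of_isIso (Scheme.ΓSpecIso (CommRingCat.of L)).inv).1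
  have hinj : Function.Injective (pb (YL R L).hom) := by
    intro r r' hrr
    rw [pb_YL, pb_YL] at hrr
    exact hinjL (hΓinj hrr)
  have hunit : ∀ r : R, r ∈ nonZeroDivisors R → IsUnit (pb (YL R L).hom r) := by
    intro r hr
    rw [pb_YL]
    have : algebraMap R L r ≠ 0 := fun h0 =>
      nonZeroDivisors.ne_zero hr (hinjL (h0.trans (map_zero _).symm))
    exact (this.isUnit).map (Scheme.ΓSpecIso (CommRingCat.of L)).inv.hom
  have hζ' : IsPrimitiveRoot ((Scheme.ΓSpecIso (CommRingCat.of L)).inv.hom ζ) p :=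
    hζ.map_of_injective hΓinj
  apply GKP.gkFn_injective h₁
  rw [← sub_eq_zero]
  apply eq_zero_of_forall_point (Y := YL R L) h₁ h₂ hp hinj (hunit lam h₁.nzd) (hunit mu h₂.nzd) hζ'
  intro c d
  rw [map_sub, ← GKP.gkFn_comp, ← GKP.gkFn_comp, lift_snd,
    GKP.act_eq_of_isDomain h₁ h₂ (hunit lam h₁.nzd).ne_zero (hunit mu h₂.nzd).ne_zero a
      (hmul _) c d, sub_self]

end Main

end Groth.Agent.H40.GKTriv
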