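import Groth.Agent.H40.ActPts
import Groth.Prelude.Def_ChGrp
import Groth.Prelude.Def_W4bk4git07Quot

set_option autoImplicit false
universe u
open CategoryTheory CategoryTheory.Limits MonoidalCategory CartesianMonoidalCategory MonObj GrpObj
  AlgebraicGeometry

namespace Groth.Agent.H40

variable {S : Scheme.{u}} {G X Y : Over S} [GrpObj G]

/-- invariance on points. -/
lemma isInvariant_iff (a : AlgGrp.Action G X) (φ : X ⟶ Y) :
    GIT.IsInvariant a φ ↔
      ∀ (T : Over S) (g : T ⟶ G) (x : T ⟶ X), psmul a g x ≫ φ = x ≫ φ := by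
  constructor
  · intro h T g x
    rw [psmul_def, Category.assoc, h, ← Category.assoc, lift_snd]
  · intro h
    apply AlgGrp.Action.hom_ext_lift₂
    intro T g x
    rw [← Category.assoc, ← psmul_def, h, ← Category.assoc, lift_snd]

end Groth.Agent.H40
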