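import Groth.Agent.H40.Submersive
import Groth.Agent.H40.LocTriv
import Groth.Agent.H40.TorsDesc
import Groth.Agent.H40.FnA1
import Groth.Agent.H40.InvPts
import Mathlib.CategoryTheory.Sites.Hypercover.Subcanonical

/-!
# Geometric quotients from local sections and local transitivity
-/

set_option autoImplicit false
set_option backward.isDefEq.respectTransparency.types false
universe u
open CategoryTheory CategoryTheory.Limits MonoidalCategory CartesianMonoidalCategory MonObj GrpObj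
  AlgebraicGeometry

namespace Groth.Agent.H40

instance fpqc_jointlySurjective : Scheme.JointlySurjective Scheme.fpqcPrecoverage.{u} where
  exists_eq {X} R hR x := by
    have h2 : R ∈ Scheme.precoverage @Flat X := hR.2
    exact Scheme.JointlySurjective.exists_eq (K := Scheme.precoverage @Flat) R h2 x

variable {S : Scheme.{u}} {G X Y : Over S} [GrpObj G]

/-- points of `X` with the same image in `Y` are related by the action, locally for the fpqc
topology. -/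
def LocTrans (a : AlgGrp.Action G X) (q : X ⟶ Y) : Prop :=
  ∀ {Z : Scheme.{u}} (z₁ z₂ : Z ⟶ X.left), z₁ ≫ q.left = z₂ ≫ q.left →
    ∃ 𝒰 : Scheme.Cover.{u + 1} Scheme.fpqcPrecoverage Z, ∀ i,
      ∃ r : 𝒰.X i ⟶ (G ⊗ X).left, r ≫ a.act.left = 𝒰.f i ≫ z₁ ∧
        r ≫ (snd G X).left = 𝒰.f i ≫ z₂

/-- global transitivity implies local transitivity. -/
lemma locTrans_of_lift (a : AlgGrp.Action G X) (q : X ⟶ Y)
    (h : ∀ {Z : Scheme.{u}} (z₁ z₂ : Z ⟶ X.left), z₁ ≫ q.left = z₂ ≫ q.left →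
      ∃ r : Z ⟶ (G ⊗ X).left, r ≫ a.act.left = z₁ ∧ r ≫ (snd G X).left = z₂) :
    LocTrans a q := by
  intro Z z₁ z₂ h12
  obtain ⟨r, hr1, hr2⟩ := h z₁ z₂ h12
  refine ⟨Precoverage.ZeroHypercover.singleton (𝟙 Z)
    (Scheme.Hom.singleton_mem_fpqcPrecoverage (𝟙 Z)), fun i => ⟨r, ?_, ?_⟩⟩
  · exact hr1.trans (Category.id_comp z₁).symm
  · exact hr2.trans (Category.id_comp z₂).symm

section
variable (a : AlgGrp.Action G X) (q : X ⟶ Y) (hinv : GIT.IsInvariant a q)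
  (hsec : NonAbH1.IsLocallyTrivialFor Scheme.fpqcPrecoverage (Over.mk q.left : Over Y.left))
  (htrans : LocTrans a q)

include hsec in
lemma surjective_of_local : Function.Surjective q.left.base := by
  obtain ⟨R, hR, hs⟩ := hsec
  have : Surjective q.left := by
    refine prop_of_fpqcPresieve @Surjective inferInstance q.left hR (fun Z g hg => ?_)
    obtain ⟨s, hs'⟩ := hs g hg
    have hs'' : s ≫ q.left = g := hs'
    subst hs''
    have hσ : pullback.lift s (𝟙 Z) (by simp) ≫ pullback.snd q.left (s ≫ q.left) = 𝟙 Z :=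
      pullback.lift_snd _ _ _
    refine ⟨fun z => ⟨pullback.lift s (𝟙 Z) (by simp) z, ?_⟩⟩
    rw [← Scheme.Hom.comp_apply, hσ]
    rfl
  exact this.surj

include hsec in
lemma subm_of_local : GIT.IsUnivSubmersive q.left := by
  obtain ⟨R, hR, hs⟩ := hsec
  exact isUnivSubmersive_of_fpqc_sections q.left hR (fun U g hg => hs g hg)

include htrans in
lemma orbit_of_local : Function.Surjective (GIT.PsiY a q hinv).base := by
  intro z
  obtain ⟨𝒰, h𝒰⟩ := htrans
    ((pullback q.left q.left).fromSpecResidueField z ≫ pullback.fst q.left q.left)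
    ((pullback q.left q.left).fromSpecResidueField z ≫ pullback.snd q.left q.left)
    (by rw [Category.assoc, Category.assoc, pullback.condition])
  have hne : Nonempty (Spec ((pullback q.left q.left).residueField z)) :=
    inferInstanceAs (Nonempty (PrimeSpectrum _))
  obtain ⟨pt⟩ := hne
  obtain ⟨i, t, ht⟩ := 𝒰.exists_eq pt
  obtain ⟨r, hr1, hr2⟩ := h𝒰 i
  refine ⟨r t, ?_⟩
  have hcomp : r ≫ GIT.PsiY a q hinv = 𝒰.f i ≫ (pullback q.left q.left).fromSpecResidueField z := by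
    apply pullback.hom_ext
    · rw [Category.assoc, Category.assoc, ← hr1]
      congr 1
      exact pullback.lift_fst _ _ _
    · rw [Category.assoc, Category.assoc, ← hr2]
      congr 1
      exact pullback.lift_snd _ _ _
  change (r ≫ GIT.PsiY a q hinv) t = z
  rw [hcomp, Scheme.Hom.comp_apply, Scheme.fromSpecResidueField_apply]

include hinv hsec htrans in
lemma sections_of_local (U : Y.left.Opens) :
    Function.Injective (q.left.app U) ∧
      Set.range (q.left.app U) = {f | GIT.IsInvSection a q U f} := by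
  -- the restricted morphisms
  have hF1 : q.left.resLE U (q.left ⁻¹ᵁ U) le_rfl ≫ U.ι = (q.left ⁻¹ᵁ U).ι ≫ q.left :=
    Scheme.Hom.resLE_comp_ι _ _
  have hle1 : a.act.left ⁻¹ᵁ (q.left ⁻¹ᵁ U) ⊓ (snd G X).left ⁻¹ᵁ (q.left ⁻¹ᵁ U) ≤
      a.act.left ⁻¹ᵁ (q.left ⁻¹ᵁ U) := inf_le_left
  have hle2 : a.act.left ⁻¹ᵁ (q.left ⁻¹ᵁ U) ⊓ (snd G X).left ⁻¹ᵁ (q.left ⁻¹ᵁ U) ≤
      (snd G X).left ⁻¹ᵁ (q.left ⁻¹ᵁ U) := inf_le_right
  have hF2 : a.act.left.resLE (q.left ⁻¹ᵁ U) _ hle1 ≫ (q.left ⁻¹ᵁ U).ι = Scheme.Opens.ι _ ≫ a.act.left :=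
    Scheme.Hom.resLE_comp_ι _ _
  have hF2' : (snd G X).left.resLE (q.left ⁻¹ᵁ U) _ hle2 ≫ (q.left ⁻¹ᵁ U).ι =
      Scheme.Opens.ι _ ≫ (snd G X).left := Scheme.Hom.resLE_comp_ι _ _
  have hF3 : a.act.left.resLE (q.left ⁻¹ᵁ U) _ hle1 ≫ q.left.resLE U (q.left ⁻¹ᵁ U) le_rfl =
      (snd G X).left.resLE (q.left ⁻¹ᵁ U) _ hle2 ≫ q.left.resLE U (q.left ⁻¹ᵁ U) le_rfl := by
    rw [← cancel_mono U.ι, Category.assoc, Category.assoc, hF1, reassoc_of% hF2,
      reassoc_of% hF2', hinv.left]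
  -- local sections of the restriction
  have hpb : IsPullback (q.left ⁻¹ᵁ U).ι (q.left.resLE U (q.left ⁻¹ᵁ U) le_rfl) q.left U.ι := by
    rw [Scheme.Hom.resLE_eq_morphismRestrict]
    exact (isPullback_morphismRestrict q.left U).flip
  obtain ⟨R, hR, hs⟩ := isLocallyTrivialFor_of_isPullback hpb hsec
  have hs' : ∀ ⦃Z : Scheme.{u}⦄ (g : Z ⟶ U.toScheme), R g →
      ∃ s : Z ⟶ (q.left ⁻¹ᵁ U).toScheme, s ≫ q.left.resLE U (q.left ⁻¹ᵁ U) le_rfl = g :=
    fun Z g hg => hs g hg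
  -- descent of invariant maps to the affine line
  have hdesc : ∀ e : (q.left ⁻¹ᵁ U).toScheme ⟶ A1.{u},
      a.act.left.resLE (q.left ⁻¹ᵁ U) _ hle1 ≫ e = (snd G X).left.resLE (q.left ⁻¹ᵁ U) _ hle2 ≫ e →
      ∃! w : U.toScheme ⟶ A1.{u}, q.left.resLE U (q.left ⁻¹ᵁ U) le_rfl ≫ w = e := by
    intro e he
    refine existsUnique_desc_of_fpqc_sections _ hR hs' e ?_
    intro Z z₁ z₂ h12
    obtain ⟨𝒰, h𝒰⟩ := htrans (z₁ ≫ (q.left ⁻¹ᵁ U).ι) (z₂ ≫ (q.left ⁻¹ᵁ U).ι) (by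
      rw [Category.assoc, Category.assoc, ← hF1, reassoc_of% h12])
    apply Precoverage.ZeroHypercover.hom_ext 𝒰
    intro i
    obtain ⟨r, hr1, hr2⟩ := h𝒰 i
    have hrange : Set.range r ⊆ Set.range
        (Scheme.Opens.ι (a.act.left ⁻¹ᵁ (q.left ⁻¹ᵁ U) ⊓ (snd G X).left ⁻¹ᵁ (q.left ⁻¹ᵁ U))) := by
      rw [Scheme.Opens.range_ι]
      rintro _ ⟨t, rfl⟩
      refine ⟨?_, ?_⟩
      · change a.act.left (r t) ∈ q.left ⁻¹ᵁ U
        rw [← Scheme.Hom.comp_apply, hr1, Scheme.Hom.comp_apply, Scheme.Hom.comp_apply]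
        exact ((𝒰.f i ≫ z₁) t).2
      · change (snd G X).left (r t) ∈ q.left ⁻¹ᵁ U
        rw [← Scheme.Hom.comp_apply, hr2, Scheme.Hom.comp_apply, Scheme.Hom.comp_apply]
        exact ((𝒰.f i ≫ z₂) t).2
    have hr' : IsOpenImmersion.lift (Scheme.Opens.ι _) r hrange ≫ Scheme.Opens.ι _ = r :=
      IsOpenImmersion.lift_fac _ _ _
    have e1 : IsOpenImmersion.lift (Scheme.Opens.ι _) r hrange ≫
        a.act.left.resLE (q.left ⁻¹ᵁ U) _ hle1 = 𝒰.f i ≫ z₁ := by
      rw [← cancel_mono (q.left ⁻¹ᵁ U).ι, Category.assoc, hF2, reassoc_of% hr', hr1, Category.assoc]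
    have e2 : IsOpenImmersion.lift (Scheme.Opens.ι _) r hrange ≫
        (snd G X).left.resLE (q.left ⁻¹ᵁ U) _ hle2 = 𝒰.f i ≫ z₂ := by
      rw [← cancel_mono (q.left ⁻¹ᵁ U).ι, Category.assoc, hF2', reassoc_of% hr', hr2, Category.assoc]
    rw [← Category.assoc, ← e1, Category.assoc, he, ← Category.assoc, e2, Category.assoc]
  have happ : ∀ w : U.toScheme ⟶ A1.{u},
      (q.left.app U).hom (fnOpen U w) =
        fnOpen (q.left ⁻¹ᵁ U) (q.left.resLE U (q.left ⁻¹ᵁ U) le_rfl ≫ w) := by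
    intro w
    rw [fnOpen_resLE, Scheme.Hom.appLE_eq_app]
  refine ⟨?_, ?_⟩
  · intro s₁ s₂ h12
    obtain ⟨w, -, hwu⟩ := hdesc (q.left.resLE U (q.left ⁻¹ᵁ U) le_rfl ≫ (fnOpen U).symm s₁) (by
      rw [reassoc_of% hF3])
    have h1 := hwu ((fnOpen U).symm s₁) rfl
    have h2 := hwu ((fnOpen U).symm s₂) (by
      change q.left.resLE U (q.left ⁻¹ᵁ U) le_rfl ≫ (fnOpen U).symm s₂ =
        q.left.resLE U (q.left ⁻¹ᵁ U) le_rfl ≫ (fnOpen U).symm s₁
      apply (fnOpen (q.left ⁻¹ᵁ U)).injective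
      rw [← happ, ← happ, Equiv.apply_symm_apply, Equiv.apply_symm_apply]
      exact h12.symm)
    exact (fnOpen U).symm.injective (h1.trans h2.symm)
  · ext f
    simp only [Set.mem_range, Set.mem_ofPred_eq]
    have hinvsec : GIT.IsInvSection a q U f ↔
        a.act.left.resLE (q.left ⁻¹ᵁ U) _ hle1 ≫ (fnOpen (q.left ⁻¹ᵁ U)).symm f =
          (snd G X).left.resLE (q.left ⁻¹ᵁ U) _ hle2 ≫ (fnOpen (q.left ⁻¹ᵁ U)).symm f := by
      rw [← (fnOpen _).apply_eq_iff_eq, fnOpen_resLE, fnOpen_resLE, Equiv.apply_symm_apply]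
      rfl
    rw [hinvsec]
    constructor
    · rintro ⟨s, rfl⟩
      have : (fnOpen (q.left ⁻¹ᵁ U)).symm ((q.left.app U).hom s) =
          q.left.resLE U (q.left ⁻¹ᵁ U) le_rfl ≫ (fnOpen U).symm s := by
        rw [Equiv.symm_apply_eq, ← happ, Equiv.apply_symm_apply]
      change _ ≫ (fnOpen (q.left ⁻¹ᵁ U)).symm ((q.left.app U).hom s) =
        _ ≫ (fnOpen (q.left ⁻¹ᵁ U)).symm ((q.left.app U).hom s)
      rw [this, reassoc_of% hF3]
    · intro he
      obtain ⟨w, hw, -⟩ := hdesc _ he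
      refine ⟨fnOpen U w, ?_⟩
      change (q.left.app U).hom (fnOpen U w) = f
      rw [happ, hw, Equiv.apply_symm_apply]

end

/-- the main criterion. -/
theorem isGeomQuot_of_local (a : AlgGrp.Action G X) (q : X ⟶ Y) (hinv : GIT.IsInvariant a q)
    (hsec : NonAbH1.IsLocallyTrivialFor Scheme.fpqcPrecoverage (Over.mk q.left : Over Y.left))
    (htrans : LocTrans a q) : GIT.IsGeomQuot a q where
  inv := hinv
  surj := surjective_of_local q hsec
  orbit := orbit_of_local a q hinv htrans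
  subm := subm_of_local q hsec
  sections := sections_of_local a q hinv hsec htrans

end Groth.Agent.H40
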