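import Groth.Agent.H40.GLamPts
import Groth.Agent.H40.FpqcTors
import Groth.Agent.H40.GeomQuot

/-!
# The coordinate ring of `G^(λ)` is flat over `R`, and consequences for torsors
-/

set_option autoImplicit false
universe u

open CategoryTheory AlgebraicGeometry CategoryTheory.Limits MonoidalCategory
  CartesianMonoidalCategory MonObj
open scoped TensorProduct Polynomial

namespace Groth.Agent.H40.GLam

open SekSuwa

section Ring

variable (R : Type u) [CommRing R] (lam : R)

/-- `1 + λ X ∈ R[X]`. -/
noncomputable def uPoly : R[X] := 1 + lam • Polynomial.X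

lemma algebraMap_uPoly (L : Type u) [CommRing L] [Algebra R[X] L] [Algebra R L]
    [IsScalarTower R R[X] L] :
    algebraMap R[X] L (uPoly R lam) = 1 + lam • algebraMap R[X] L Polynomial.X := by
  unfold uPoly
  rw [map_add, map_one, Algebra.smul_def, map_mul, ← IsScalarTower.algebraMap_apply,
    ← Algebra.smul_def]

/-- `A R lam → R[X]_{1+λX}`. -/
noncomputable def toLoc : A R lam →ₐ[R] Localization.Away (uPoly R lam) :=
  A.lift R lam (algebraMap R[X] (Localization.Away (uPoly R lam)) Polynomial.X)
    (IsLocalization.Away.invSelf (uPoly R lam)) (by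
      have h := IsLocalization.Away.mul_invSelf (S := Localization.Away (uPoly R lam)) (uPoly R lam)
      rw [algebraMap_uPoly] at h
      exact h)

lemma isUnit_aeval_uPoly : ∀ y : Submonoid.powers (uPoly R lam),
    IsUnit ((Polynomial.aeval (A.t : A R lam) : R[X] →ₐ[R] A R lam) y) := by
  rintro ⟨_, n, rfl⟩
  rw [map_pow]
  apply IsUnit.pow
  have : (Polynomial.aeval (A.t : A R lam)) (uPoly R lam) = A.u := by
    rw [uPoly, map_add, map_one, map_smul, Polynomial.aeval_X, A.u]
  rw [this]
  exact A.isUnit_u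

/-- `R[X]_{1+λX} → A R lam`. -/
noncomputable def ofLoc : Localization.Away (uPoly R lam) →ₐ[R] A R lam :=
  IsLocalization.liftAlgHom (M := Submonoid.powers (uPoly R lam))
    (f := (Polynomial.aeval (A.t : A R lam) : R[X] →ₐ[R] A R lam)) (isUnit_aeval_uPoly R lam)

lemma ofLoc_algebraMap (q : R[X]) :
    ofLoc R lam (algebraMap R[X] (Localization.Away (uPoly R lam)) q) =
      Polynomial.aeval (A.t : A R lam) q := by
  unfold ofLoc
  rw [IsLocalization.liftAlgHom_apply, IsLocalization.lift_eq]
  rfl

lemma ofLoc_comp_toLoc : (ofLoc R lam).comp (toLoc R lam) = AlgHom.id R (A R lam) := by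
  have ht : ofLoc R lam (toLoc R lam A.t) = A.t := by
    unfold toLoc
    rw [A.lift_t, ofLoc_algebraMap, Polynomial.aeval_X]
  apply A.algHom_ext
  · exact ht
  · show ofLoc R lam (toLoc R lam A.inv) = A.inv
    have h1 : ofLoc R lam (toLoc R lam A.u) * ofLoc R lam (toLoc R lam A.inv) = 1 := by
      rw [← map_mul, ← map_mul, A.u_mul_inv, map_one, map_one]
    have h2 : ofLoc R lam (toLoc R lam A.u) = A.u := by
      rw [A.u, map_add, map_one, map_smul, map_add, map_one, map_smul, ht]
    rw [h2] at h1
    exact A.isUnit_u.mul_left_cancel (h1.trans A.u_mul_inv.symm)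

lemma toLoc_comp_ofLoc :
    (toLoc R lam).comp (ofLoc R lam) = AlgHom.id R (Localization.Away (uPoly R lam)) := by
  apply IsLocalization.algHom_ext (Submonoid.powers (uPoly R lam))
  apply Polynomial.algHom_ext
  show toLoc R lam (ofLoc R lam (algebraMap R[X] _ Polynomial.X)) = algebraMap R[X] _ Polynomial.X
  rw [ofLoc_algebraMap, Polynomial.aeval_X]
  unfold toLoc
  rw [A.lift_t]

/-- `A R lam ≃ R[X]_{1+λX}`. -/
noncomputable def equivLoc : A R lam ≃ₐ[R] Localization.Away (uPoly R lam) :=
  AlgEquiv.ofAlgHom (toLoc R lam) (ofLoc R lam) (toLoc_comp_ofLoc R lam) (ofLoc_comp_toLoc R lam)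

instance flat_A : Module.Flat R (A R lam) :=
  Module.Flat.of_linearEquiv (equivLoc R lam).toLinearEquiv

end Ring

end Groth.Agent.H40.GLam
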