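import Groth.Agent.H40.GLamNorm
import Groth.Agent.H76.FlatTorsion

/-!
# Lifting units congruent to `1` modulo `λ` through `α^λ`, and the final descent
-/

set_option autoImplicit false
universe u

open CategoryTheory AlgebraicGeometry CategoryTheory.Limits MonoidalCategory
  CartesianMonoidalCategory MonObj
open Groth.Agent.H42
open scoped TensorProduct

namespace Groth.Agent.H40.GLam

open SekSuwa SpecPts Groth.Agent.H40.ExtTorsor Groth.Agent.H40.H90

variable {R : Type u} [CommRing R] (lam : R) {X : Scheme.{u}} (f : X ⟶ Spec (CommRingCat.of R))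

section Mono

variable [IsDomain R]

/-- `α^λ` is injective on points with values in flat `R`-schemes. -/
lemma eq_of_comp_alphaX_eq (hlam : lam ≠ 0) {T : Over X} [Flat (T.hom ≫ f)]
    (g₁ g₂ : T ⟶ Red.bc f (SekSuwa.G R lam))
    (h : g₁ ≫ alphaX lam f = g₂ ≫ alphaX lam f) : g₁ = g₂ := by
  apply glFn_injective lam f
  have h1 := congrArg (gmxFn f) h
  rw [gmxFn_alpha, gmxFn_alpha] at h1
  have h2 : lamT lam f T * (glFn lam f g₁ - glFn lam f g₂) = 0 := by
    rw [mul_sub, sub_eq_zero]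
    exact add_left_cancel h1
  have := Groth.Agent.H76.eq_zero_of_mul_eq_zero_of_flat (T.hom ≫ f) lam hlam _ h2
  exact sub_eq_zero.mp this

end Mono

section Affine

/-- a unit on an affine `X`-scheme which is trivial on `λ = 0` lifts through `α^λ`. -/
lemma exists_lift_alpha_affine {B : Type u} [CommRing B] (ch : Spec (CommRingCat.of B) ⟶ X)
    (c : Over.mk ch ⟶ Red.bc f (Red.diag R ℤ))
    (hc : ∀ {T : Over X} (x : T ⟶ Over.mk ch), lamT lam f T = 0 → x ≫ c = 1) :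
    ∃ w : Over.mk ch ⟶ Red.bc f (SekSuwa.G R lam), w ≫ alphaX lam f = c := by
  let lG : Γ(Spec (CommRingCat.of B), ⊤) := lamT lam f (Over.mk ch)
  let cG : Γ(Spec (CommRingCat.of B), ⊤) := gmxFn f c
  let lB : B := (Scheme.ΓSpecIso (CommRingCat.of B)).hom lG
  let cB : B := (Scheme.ΓSpecIso (CommRingCat.of B)).hom cG
  let io : Spec (CommRingCat.of (B ⧸ Ideal.span ({lB} : Set B))) ⟶ Spec (CommRingCat.of B) :=
    sp (Ideal.Quotient.mk (Ideal.span ({lB} : Set B)))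
  let T' : Over X := Over.mk (io ≫ ch)
  let io' : T' ⟶ Over.mk ch := Over.homMk io rfl
  have h0 : lamT lam f T' = 0 := by
    have e1 : (lamT lam f T' : Γ(Spec (CommRingCat.of (B ⧸ Ideal.span ({lB} : Set B))), ⊤)) =
        io.appTop lG := lamT_comp lam f io'
    apply hom_injective (B := B ⧸ Ideal.span ({lB} : Set B))
    refine (congrArg _ e1).trans ?_
    rw [hom_appTop_sp, map_zero]
    exact Ideal.Quotient.eq_zero_iff_mem.mpr (Ideal.subset_span rfl)
  have h1 := hc io' h0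
  have h2 : io.appTop cG = 1 := by
    have := congrArg (gmxFn f) h1
    rw [gmxFn_comp, gmxFn_one] at this
    exact this
  have h3 : Ideal.Quotient.mk (Ideal.span ({lB} : Set B)) cB = 1 := by
    rw [← hom_appTop_sp, h2, map_one]
  have h4 : cB - 1 ∈ Ideal.span ({lB} : Set B) := by
    rw [← Ideal.Quotient.eq_zero_iff_mem, map_sub, h3, map_one, sub_self]
  obtain ⟨d, hd⟩ := Ideal.mem_span_singleton'.mp h4
  have h5 : 1 + lG * (Scheme.ΓSpecIso (CommRingCat.of B)).inv d = cG := by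
    apply hom_injective (B := B)
    rw [map_add, map_one, map_mul]
    have : (Scheme.ΓSpecIso (CommRingCat.of B)).hom ((Scheme.ΓSpecIso (CommRingCat.of B)).inv d) = d :=
      Iso.inv_hom_id_apply (C := CommRingCat) (Scheme.ΓSpecIso (CommRingCat.of B)) _
    rw [this]
    show 1 + lB * d = cB
    rw [mul_comm, hd]
    ring
  obtain ⟨w, hw⟩ := glFn_surjective lam f (T := Over.mk ch)
    ((Scheme.ΓSpecIso (CommRingCat.of B)).inv d) (by
      show IsUnit (1 + lG * (Scheme.ΓSpecIso (CommRingCat.of B)).inv d)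
      rw [h5]
      exact gmxFn_isUnit f c)
  refine ⟨w, ?_⟩
  apply gmxFn_injective f
  rw [gmxFn_alpha, hw]
  exact h5

end Affine

section Global

variable [IsDomain R]

/-- a unit on a flat `X`-scheme which is trivial on `λ = 0` lifts (uniquely) through `α^λ`. -/
theorem exists_lift_alpha (hlam : lam ≠ 0) {Y : Over X} [Flat (Y.hom ≫ f)]
    (c : Y ⟶ Red.bc f (Red.diag R ℤ))
    (hc : ∀ {T : Over X} (x : T ⟶ Y), lamT lam f T = 0 → x ≫ c = 1) :
    ∃ w : Y ⟶ Red.bc f (SekSuwa.G R lam), w ≫ alphaX lam f = c := by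
  let 𝒱 := Y.left.affineCover
  have key : ∀ k : 𝒱.I₀, ∃ wk : Over.mk (𝒱.f k ≫ Y.hom) ⟶ Red.bc f (SekSuwa.G R lam),
      wk ≫ alphaX lam f = (Over.homMk (𝒱.f k) rfl : Over.mk (𝒱.f k ≫ Y.hom) ⟶ Y) ≫ c := by
    intro k
    let V := 𝒱.X k
    let ch : Spec (CommRingCat.of Γ(V, ⊤)) ⟶ X := V.isoSpec.inv ≫ 𝒱.f k ≫ Y.hom
    let pk : Over.mk ch ⟶ Y := Over.homMk (V.isoSpec.inv ≫ 𝒱.f k) (Category.assoc _ _ _)
    obtain ⟨w', hw'⟩ := exists_lift_alpha_affine lam f ch (pk ≫ c) (by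
      intro T x hx
      rw [← Category.assoc]
      exact hc (x ≫ pk) hx)
    let ek : Over.mk (𝒱.f k ≫ Y.hom) ⟶ Over.mk ch := Over.homMk V.isoSpec.hom (by
      show V.isoSpec.hom ≫ V.isoSpec.inv ≫ 𝒱.f k ≫ Y.hom = 𝒱.f k ≫ Y.hom
      rw [Iso.hom_inv_id_assoc])
    refine ⟨ek ≫ w', ?_⟩
    rw [Category.assoc, hw', ← Category.assoc]
    congr 1
    apply Over.OverMorphism.ext
    show V.isoSpec.hom ≫ V.isoSpec.inv ≫ 𝒱.f k = 𝒱.f k
    rw [Iso.hom_inv_id_assoc]
  choose wk hwk using key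
  have hcompat : ∀ k l : 𝒱.I₀, pullback.fst (𝒱.f k) (𝒱.f l) ≫ (wk k).left =
      pullback.snd (𝒱.f k) (𝒱.f l) ≫ (wk l).left := by
    intro k l
    let Z : Over X := Over.mk (pullback.fst (𝒱.f k) (𝒱.f l) ≫ 𝒱.f k ≫ Y.hom)
    let z₁ : Z ⟶ Over.mk (𝒱.f k ≫ Y.hom) := Over.homMk (pullback.fst (𝒱.f k) (𝒱.f l)) rfl
    let z₂ : Z ⟶ Over.mk (𝒱.f l ≫ Y.hom) := Over.homMk (pullback.snd (𝒱.f k) (𝒱.f l)) (by
      show pullback.snd (𝒱.f k) (𝒱.f l) ≫ 𝒱.f l ≫ Y.hom =
        pullback.fst (𝒱.f k) (𝒱.f l) ≫ 𝒱.f k ≫ Y.hom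
      rw [← Category.assoc, ← pullback.condition, Category.assoc])
    haveI : Flat (Z.hom ≫ f) := by
      show Flat ((pullback.fst (𝒱.f k) (𝒱.f l) ≫ 𝒱.f k ≫ Y.hom) ≫ f)
      rw [Category.assoc, Category.assoc]
      infer_instance
    have h12 : z₁ ≫ wk k = z₂ ≫ wk l := by
      apply eq_of_comp_alphaX_eq lam f hlam
      rw [Category.assoc, Category.assoc, hwk, hwk, ← Category.assoc, ← Category.assoc]
      congr 1
      apply Over.OverMorphism.ext
      exact pullback.condition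
    exact congrArg (fun t => t.left) h12
  let w₀ : Y.left ⟶ (Red.bc f (SekSuwa.G R lam)).left :=
    𝒱.glueMorphisms (fun k => (wk k).left) hcompat
  have hw₀ : ∀ k, 𝒱.f k ≫ w₀ = (wk k).left := fun k => 𝒱.ι_glueMorphisms _ _ k
  have hw₀X : w₀ ≫ (Red.bc f (SekSuwa.G R lam)).hom = Y.hom := by
    apply 𝒱.hom_ext
    intro k
    rw [← Category.assoc, hw₀]
    exact Over.w (wk k)
  refine ⟨Over.homMk w₀ hw₀X, ?_⟩
  apply Over.OverMorphism.ext
  apply 𝒱.hom_ext
  intro k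
  have h := congrArg (fun t => t.left) (hwk k)
  show 𝒱.f k ≫ w₀ ≫ (alphaX lam f).left = 𝒱.f k ≫ c.left
  rw [← Category.assoc, hw₀]
  exact h

end Global

end Groth.Agent.H40.GLam
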