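import Groth.Agent.H40.GLamLift

/-!
# `H¹(X, G^(λ)) = 0` when `Pic X = 0` and units lift from `X_λ`
-/

set_option autoImplicit false
universe u

open CategoryTheory AlgebraicGeometry CategoryTheory.Limits MonoidalCategory
  CartesianMonoidalCategory MonObj
open Groth.Agent.H42
open scoped TensorProduct

namespace Groth.Agent.H40.GLam

open SekSuwa SpecPts Groth.Agent.H40.ExtTorsor Groth.Agent.H40.H90

variable {R : Type u} [CommRing R] [IsDomain R] (lam : R) {X : Scheme.{u}}
  (f : X ⟶ Spec (CommRingCat.of R)) [Flat f]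
variable {P : Over X} (a : AlgGrp.Action (Red.bc f (SekSuwa.G R lam)) P)

/-- a torsor with a normalized equivariant unit has a section. -/
theorem hasSection_of_normalized_unit (hlam : lam ≠ 0)
    (hP : NonAbH1.IsTorsorFor Scheme.fpqcPrecoverage a)
    (u : P ⟶ Red.bc f (Red.diag R ℤ))
    (hu : ∀ {T : Over X} (g : T ⟶ Red.bc f (SekSuwa.G R lam)) (x : T ⟶ P),
      psmul a g x ≫ u = (g ≫ alphaX lam f) * (x ≫ u))
    (hnorm : ∀ {T : Over X} (x : T ⟶ P), lamT lam f T = 0 → x ≫ u = 1) :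
    NonAbH1.HasSectionOver P (𝟙 X) := by
  have hflP : Flat P.hom := flat_torsor lam f a hP
  haveI : Flat (P.hom ≫ f) := inferInstance
  obtain ⟨w, hw⟩ := exists_lift_alpha lam f hlam (Y := P) u hnorm
  have hcart := isPullback_toUnit_of_isPseudoTorsor a hP.1
  let e : P ⟶ P := psmul a w⁻¹ (𝟙 P)
  have he1 : e ≫ u = 1 := by
    show psmul a w⁻¹ (𝟙 P) ≫ u = 1
    have hinv : w⁻¹ ≫ alphaX lam f = (w ≫ alphaX lam f)⁻¹ := GrpObj.inv_comp _ _
    rw [hu, hinv, hw, Category.id_comp, inv_mul_cancel]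
  haveI : Flat ((P ⊗ P).hom ≫ f) := by
    have h1 : (P ⊗ P).hom = (fst P P).left ≫ P.hom := (Over.w (fst P P)).symm
    have h2 : Flat (fst P P).left := by
      change Flat (pullback.fst P.hom P.hom)
      infer_instance
    rw [h1, Category.assoc]
    infer_instance
  have huniv : fst P P ≫ e = snd P P ≫ e := by
    obtain ⟨g, hg⟩ := exists_psmul_of_isPullback a (toUnit P) hcart (fst P P ≫ e) (snd P P ≫ e)
      (toUnit_unique _ _)
    have h1 : (fst P P ≫ e) ≫ u = 1 := by rw [Category.assoc, he1, MonObj.comp_one]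
    have h2 : (snd P P ≫ e) ≫ u = 1 := by rw [Category.assoc, he1, MonObj.comp_one]
    have h3 : g ≫ alphaX lam f = 1 := by
      have := hu g (snd P P ≫ e)
      rw [hg, h1, h2] at this
      exact (this.trans (_root_.mul_one (M := P ⊗ P ⟶ Red.bc f (Red.diag R ℤ)) _)).symm
    have h4 : g = 1 := by
      apply eq_of_comp_alphaX_eq lam f hlam
      have h1' : (1 : P ⊗ P ⟶ Red.bc f (SekSuwa.G R lam)) ≫ alphaX lam f = 1 :=
        MonObj.one_comp _
      rw [h3, h1']
    rw [← hg, h4, one_psmul]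
  obtain ⟨s, hs, -⟩ := existsUnique_desc_over_of_locallyTrivial (toUnit P) hP.2 e (by
    intro Z z₁ z₂ _
    have := congrArg (fun t => lift z₁ z₂ ≫ t) huniv
    simpa only [← Category.assoc, lift_fst, lift_snd] using this)
  exact ⟨s.left, Over.w s⟩

/-- **vanishing of `H¹(X, G^(λ))`**. -/
theorem hasSection_of_units_pic (hlam : lam ≠ 0)
    (hunit : Function.Surjective (Units.map
      (pullback.fst f (Spec.map (CommRingCat.ofHom
        (Ideal.Quotient.mk (Ideal.span ({lam} : Set R)))))).appTop.hom.toMonoidHom))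
    (hpic : ∀ (Q : Over X) (b : AlgGrp.Action (Red.bc f (Red.diag R ℤ)) Q),
      NonAbH1.IsTorsorFor Scheme.fppfPrecoverage b → NonAbH1.HasSectionOver Q (𝟙 X))
    (hP : NonAbH1.IsTorsorFor Scheme.fppfPrecoverage a) :
    NonAbH1.HasSectionOver P (𝟙 X) := by
  have hPq : NonAbH1.IsTorsorFor Scheme.fpqcPrecoverage a :=
    ⟨hP.1, IsLocallyTrivialFor.mono Scheme.fppfPrecoverage_le_fpqcPrecoverage hP.2⟩
  obtain ⟨u, hu⟩ := exists_equivariant_unit lam f a hpic hP
  obtain ⟨u', hu', hnorm⟩ := exists_normalized_unit lam f a hunit hP.1 hPq.2 u hu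
  exact hasSection_of_normalized_unit lam f a hlam hPq u' hu' hnorm

end Groth.Agent.H40.GLam
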