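import Groth.Agent.H40.GLamUnit

/-!
# Normalizing the equivariant unit modulo `λ`
-/

set_option autoImplicit false
universe u

open CategoryTheory AlgebraicGeometry CategoryTheory.Limits MonoidalCategory
  CartesianMonoidalCategory MonObj
open Groth.Agent.H42
open scoped TensorProduct

namespace Groth.Agent.H40.GLam

open SekSuwa SpecPts Groth.Agent.H40.ExtTorsor

variable {R : Type u} [CommRing R] (lam : R) {X : Scheme.{u}} (f : X ⟶ Spec (CommRingCat.of R))
variable {P : Over X} (a : AlgGrp.Action (Red.bc f (SekSuwa.G R lam)) P)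

/-- if global units of `X` surject onto those of `X_λ`, the equivariant unit can be chosen to be
trivial on `λ = 0`. -/
theorem exists_normalized_unit
    (hunit : Function.Surjective (Units.map
      (pullback.fst f (Spec.map (CommRingCat.ofHom
        (Ideal.Quotient.mk (Ideal.span ({lam} : Set R)))))).appTop.hom.toMonoidHom))
    (hps : NonAbH1.IsPseudoTorsorSch a)
    (hloc : NonAbH1.IsLocallyTrivialFor Scheme.fpqcPrecoverage P)
    (u : P ⟶ Red.bc f (Red.diag R ℤ))
    (hu : ∀ {T : Over X} (g : T ⟶ Red.bc f (SekSuwa.G R lam)) (x : T ⟶ P),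
      psmul a g x ≫ u = (g ≫ alphaX lam f) * (x ≫ u)) :
    ∃ u' : P ⟶ Red.bc f (Red.diag R ℤ),
      (∀ {T : Over X} (g : T ⟶ Red.bc f (SekSuwa.G R lam)) (x : T ⟶ P),
        psmul a g x ≫ u' = (g ≫ alphaX lam f) * (x ≫ u')) ∧
      ∀ {T : Over X} (x : T ⟶ P), lamT lam f T = 0 → x ≫ u' = 1 := by
  have hpb : IsPullback (fst P (Xl lam f)).left (snd P (Xl lam f)).left P.hom (Xl lam f).hom := by
    simpa using IsPullback.of_hasPullback P.hom (Xl lam f).hom
  have hv : NonAbH1.IsLocallyTrivialFor Scheme.fpqcPrecoverage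
      (Over.mk (snd P (Xl lam f)).left : Over (Xl lam f).left) :=
    isLocallyTrivialFor_of_isPullback hpb hloc
  obtain ⟨um, hum, -⟩ := existsUnique_desc_over_of_locallyTrivial (snd P (Xl lam f)) hv
    (fst P (Xl lam f) ≫ u) (by
      intro Z z₁ z₂ h12
      have hcart := isPullback_toUnit_of_isPseudoTorsor a hps
      obtain ⟨g, hg⟩ := exists_psmul_of_isPullback a (toUnit P) hcart (z₁ ≫ fst P (Xl lam f))
        (z₂ ≫ fst P (Xl lam f)) (toUnit_unique _ _)
      have hlZ : lamT lam f Z = 0 := lamT_eq_zero_of_hom lam f (z₁ ≫ snd P (Xl lam f))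
      have hg1 : g ≫ alphaX lam f = 1 := by
        apply gmxFn_injective f
        rw [gmxFn_alpha, hlZ, zero_mul, add_zero, gmxFn_one]
      rw [← Category.assoc, ← Category.assoc, ← hg, hu, hg1]
      exact _root_.one_mul (M := Z ⟶ Red.bc f (Red.diag R ℤ)) _)
  obtain ⟨v₀, hv₀⟩ := hunit (gmxFn_isUnit f um).unit
  have hv₀' : (pullback.fst f (Spec.map (CommRingCat.ofHom
      (Ideal.Quotient.mk (Ideal.span ({lam} : Set R)))))).appTop (v₀ : Γ(X, ⊤)) = gmxFn f um :=
    congrArg Units.val hv₀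
  obtain ⟨vm, hvm⟩ := gmxFn_surjective f (T := 𝟙_ (Over X)) (v₀ : Γ(X, ⊤)) v₀.isUnit
  have hkey : toUnit (Xl lam f) ≫ vm = um := by
    apply gmxFn_injective f
    rw [gmxFn_comp, hvm]
    exact hv₀'
  have hT : ∀ {T : Over X} (y : T ⟶ P),
      y ≫ (u * (toUnit P ≫ vm)⁻¹) = (y ≫ u) * (toUnit T ≫ vm)⁻¹ := by
    intro T y
    rw [MonObj.comp_mul, GrpObj.comp_inv, ← Category.assoc,
      toUnit_unique (y ≫ toUnit P) (toUnit T)]
  refine ⟨u * (toUnit P ≫ vm)⁻¹, ?_, ?_⟩
  · intro T g x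
    rw [hT, hT, hu, _root_.mul_assoc]
  · intro T x hx
    obtain ⟨t⟩ := exists_hom_Xl lam f hx
    have e : x ≫ u = toUnit T ≫ vm := by
      calc x ≫ u = (lift x t ≫ fst P (Xl lam f)) ≫ u := by rw [lift_fst]
        _ = lift x t ≫ (snd P (Xl lam f) ≫ um) := by rw [Category.assoc, hum]
        _ = t ≫ um := by rw [← Category.assoc, lift_snd]
        _ = toUnit T ≫ vm := by
          rw [← hkey, ← Category.assoc, toUnit_unique (t ≫ toUnit (Xl lam f)) (toUnit T)]
    rw [hT, e, mul_inv_cancel]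

end Groth.Agent.H40.GLam
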