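import Groth.Agent.H40.SekSuwaIso
import Groth.Agent.H42.GaGm4

/-!
# Points of the base change of the Sekiguchi–Suwa group `G^(λ)`

For `f : X ⟶ Spec R` and `T` over `X`, the `T`-points of `Red.bc f (SekSuwa.G R lam)` are the global
functions `b` on `T` with `1 + λ b` invertible, with law `b + b' + λ b b'`.
-/

set_option autoImplicit false
universe u

open CategoryTheory AlgebraicGeometry CategoryTheory.Limits MonoidalCategory
  CartesianMonoidalCategory MonObj
open Groth.Agent.H42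
open scoped TensorProduct

namespace Groth.Agent.H40.GLam

open SekSuwa SpecPts

variable {R : Type u} [CommRing R] (lam : R) {X : Scheme.{u}} (f : X ⟶ Spec (CommRingCat.of R))

/-- `λ` as a function on `T`. -/
noncomputable def lamT (T : Over X) : Γ(T.left, ⊤) := pb (T.hom ≫ f) lam

/-- the function defined by a point of `G^(λ)_X`. -/
noncomputable def glFn {T : Over X} (x : T ⟶ Red.bc f (SekSuwa.G R lam)) : Γ(T.left, ⊤) :=
  pb (ptL (bcPt f (SekSuwa.G R lam) x)) A.t

section Z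

variable {Y : Over (Spec (CommRingCat.of R))}

lemma pb_ptL_algebraMap (c : Y ⟶ SekSuwa.G R lam) (r : R) :
    pb (ptL c) (algebraMap R (A R lam) r) = pb Y.hom r := by
  rw [← pb_comp_specMap, ptL_w]

lemma pb_ptL_smul (c : Y ⟶ SekSuwa.G R lam) (r : R) (z : A R lam) :
    pb (ptL c) (r • z) = pb Y.hom r * pb (ptL c) z := by
  rw [Algebra.smul_def, map_mul, pb_ptL_algebraMap]

lemma pb_ptL_u (c : Y ⟶ SekSuwa.G R lam) :
    pb (ptL c) A.u = 1 + pb Y.hom lam * pb (ptL c) A.t := by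
  rw [A.u, map_add, map_one, pb_ptL_smul]

lemma isUnit_Z (c : Y ⟶ SekSuwa.G R lam) : IsUnit (1 + pb Y.hom lam * pb (ptL c) A.t) := by
  rw [← pb_ptL_u]
  exact A.isUnit_u.map (pb (ptL c))

lemma pb_pairPt_smul (c d : Y ⟶ SekSuwa.G R lam) (r : R) (z : A R lam ⊗[R] A R lam) :
    pb (pairPt c d) (r • z) = pb Y.hom r * pb (pairPt c d) z := by
  have e : r • z = ((algebraMap R (A R lam) r) ⊗ₜ[R] (1 : A R lam)) * z := by
    rw [← Algebra.TensorProduct.algebraMap_apply, ← Algebra.smul_def]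
  rw [e, map_mul, pb_pairPt_tmul, map_one, _root_.mul_one, pb_ptL_algebraMap]

lemma mul_Z (c d : Y ⟶ SekSuwa.G R lam) :
    pb (ptL (c * d)) A.t = pb (ptL c) A.t + pb (ptL d) A.t +
      pb Y.hom lam * (pb (ptL c) A.t * pb (ptL d) A.t) := by
  rw [pb_ptL_mul, A.comul_t, map_add, map_add, pb_pairPt_smul, pb_pairPt_tmul, pb_pairPt_tmul,
    pb_pairPt_tmul, map_one, map_one, _root_.mul_one, _root_.one_mul]

lemma ext_Z {c d : Y ⟶ SekSuwa.G R lam} (h : pb (ptL c) A.t = pb (ptL d) A.t) : c = d := by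
  apply ptAlg_injective
  letI := algY Y
  apply A.algHom_ext
  · exact h
  · show pb (ptL c) A.inv = pb (ptL d) A.inv
    have hc : pb (ptL c) A.u * pb (ptL c) A.inv = 1 := by rw [← map_mul, A.u_mul_inv, map_one]
    have hd : pb (ptL d) A.u * pb (ptL d) A.inv = 1 := by rw [← map_mul, A.u_mul_inv, map_one]
    have hu : pb (ptL c) A.u = pb (ptL d) A.u := by rw [pb_ptL_u, pb_ptL_u, h]
    rw [hu] at hc
    exact (A.isUnit_u.map (pb (ptL d))).mul_left_cancel (hc.trans hd.symm)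

lemma exists_Z (b : Γ(Y.left, ⊤)) (hb : IsUnit (1 + pb Y.hom lam * b)) :
    ∃ c : Y ⟶ SekSuwa.G R lam, pb (ptL c) A.t = b := by
  letI := algY Y
  obtain ⟨v, hv⟩ := hb.exists_right_inv
  have h : (1 + lam • b) * v = 1 := by
    rw [Algebra.smul_def]
    exact hv
  obtain ⟨c, hc⟩ := ptAlg_surjective (B := A R lam) (Y := Y) (A.lift R lam b v h)
  refine ⟨c, ?_⟩
  have := congrArg (fun φ : A R lam →ₐ[R] Γ(Y.left, ⊤) => φ A.t) hc
  exact this.trans (A.lift_t _ _ _)

end Z

variable {T : Over X}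

lemma glFn_mul (x y : T ⟶ Red.bc f (SekSuwa.G R lam)) :
    glFn lam f (x * y) = glFn lam f x + glFn lam f y + lamT lam f T * (glFn lam f x * glFn lam f y) := by
  unfold glFn
  rw [bcPt_mul, mul_Z]
  rfl

lemma glFn_isUnit (x : T ⟶ Red.bc f (SekSuwa.G R lam)) :
    IsUnit (1 + lamT lam f T * glFn lam f x) :=
  isUnit_Z lam (bcPt f (SekSuwa.G R lam) x)

lemma glFn_injective : Function.Injective (glFn lam f (T := T)) := by
  intro x y h
  exact bcPt_injective _ _ (ext_Z lam h)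

lemma glFn_surjective (b : Γ(T.left, ⊤)) (hb : IsUnit (1 + lamT lam f T * b)) :
    ∃ x : T ⟶ Red.bc f (SekSuwa.G R lam), glFn lam f x = b := by
  obtain ⟨c, hc⟩ := exists_Z lam (Y := (Over.map f).obj T) b hb
  obtain ⟨x, hx⟩ := bcPt_surjective f (SekSuwa.G R lam) c
  exact ⟨x, by unfold glFn; rw [hx, hc]⟩

lemma glFn_comp {T' : Over X} (h : T' ⟶ T) (x : T ⟶ Red.bc f (SekSuwa.G R lam)) :
    glFn lam f (h ≫ x) = h.left.appTop (glFn lam f x) := by
  unfold glFn
  have : bcPt f (SekSuwa.G R lam) (h ≫ x) = (Over.map f).map h ≫ bcPt f (SekSuwa.G R lam) x := by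
    ext
    simp [bcPt_left]
  rw [this, ptL_comp, pb_comp]
  rfl

lemma lamT_comp {T' : Over X} (h : T' ⟶ T) : lamT lam f T' = h.left.appTop (lamT lam f T) := by
  unfold lamT
  rw [← Over.w h, Category.assoc, pb_comp]

end Groth.Agent.H40.GLam
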