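import Groth.Agent.H40.GLamPts

/-!
# Points of the base change of the split multiplicative group `Red.diag R ℤ`, and `α^λ` on points
-/

set_option autoImplicit false
universe u

open CategoryTheory AlgebraicGeometry CategoryTheory.Limits MonoidalCategory
  CartesianMonoidalCategory MonObj
open Groth.Agent.H42
open scoped TensorProduct

namespace Groth.Agent.H40.GLam

open SekSuwa SpecPts

variable {R : Type u} [CommRing R] (lam : R) {X : Scheme.{u}} (f : X ⟶ Spec (CommRingCat.of R))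

/-- the coordinate of the split multiplicative group over `R`. -/
noncomputable def gmT (R : Type u) [CommRing R] : MonoidAlgebra R (Multiplicative ℤ) :=
  MonoidAlgebra.single (Multiplicative.ofAdd (1 : ℤ)) 1

lemma gmT_isUnit : IsUnit (gmT R) := by
  refine IsUnit.of_mul_eq_one (MonoidAlgebra.single (Multiplicative.ofAdd (-1 : ℤ)) 1) ?_
  rw [gmT, MonoidAlgebra.single_mul_single, ← ofAdd_add]
  simp [MonoidAlgebra.one_def]

lemma algHom_ext_gmT {T : Type u} [CommRing T] [Algebra R T]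
    {φ ψ : MonoidAlgebra R (Multiplicative ℤ) →ₐ[R] T} (h : φ (gmT R) = ψ (gmT R)) : φ = ψ := by
  refine MonoidAlgebra.algHom_ext ?_ (Subsingleton.elim _ _)
  have : (φ : MonoidAlgebra R (Multiplicative ℤ) →* T).comp
        (MonoidAlgebra.of R (Multiplicative ℤ)) =
      (ψ : MonoidAlgebra R (Multiplicative ℤ) →* T).comp (MonoidAlgebra.of R (Multiplicative ℤ)) :=
    MonoidHom.ext_mint h
  intro m
  exact DFunLike.congr_fun this m

lemma exists_algHom_gmT {T : Type u} [CommRing T] [Algebra R T] (t : Tˣ) :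
    ∃ φ : MonoidAlgebra R (Multiplicative ℤ) →ₐ[R] T, φ (gmT R) = t := by
  refine ⟨MonoidAlgebra.lift R T (Multiplicative ℤ) ((Units.coeHom T).comp (zpowersHom Tˣ t)), ?_⟩
  rw [gmT, MonoidAlgebra.lift_single]
  simp

section Z

variable {Y : Over (Spec (CommRingCat.of R))}

/-- the unit defined by a point of the split multiplicative group. -/
noncomputable def gmZ (c : Y ⟶ Red.diag R ℤ) : Γ(Y.left, ⊤) := pb (ptL c) (gmT R)

lemma gmZ_mul (c d : Y ⟶ Red.diag R ℤ) : gmZ (c * d) = gmZ c * gmZ d :=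
  pb_ptL_mul_single c d (Multiplicative.ofAdd (1 : ℤ))

lemma gmZ_isUnit (c : Y ⟶ Red.diag R ℤ) : IsUnit (gmZ c) := gmT_isUnit.map (pb (ptL c))

lemma gmZ_injective : Function.Injective (gmZ (R := R) (Y := Y)) := by
  intro c d h
  apply ptAlg_injective
  letI := algY Y
  exact algHom_ext_gmT h

lemma gmZ_surjective (t : Γ(Y.left, ⊤)) (ht : IsUnit t) : ∃ c : Y ⟶ Red.diag R ℤ, gmZ c = t := by
  letI := algY Y
  obtain ⟨φ, hφ⟩ := exists_algHom_gmT (R := R) ht.unit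
  obtain ⟨c, hc⟩ := ptAlg_surjective (B := MonoidAlgebra R (Multiplicative ℤ)) (Y := Y) φ
  refine ⟨c, ?_⟩
  have := congrArg (fun ψ : MonoidAlgebra R (Multiplicative ℤ) →ₐ[R] Γ(Y.left, ⊤) => ψ (gmT R)) hc
  exact this.trans hφ

lemma gmZ_alpha (c : Y ⟶ SekSuwa.G R lam) :
    gmZ (c ≫ SekSuwa.alpha R lam) = 1 + pb Y.hom lam * pb (ptL c) A.t := by
  letI := algY Y
  have h := ptAlg_comp_specHom (alphaHom R lam) c
  have h2 := congrArg
    (fun ψ : MonoidAlgebra R (Multiplicative ℤ) →ₐ[R] Γ(Y.left, ⊤) => ψ (gmT R)) h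
  rw [← pb_ptL_u]
  refine Eq.trans h2 ?_
  show pb (ptL c) ((alphaHom R lam) (gmT R)) = _
  rw [gmT, alphaHom_single_one]

end Z

variable {T : Over X}

/-- the unit defined by a point of `𝔾_{m,X}`. -/
noncomputable def gmxFn (x : T ⟶ Red.bc f (Red.diag R ℤ)) : Γ(T.left, ⊤) :=
  gmZ (bcPt f (Red.diag R ℤ) x)

lemma gmxFn_mul (x y : T ⟶ Red.bc f (Red.diag R ℤ)) :
    gmxFn f (x * y) = gmxFn f x * gmxFn f y := by
  unfold gmxFn
  rw [bcPt_mul, gmZ_mul]

lemma gmxFn_isUnit (x : T ⟶ Red.bc f (Red.diag R ℤ)) : IsUnit (gmxFn f x) := gmZ_isUnit _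

lemma gmxFn_injective : Function.Injective (gmxFn f (T := T)) := by
  intro x y h
  exact bcPt_injective _ _ (gmZ_injective h)

lemma gmxFn_surjective (t : Γ(T.left, ⊤)) (ht : IsUnit t) :
    ∃ x : T ⟶ Red.bc f (Red.diag R ℤ), gmxFn f x = t := by
  obtain ⟨c, hc⟩ := gmZ_surjective (Y := (Over.map f).obj T) t ht
  obtain ⟨x, hx⟩ := bcPt_surjective f (Red.diag R ℤ) c
  exact ⟨x, by unfold gmxFn; rw [hx, hc]⟩

lemma gmxFn_comp {T' : Over X} (h : T' ⟶ T) (x : T ⟶ Red.bc f (Red.diag R ℤ)) :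
    gmxFn f (h ≫ x) = h.left.appTop (gmxFn f x) := by
  unfold gmxFn gmZ
  have : bcPt f (Red.diag R ℤ) (h ≫ x) = (Over.map f).map h ≫ bcPt f (Red.diag R ℤ) x := by
    ext
    simp [bcPt_left]
  rw [this, ptL_comp, pb_comp]
  rfl

lemma gmxFn_one : gmxFn f (1 : T ⟶ Red.bc f (Red.diag R ℤ)) = 1 := by
  have := gmxFn_mul f (1 : T ⟶ Red.bc f (Red.diag R ℤ)) 1
  have h11 : (1 : T ⟶ Red.bc f (Red.diag R ℤ)) * 1 = 1 :=
    _root_.mul_one (1 : T ⟶ Red.bc f (Red.diag R ℤ))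
  rw [h11] at this
  have hu := gmxFn_isUnit f (1 : T ⟶ Red.bc f (Red.diag R ℤ))
  exact hu.mul_left_cancel (by rw [← this, _root_.mul_one])

lemma gmxFn_alpha (x : T ⟶ Red.bc f (SekSuwa.G R lam)) :
    gmxFn f (x ≫ (Over.pullback f).map (SekSuwa.alpha R lam)) =
      1 + lamT lam f T * glFn lam f x := by
  unfold gmxFn
  rw [bcPt_map, gmZ_alpha]
  rfl

lemma glFn_one : glFn lam f (1 : T ⟶ Red.bc f (SekSuwa.G R lam)) = 0 := by
  have h := glFn_mul lam f (1 : T ⟶ Red.bc f (SekSuwa.G R lam)) 1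
  have h11 : (1 : T ⟶ Red.bc f (SekSuwa.G R lam)) * 1 = 1 :=
    _root_.mul_one (1 : T ⟶ Red.bc f (SekSuwa.G R lam))
  rw [h11] at h
  have hu := glFn_isUnit lam f (1 : T ⟶ Red.bc f (SekSuwa.G R lam))
  set z := glFn lam f (1 : T ⟶ Red.bc f (SekSuwa.G R lam)) with hz
  have h2 : (1 + lamT lam f T * z) * z = 0 := by
    have : z + z + lamT lam f T * (z * z) - z = 0 := by rw [← h, sub_self]
    rw [← this]
    ring
  exact (hu.mul_right_eq_zero).mp h2

end Groth.Agent.H40.GLam
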