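import Groth.Agent.H40.H90GLam

/-!
# Hilbert 90 for the Sekiguchi–Suwa group `G^(λ)`: globalization
-/

set_option autoImplicit false
universe u
open CategoryTheory CategoryTheory.Limits MonoidalCategory CartesianMonoidalCategory MonObj
  AlgebraicGeometry TensorProduct

namespace Groth.Agent.H40.H90

open Groth.Agent.H40 Groth.Agent.H40.H90Ring Groth.Agent.H42

variable {R : Type u} [CommRing R] (lam : R) {X : Scheme.{u}} (f : X ⟶ Spec (CommRingCat.of R))

section Reg

variable {A : Type u} [CommRing A] (ch : Spec (CommRingCat.of A) ⟶ X)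

lemma lamA_eq_preimage : lamA lam f ch = (Spec.preimage (ch ≫ f)).hom lam := by
  unfold lamA
  have hφ : Spec.map (CommRingCat.ofHom (Spec.preimage (ch ≫ f)).hom) = ch ≫ f :=
    Spec.map_preimage _
  have h := pb_comp_specMap (𝟙 (Spec (CommRingCat.of A))) (Spec.preimage (ch ≫ f)).hom lam
  rw [Category.id_comp, hφ] at h
  rw [h]
  exact pb_id_hom _

/-- `λ` stays a non-zero-divisor on a flat affine chart. -/
lemma lamA_regular [Flat (ch ≫ f)] (hreg : IsSMulRegular R lam) :
    IsSMulRegular A (lamA lam f ch) := by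
  have hφ : Spec.map (Spec.preimage (ch ≫ f)) = ch ≫ f := Spec.map_preimage _
  have hflat : (Spec.preimage (ch ≫ f)).hom.Flat := by
    have : Flat (Spec.map (Spec.preimage (ch ≫ f))) := by
      rw [hφ]
      infer_instance
    exact (HasRingHomProperty.Spec_iff (P := @Flat)).mp this
  rw [lamA_eq_preimage]
  letI := (Spec.preimage (ch ≫ f)).hom.toAlgebra
  haveI : Module.Flat R A := hflat
  exact IsSMulRegular.of_flat (R := R) (S := A) hreg

end Reg

section Affine

variable {P : Over X} (a : AlgGrp.Action (Red.bc f (SekSuwa.G R lam)) P)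
  (hps : NonAbH1.IsPseudoTorsorSch a)

include hps in
/-- **Hilbert 90 for `G^(λ)` over an affine chart**. -/
theorem exists_open_section_glam (hreg : IsSMulRegular R lam)
    {U T : Scheme.{u}} [IsAffine U] [IsAffine T] (g : T ⟶ U) [Flat g] [Surjective g] (j : U ⟶ X)
    [Flat (j ≫ f)]
    (σ : T ⟶ P.left) (hσ : σ ≫ P.hom = g ≫ j) (x : U) :
    ∃ (V : Scheme.{u}) (k : V ⟶ U) (_ : IsOpenImmersion k), x ∈ Set.range k ∧
      ∃ y : V ⟶ P.left, y ≫ P.hom = k ≫ j := by
  let A : Type u := Γ(U, ⊤)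
  let A' : Type u := Γ(T, ⊤)
  letI : Algebra A A' := g.appTop.hom.toAlgebra
  haveI : Module.FaithfullyFlat A A' :=
    (Flat.flat_and_surjective_iff_faithfullyFlat_of_isAffine (f := g)).mp
      ⟨inferInstance, inferInstance⟩
  let ch : Spec (CommRingCat.of A) ⟶ X := U.isoSpec.inv ≫ j
  haveI : Flat (ch ≫ f) := by
    show Flat ((U.isoSpec.inv ≫ j) ≫ f)
    rw [Category.assoc]
    infer_instance
  have hx₀ : (T.isoSpec.inv ≫ σ) ≫ P.hom = sp (algebraMap A A') ≫ ch := by
    have hn : sp (algebraMap A A') ≫ U.isoSpec.inv = T.isoSpec.inv ≫ g :=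
      Scheme.isoSpec_inv_naturality g
    rw [Category.assoc, hσ, ← Category.assoc, ← hn, Category.assoc]
  let x₀ : oS ch A' ⟶ P := Over.homMk (T.isoSpec.inv ≫ σ) hx₀
  let p : PrimeSpectrum A := U.isoSpec.hom x
  obtain ⟨f₀, hfp, y, hy⟩ := exists_local_section_glam lam f ch a hps
    (lamA_regular lam f ch hreg) x₀ p.asIdeal
  refine ⟨Spec (CommRingCat.of (Localization.Away f₀)),
    sp (algebraMap A (Localization.Away f₀)) ≫ U.isoSpec.inv, inferInstance, ?_, y, ?_⟩
  · obtain ⟨q, hq⟩ := mem_range_sp_away f₀ p hfp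
    refine ⟨q, ?_⟩
    rw [Scheme.Hom.comp_apply, hq]
    show U.isoSpec.inv (U.isoSpec.hom x) = x
    rw [← Scheme.Hom.comp_apply, Iso.hom_inv_id]
    rfl
  · rw [hy, Category.assoc]

end Affine

section Global

variable [Flat f] (P : Over X)

/-- **Hilbert 90 for `G^(λ)`**: if `λ` is a non-zero-divisor of `R` and `X` is flat over `R`, an
fpqc torsor over `X` under `G^(λ)` is Zariski-locally trivial. -/
theorem isTorsorFor_zariski_glam (hreg : IsSMulRegular R lam)
    (a : AlgGrp.Action (Red.bc f (SekSuwa.G R lam)) P)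
    (h : NonAbH1.IsTorsorFor Scheme.fpqcPrecoverage a) :
    NonAbH1.IsTorsorFor Scheme.zariskiPrecoverage a := by
  obtain ⟨hps, hloc⟩ := h
  refine ⟨hps, ?_⟩
  have key : ∀ s : X, ∃ (V : Scheme.{u}) (k : V ⟶ X) (_ : IsOpenImmersion k),
      s ∈ Set.range k ∧ ∃ y : V ⟶ P.left, y ≫ P.hom = k := by
    intro s
    obtain ⟨x, hx⟩ := X.affineCover.covers s
    obtain ⟨T, hT, g, hg1, hg2, σ, hσ⟩ :=
      exists_affine_fpqc_point P hloc (X.affineCover.f (X.affineCover.idx s))
    obtain ⟨V, k, hk, hxk, y, hy⟩ :=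
      exists_open_section_glam lam f a hps hreg g (X.affineCover.f (X.affineCover.idx s)) σ hσ x
    refine ⟨V, k ≫ X.affineCover.f (X.affineCover.idx s), inferInstance, ?_, y, hy⟩
    obtain ⟨v, hv⟩ := hxk
    exact ⟨v, by rw [Scheme.Hom.comp_apply, hv, hx]⟩
  choose V k hk hsk y hy using key
  let E : PreZeroHypercover.{u} X := ⟨X, V, k⟩
  refine ⟨E.presieve₀, ?_, ?_⟩
  · rw [Scheme.zariskiPrecoverage, Scheme.presieve₀_mem_precoverage_iff]
    exact ⟨fun s => ⟨s, hsk s⟩, hk⟩
  · rintro Z f ⟨s⟩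
    exact ⟨y s, hy s⟩

end Global

end Groth.Agent.H40.H90
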