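import Groth.Agent.H40.ExtTorsor

/-!
# Extension of the structure group of a torsor along a homomorphism to an affine group

For a `G`-torsor `φ : X ⟶ Y` (flat, surjective, quasi-compact) and a homomorphism `q : G ⟶ Q` with
`X × Q ⟶ X` affine, the contracted product `P = X ×^G Q` exists: it is a `Q`-torsor over `Y` with a
`q`-equivariant map `π : X ⟶ P`.
-/

set_option autoImplicit false
universe u
open CategoryTheory CategoryTheory.Limits MonoidalCategory CartesianMonoidalCategory MonObj GrpObj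
  AlgebraicGeometry

namespace Groth.Agent.H40.ExtTorsor

open Groth.Agent.H40 Groth.Agent.H40.AssocBundle Groth.Agent.H40.QuotAction

variable {S : Scheme.{u}} {G Q X Y : Over S} [GrpObj G] [GrpObj Q]

/-- the push-forward torsor. -/
theorem exists_push (q : G ⟶ Q) [IsMonHom q]
    (a : AlgGrp.Action G X) (φ : X ⟶ Y) (hcart : IsPullback a.act (snd G X) φ φ)
    (hloc : NonAbH1.IsLocallyTrivialFor Scheme.fpqcPrecoverage (Over.mk φ.left : Over Y.left))
    [Surjective φ.left] [Flat φ.left] [QuasiCompact φ.left] [IsAffineHom (fst X Q).left] :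
    ∃ (P : Over S) (π : X ⟶ P) (r : P ⟶ Y) (cbar : AlgGrp.Action Q P), π ≫ r = φ ∧
      IsPullback cbar.act (snd Q P) r r ∧
      ∀ {T : Over S} (g : T ⟶ G) (x : T ⟶ X), psmul a g x ≫ π = psmul cbar (g ≫ q) (x ≫ π) := by
  obtain ⟨P, p, r, hpr, hpb, htors⟩ := exists_assocBundle a φ hcart (bQ q)
  have hlocp : NonAbH1.IsLocallyTrivialFor Scheme.fpqcPrecoverage
      (Over.mk p.left : Over P.left) :=
    isLocallyTrivialFor_of_isPullback (hpb.map (Over.forget S)) hloc
  -- invariance of `p`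
  have hpinv : ∀ {T : Over S} (g : T ⟶ G) (t : T ⟶ X ⊗ Q),
      psmul (a.prod (bQ q)) g t ≫ p = t ≫ p := fun g t =>
    psmul_comp_of_isPullback (a.prod (bQ q)) p htors g t
  have hcomm : ∀ {T : Over S} (g : T ⟶ G) (h : T ⟶ Q) (e : T ⟶ X ⊗ Q),
      psmul (cQ X Q) h (psmul (a.prod (bQ q)) g e) =
        psmul (a.prod (bQ q)) g (psmul (cQ X Q) h e) := by
    intro T g h e
    apply CartesianMonoidalCategory.hom_ext
    · rw [psmul_cQ_fst, psmul_prod_fst, psmul_prod_fst, psmul_cQ_fst]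
    · rw [psmul_cQ_snd, psmul_prod_snd, psmul_prod_snd, psmul_cQ_snd, psmul_bQ, psmul_bQ,
        _root_.mul_assoc]
  obtain ⟨cbar, hcbar⟩ := exists_action_of_commute (a.prod (bQ q)) p htors hlocp (cQ X Q) hcomm
  have hrtors : IsPullback cbar.act (snd Q P) r r := by
    apply isPullback_of_commute p hlocp (cQ X Q) cbar hcbar r
    · intro T h e
      rw [hpr, ← Category.assoc, ← Category.assoc, psmul_cQ_fst]
    · intro T e e' hee
      have h1 : (e ≫ fst X Q) ≫ φ = (e' ≫ fst X Q) ≫ φ := by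
        rw [Category.assoc, Category.assoc, ← hpr, hee]
      obtain ⟨g, hg⟩ := exists_psmul_of_isPullback a φ hcart _ _ h1
      refine ⟨(e ≫ snd X Q)⁻¹ * (g ≫ q) * (e' ≫ snd X Q), ?_⟩
      rw [← hpinv g]
      congr 1
      apply CartesianMonoidalCategory.hom_ext
      · rw [psmul_prod_fst, psmul_cQ_fst, hg]
      · rw [psmul_prod_snd, psmul_cQ_snd, psmul_bQ]
        group
    · intro T h h' e hh
      obtain ⟨g, hg⟩ := exists_psmul_of_isPullback (a.prod (bQ q)) p htors _ _ hh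
      have h1 := congr($hg ≫ fst X Q)
      rw [psmul_prod_fst, psmul_cQ_fst, psmul_cQ_fst] at h1
      have hg1 : g = 1 := by
        apply eq_of_psmul_eq_of_isPullback a φ hcart g 1 (e ≫ fst X Q)
        rw [h1, one_psmul]
      have h2 := congr($hg ≫ snd X Q)
      rw [psmul_prod_snd, psmul_cQ_snd, psmul_cQ_snd, psmul_bQ, hg1, MonObj.one_comp,
        _root_.one_mul] at h2
      have h3 : h'⁻¹ = h⁻¹ := mul_left_cancel h2
      exact (inv_inj.1 h3).symm
  -- the map `π`
  let π : X ⟶ P := lift (𝟙 X) (toUnit X ≫ η[Q]) ≫ p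
  have hπpt : ∀ {T : Over S} (x : T ⟶ X), x ≫ π = lift x (1 : T ⟶ Q) ≫ p := by
    intro T x
    have e1 : x ≫ lift (𝟙 X) (toUnit X ≫ η[Q]) = lift x (1 : T ⟶ Q) := by
      rw [comp_lift, Category.comp_id, ← Category.assoc, Hom.one_def,
        toUnit_unique (x ≫ toUnit X) (toUnit T)]
    rw [← e1, Category.assoc]
  have hπr : π ≫ r = φ := by
    change (lift (𝟙 X) (toUnit X ≫ η[Q]) ≫ p) ≫ r = φ
    rw [Category.assoc, hpr, ← Category.assoc, lift_fst, Category.id_comp]
  have hequiv : ∀ {T : Over S} (g : T ⟶ G) (x : T ⟶ X),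
      psmul a g x ≫ π = psmul cbar (g ≫ q) (x ≫ π) := by
    intro T g x
    rw [hπpt, hπpt, hcbar, ← hpinv g (psmul (cQ X Q) (g ≫ q) (lift x 1))]
    congr 1
    apply CartesianMonoidalCategory.hom_ext
    · rw [lift_fst, psmul_prod_fst, psmul_cQ_fst, lift_fst]
    · rw [lift_snd, psmul_prod_snd, psmul_cQ_snd, lift_snd, psmul_bQ, _root_.one_mul,
        mul_inv_cancel]
  exact ⟨P, π, r, cbar, hπr, hrtors, hequiv⟩

end Groth.Agent.H40.ExtTorsor
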