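import Groth.Agent.H40.GLamFlat
import Groth.Agent.H40.GmXPts
import Groth.Agent.H40.PushTorsor
import Groth.Agent.H40.H90GLamGlob

/-!
# Torsors under `G^(λ)`: geometric properties and the closed subscheme `λ = 0`
-/

set_option autoImplicit false
universe u

open CategoryTheory AlgebraicGeometry CategoryTheory.Limits MonoidalCategory
  CartesianMonoidalCategory MonObj
open Groth.Agent.H42
open scoped TensorProduct

namespace Groth.Agent.H40.GLam

open SekSuwa SpecPts

variable {R : Type u} [CommRing R] (lam : R) {X : Scheme.{u}} (f : X ⟶ Spec (CommRingCat.of R))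

section Props

lemma flat_G : Flat (SekSuwa.G R lam).hom := by
  change Flat (Spec.map (CommRingCat.ofHom (algebraMap R (A R lam))))
  rw [Flat.SpecMap_iff]
  exact RingHom.flat_algebraMap_iff.mpr inferInstance

lemma flat_bcG : Flat (Red.bc f (SekSuwa.G R lam)).hom := by
  have := flat_G lam
  exact inferInstanceAs (Flat (pullback.snd _ _))

lemma isAffineHom_bcG : IsAffineHom (Red.bc f (SekSuwa.G R lam)).hom := by
  have : IsAffineHom (SekSuwa.G R lam).hom := by
    change IsAffineHom (Spec.map (CommRingCat.ofHom (algebraMap R (A R lam))))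
    infer_instance
  exact MorphismProperty.pullback_snd (P := @IsAffineHom) _ _ this

lemma isAffineHom_bcGm : IsAffineHom (Red.bc f (Red.diag R ℤ)).hom := by
  have : IsAffineHom (Red.diag R ℤ).hom := by
    change IsAffineHom (Spec.map (CommRingCat.ofHom
      (algebraMap R (MonoidAlgebra R (Multiplicative ℤ)))))
    infer_instance
  exact MorphismProperty.pullback_snd (P := @IsAffineHom) _ _ this

lemma surjective_hom_of_grpObj {S : Scheme.{u}} (G : Over S) [GrpObj G] : Surjective G.hom := by
  have h : η[G].left ≫ G.hom = 𝟙 S := Over.w η[G]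
  have : Surjective (η[G].left ≫ G.hom) := by
    rw [h]
    exact ⟨fun x => ⟨x, rfl⟩⟩
  exact Surjective.of_comp η[G].left G.hom

variable {P : Over X} (a : AlgGrp.Action (Red.bc f (SekSuwa.G R lam)) P)
  (hP : NonAbH1.IsTorsorFor Scheme.fpqcPrecoverage a)

include hP in
lemma flat_torsor : Flat P.hom :=
  prop_hom_of_isTorsorFor_fpqc @Flat flat_descendsAlong a hP (flat_bcG lam f)

include hP in
lemma quasiCompact_torsor : QuasiCompact P.hom := by
  have := isAffineHom_bcG lam f
  exact prop_hom_of_isTorsorFor_fpqc @QuasiCompact quasiCompact_descendsAlong a hP inferInstance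

include hP in
lemma surjective_torsor : Surjective P.hom := by
  obtain ⟨-, R', hR', hs⟩ := hP
  refine prop_of_fpqcPresieve @Surjective inferInstance P.hom hR' (fun Z g hg => ?_)
  obtain ⟨s, hs'⟩ := hs g hg
  subst hs'
  have hσ : pullback.lift s (𝟙 Z) (by simp) ≫ pullback.snd P.hom (s ≫ P.hom) = 𝟙 Z :=
    pullback.lift_snd _ _ _
  refine ⟨fun z => ⟨pullback.lift s (𝟙 Z) (by simp) z, ?_⟩⟩
  rw [← Scheme.Hom.comp_apply, hσ]
  rfl

end Props

section Xl

/-- the closed subscheme `λ = 0` of `X`, as an `X`-scheme. -/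
noncomputable def Xl : Over X :=
  Over.mk (pullback.fst f (Spec.map (CommRingCat.ofHom
    (Ideal.Quotient.mk (Ideal.span ({lam} : Set R))))))

lemma lamT_eq_zero_of_hom {T : Over X} (t : T ⟶ Xl lam f) : lamT lam f T = 0 := by
  unfold lamT
  let tl : T.left ⟶ pullback f (Spec.map (CommRingCat.ofHom
      (Ideal.Quotient.mk (Ideal.span ({lam} : Set R))))) := t.left
  have h1 : T.hom = tl ≫ pullback.fst f (Spec.map (CommRingCat.ofHom
      (Ideal.Quotient.mk (Ideal.span ({lam} : Set R))))) := (Over.w t).symm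
  rw [h1, Category.assoc, pullback.condition, ← Category.assoc, pb_comp_specMap]
  have : Ideal.Quotient.mk (Ideal.span ({lam} : Set R)) lam = 0 :=
    Ideal.Quotient.eq_zero_iff_mem.mpr (Ideal.subset_span rfl)
  rw [this, map_zero]

lemma exists_hom_Xl {T : Over X} (h : lamT lam f T = 0) : Nonempty (T ⟶ Xl lam f) := by
  have hker : ∀ r ∈ Ideal.span ({lam} : Set R), pb (T.hom ≫ f) r = 0 := by
    intro r hr
    obtain ⟨c, rfl⟩ := Ideal.mem_span_singleton'.mp hr
    rw [map_mul]
    have : pb (T.hom ≫ f) lam = 0 := h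
    rw [this, mul_zero]
  obtain ⟨g, hg⟩ := pb_surjective (A := R ⧸ Ideal.span ({lam} : Set R)) (Y := T.left)
    (Ideal.Quotient.lift (Ideal.span ({lam} : Set R)) (pb (T.hom ≫ f)) hker)
  have hw : T.hom ≫ f = g ≫ Spec.map (CommRingCat.ofHom
      (Ideal.Quotient.mk (Ideal.span ({lam} : Set R)))) := by
    apply pb_injective
    ext r
    rw [pb_comp_specMap, hg, Ideal.Quotient.lift_mk]
  exact ⟨Over.homMk (pullback.lift T.hom g hw) (pullback.lift_fst _ _ _)⟩

end Xl

end Groth.Agent.H40.GLam
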