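import Groth.Agent.H40.GLamTors

/-!
# The equivariant unit on a `G^(λ)`-torsor whose push-forward to `𝔾_m` is trivial
-/

set_option autoImplicit false
universe u

open CategoryTheory AlgebraicGeometry CategoryTheory.Limits MonoidalCategory
  CartesianMonoidalCategory MonObj
open Groth.Agent.H42
open scoped TensorProduct

namespace Groth.Agent.H40.GLam

open SekSuwa SpecPts Groth.Agent.H40.ExtTorsor

variable {R : Type u} [CommRing R] (lam : R) {X : Scheme.{u}} (f : X ⟶ Spec (CommRingCat.of R))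

/-- `α^λ` over `X`. -/
noncomputable abbrev alphaX : Red.bc f (SekSuwa.G R lam) ⟶ Red.bc f (Red.diag R ℤ) :=
  (Over.pullback f).map (SekSuwa.alpha R lam)

variable {P : Over X} (a : AlgGrp.Action (Red.bc f (SekSuwa.G R lam)) P)

/-- if all `𝔾_m`-torsors over `X` are trivial, a `G^(λ)`-torsor carries an equivariant unit. -/
theorem exists_equivariant_unit
    (hpic : ∀ (Q : Over X) (b : AlgGrp.Action (Red.bc f (Red.diag R ℤ)) Q),
      NonAbH1.IsTorsorFor Scheme.fppfPrecoverage b → NonAbH1.HasSectionOver Q (𝟙 X))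
    (hP : NonAbH1.IsTorsorFor Scheme.fppfPrecoverage a) :
    ∃ u : P ⟶ Red.bc f (Red.diag R ℤ), ∀ {T : Over X} (g : T ⟶ Red.bc f (SekSuwa.G R lam))
      (x : T ⟶ P), psmul a g x ≫ u = (g ≫ alphaX lam f) * (x ≫ u) := by
  have hPq : NonAbH1.IsTorsorFor Scheme.fpqcPrecoverage a :=
    ⟨hP.1, IsLocallyTrivialFor.mono Scheme.fppfPrecoverage_le_fpqcPrecoverage hP.2⟩
  have h1 : Flat (toUnit P).left := flat_torsor lam f a hPq
  have h2 : Surjective (toUnit P).left := surjective_torsor lam f a hPq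
  have h3 : QuasiCompact (toUnit P).left := quasiCompact_torsor lam f a hPq
  have h4 : IsAffineHom (fst P (Red.bc f (Red.diag R ℤ))).left := by
    change IsAffineHom (pullback.fst P.hom (Red.bc f (Red.diag R ℤ)).hom)
    exact MorphismProperty.pullback_fst (P := @IsAffineHom) _ _ (isAffineHom_bcGm f)
  have hcart := isPullback_toUnit_of_isPseudoTorsor a hP.1
  have hloc : NonAbH1.IsLocallyTrivialFor Scheme.fpqcPrecoverage
      (Over.mk (toUnit P).left : Over (𝟙_ (Over X)).left) := hPq.2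
  obtain ⟨Q, π, r, cbar, -, hrtors, hequiv⟩ :=
    exists_push (alphaX lam f) a (toUnit P) hcart hloc
  have hr : r = toUnit Q := toUnit_unique _ _
  rw [hr] at hrtors
  have hQ : NonAbH1.IsTorsorFor Scheme.fppfPrecoverage cbar := by
    refine ⟨isPseudoTorsor_of_isPullback_toUnit cbar hrtors, ?_⟩
    obtain ⟨R', hR', hs⟩ := hP.2
    refine ⟨R', hR', fun S' g hg => ?_⟩
    obtain ⟨s, hs'⟩ := hs g hg
    exact ⟨s ≫ π.left, by rw [Category.assoc, Over.w π, hs']⟩
  obtain ⟨σ, hσ⟩ := hpic Q cbar hQ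
  let σ' : 𝟙_ (Over X) ⟶ Q := Over.homMk σ hσ
  obtain ⟨u, hu⟩ := exists_psmul_of_isPullback cbar (toUnit Q) hrtors π (toUnit P ≫ σ')
    (toUnit_unique _ _)
  refine ⟨u, ?_⟩
  intro T g x
  apply eq_of_psmul_eq_of_isPullback cbar (toUnit Q) hrtors _ _ (toUnit T ≫ σ')
  have e1 : ∀ y : T ⟶ P, psmul cbar (y ≫ u) (toUnit T ≫ σ') = y ≫ π := by
    intro y
    rw [← hu, comp_psmul, ← Category.assoc, toUnit_unique (y ≫ toUnit P) (toUnit T)]
  rw [e1, mul_psmul, e1, hequiv]

end Groth.Agent.H40.GLam
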