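import Groth.Agent.H40.SekSuwaIso
import Groth.Prelude.Def_GLin4
import Groth.Prelude.Def_CoactBr

/-!
# Points of the general linear group `Spec (GLn n R)` over `Spec R` as invertible matrices

For `Y` over `Spec R`, a point `c : Y ⟶ CoactBr.sp R (CoordGrp.GLn n R)` has a matrix
`glMat c : Matrix (Fin n) (Fin n) Γ(Y, ⊤)`; this is injective, multiplicative, natural, and its
image consists of the matrices with invertible determinant.
-/

set_option autoImplicit false
universe u

open CategoryTheory AlgebraicGeometry CategoryTheory.Limits MonoidalCategory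
  CartesianMonoidalCategory MonObj
open Groth.Agent.H42
open scoped TensorProduct

namespace Groth.Agent.H40.GLnPts

open CoordGrp SpecPts

variable {R : Type u} [CommRing R] {n : ℕ} {Y : Over (Spec (CommRingCat.of R))}

/-- the matrix of a point of `GL_n`. -/
noncomputable def glMat (c : Y ⟶ CoactBr.sp R (GLn n R)) : Matrix (Fin n) (Fin n) Γ(Y.left, ⊤) :=
  fun i j => pb (ptL c) (GLn.X i j)

/-- the inverse determinant of a point of `GL_n`. -/
noncomputable def glDinv (c : Y ⟶ CoactBr.sp R (GLn n R)) : Γ(Y.left, ⊤) := pb (ptL c) GLn.Dinv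

theorem glMat_apply (c : Y ⟶ CoactBr.sp R (GLn n R)) (i j : Fin n) :
    glMat c i j = pb (ptL c) (GLn.X i j) := rfl

theorem glMat_eq_map (c : Y ⟶ CoactBr.sp R (GLn n R)) :
    glMat c = (GLn.genMat n R).map (pb (ptL c)) := rfl

theorem glMat_det_mul (c : Y ⟶ CoactBr.sp R (GLn n R)) : (glMat c).det * glDinv c = 1 := by
  rw [glMat_eq_map, ← RingHom.mapMatrix_apply, ← RingHom.map_det, ← GLn.det_eq, glDinv, ← map_mul,
    GLn.det_mul_Dinv, map_one]

theorem isUnit_det_glMat (c : Y ⟶ CoactBr.sp R (GLn n R)) : IsUnit (glMat c).det :=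
  IsUnit.of_mul_eq_one _ (glMat_det_mul c)

theorem glMat_mul (c d : Y ⟶ CoactBr.sp R (GLn n R)) : glMat (c * d) = glMat c * glMat d := by
  ext i j
  rw [glMat_apply, pb_ptL_mul, GLn.comul_X, map_sum, Matrix.mul_apply]
  refine Finset.sum_congr rfl fun l _ => ?_
  rw [pb_pairPt_tmul]
  rfl

theorem glMat_one : glMat (1 : Y ⟶ CoactBr.sp R (GLn n R)) = 1 := by
  ext i j
  rw [glMat_apply, pb_ptL_one, GLn.counit_X, Matrix.one_apply]
  split_ifs <;> simp

theorem glMat_injective : Function.Injective (glMat (R := R) (n := n) (Y := Y)) := by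
  intro c d h
  apply ptAlg_injective
  letI := algY Y
  apply GLn.algHom_ext
  · intro i j
    exact congrFun (congrFun h i) j
  · show glDinv c = glDinv d
    have hc := glMat_det_mul c
    have hd := glMat_det_mul d
    rw [h] at hc
    exact (isUnit_det_glMat d).mul_left_cancel (hc.trans hd.symm)

theorem glMat_surjective (M : Matrix (Fin n) (Fin n) Γ(Y.left, ⊤)) (hM : IsUnit M.det) :
    ∃ c : Y ⟶ CoactBr.sp R (GLn n R), glMat c = M := by
  letI := algY Y
  obtain ⟨d, hd⟩ := hM.exists_right_inv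
  obtain ⟨c, hc⟩ := ptAlg_surjective (B := GLn n R) (Y := Y) (GLn.pt n R M d hd)
  refine ⟨c, ?_⟩
  ext i j
  have := congrArg (fun φ : GLn n R →ₐ[R] Γ(Y.left, ⊤) => φ (GLn.X i j)) hc
  exact this.trans (GLn.pt_X _ _ _ _ _)

theorem glMat_comp {Y' : Over (Spec (CommRingCat.of R))} (h : Y' ⟶ Y)
    (c : Y ⟶ CoactBr.sp R (GLn n R)) : glMat (h ≫ c) = (glMat c).map h.left.appTop := by
  ext i j
  rw [glMat_apply, ptL_comp, pb_comp]
  rfl

theorem glMat_ext {c d : Y ⟶ CoactBr.sp R (GLn n R)} (h : glMat c = glMat d) : c = d :=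
  glMat_injective h

theorem glMat_inv_mul (c : Y ⟶ CoactBr.sp R (GLn n R)) : glMat c⁻¹ * glMat c = 1 := by
  rw [← glMat_mul, inv_mul_cancel, glMat_one]

theorem glMat_mul_inv (c : Y ⟶ CoactBr.sp R (GLn n R)) : glMat c * glMat c⁻¹ = 1 := by
  rw [← glMat_mul, mul_inv_cancel, glMat_one]

end Groth.Agent.H40.GLnPts
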