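import Groth.Agent.H40.Kunneth

/-!
# The coalgebra structure on the global functions of a qcqs monoid scheme over a field
-/

set_option autoImplicit false
universe u
open CategoryTheory AlgebraicGeometry CategoryTheory.Limits MonoidalCategory
  CartesianMonoidalCategory MonObj
open Groth.Agent.H42
open scoped TensorProduct

namespace Groth.Agent.H40.Kunneth

variable {k : Type u} [Field k]

section Kap

variable (X Y : Over (Spec (CommRingCat.of k))) [QuasiCompact X.hom] [QuasiSeparated X.hom]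
  [QuasiCompact Y.hom] [QuasiSeparated Y.hom]

/-- the Künneth isomorphism. -/
noncomputable def kap : Γ(X.left, ⊤) ⊗[k] Γ(Y.left, ⊤) ≃ₐ[k] Γ((X ⊗ Y).left, ⊤) :=
  AlgEquiv.ofBijective (kapHom X Y) (kapHom_bijective X Y)

theorem kap_apply (t : Γ(X.left, ⊤) ⊗[k] Γ(Y.left, ⊤)) : kap X Y t = kapHom X Y t := rfl

omit [QuasiCompact X.hom] [QuasiSeparated X.hom] [QuasiCompact Y.hom] [QuasiSeparated Y.hom] in
theorem pbA_lift_kapHom {Z : Over (Spec (CommRingCat.of k))} (x : Z ⟶ X) (y : Z ⟶ Y)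
    (t : Γ(X.left, ⊤) ⊗[k] Γ(Y.left, ⊤)) :
    pbA (lift x y) (kapHom X Y t) = Algebra.TensorProduct.productMap (pbA x) (pbA y) t := by
  induction t using TensorProduct.induction_on with
  | zero => simp
  | tmul a b =>
    rw [kapHom_tmul, map_mul, ← pbA_comp, ← pbA_comp, lift_fst, lift_snd,
      Algebra.TensorProduct.productMap_apply_tmul]
  | add s t hs ht => rw [map_add, map_add, map_add, hs, ht]

instance : QuasiCompact (X ⊗ Y).hom := by
  change QuasiCompact (pullback.fst X.hom Y.hom ≫ X.hom)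
  infer_instance

instance : QuasiSeparated (X ⊗ Y).hom := by
  change QuasiSeparated (pullback.fst X.hom Y.hom ≫ X.hom)
  infer_instance

end Kap

section Unit

theorem algebraMap_unit_bijective :
    Function.Bijective (algebraMap k Γ((𝟙_ (Over (Spec (CommRingCat.of k)))).left, ⊤)) := by
  have hb : Function.Bijective (Scheme.ΓSpecIso (CommRingCat.of k)).inv :=
    ConcreteCategory.bijective_of_isIso _
  have h : ∀ r : k, algebraMap k Γ((𝟙_ (Over (Spec (CommRingCat.of k)))).left, ⊤) r =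
      (Scheme.ΓSpecIso (CommRingCat.of k)).inv r := by
    intro r
    change pb (𝟙 (Spec (CommRingCat.of k))) r = _
    rw [pb_apply]
    rfl
  constructor
  · intro a b hab
    rw [h, h] at hab
    exact hb.1 hab
  · intro y
    obtain ⟨r, hr⟩ := hb.2 y
    exact ⟨r, by rw [h, hr]⟩

/-- `k ≃ Γ(Spec k)` -/
noncomputable def unitEquiv : k ≃ₐ[k] Γ((𝟙_ (Over (Spec (CommRingCat.of k)))).left, ⊤) :=
  AlgEquiv.ofBijective (Algebra.ofId k _) algebraMap_unit_bijective

theorem unitEquiv_apply (r : k) : unitEquiv (k := k) r = algebraMap k _ r := rfl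

end Unit

section Coalg

variable (G : Over (Spec (CommRingCat.of k))) [MonObj G] [QuasiCompact G.hom] [QuasiSeparated G.hom]

/-- comultiplication on `Γ(G)` -/
noncomputable def comulΓ : Γ(G.left, ⊤) →ₗ[k] Γ(G.left, ⊤) ⊗[k] Γ(G.left, ⊤) :=
  (kap G G).symm.toLinearMap ∘ₗ (pbA μ[G]).toLinearMap

/-- counit on `Γ(G)` -/
noncomputable def counitΓ : Γ(G.left, ⊤) →ₗ[k] k :=
  (unitEquiv (k := k)).symm.toLinearMap ∘ₗ (pbA η[G]).toLinearMap

theorem kapHom_comulΓ (a : Γ(G.left, ⊤)) : kapHom G G (comulΓ G a) = pbA μ[G] a := by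
  change kap G G ((kap G G).symm (pbA μ[G] a)) = _
  rw [AlgEquiv.apply_symm_apply]

theorem algebraMap_counitΓ (a : Γ(G.left, ⊤)) :
    algebraMap k Γ((𝟙_ (Over (Spec (CommRingCat.of k)))).left, ⊤) (counitΓ G a) = pbA η[G] a := by
  change unitEquiv (k := k) ((unitEquiv (k := k)).symm (pbA η[G] a)) = _
  rw [AlgEquiv.apply_symm_apply]

variable {G}

theorem pbA_mul {Z : Over (Spec (CommRingCat.of k))} (x y : Z ⟶ G) (a : Γ(G.left, ⊤)) :
    pbA (x * y) a = Algebra.TensorProduct.productMap (pbA x) (pbA y) (comulΓ G a) := by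
  rw [Hom.mul_def, pbA_comp, ← kapHom_comulΓ, pbA_lift_kapHom]

theorem pbA_one {Z : Over (Spec (CommRingCat.of k))} (a : Γ(G.left, ⊤)) :
    pbA (1 : Z ⟶ G) a = algebraMap k _ (counitΓ G a) := by
  rw [Hom.one_def, pbA_comp, ← algebraMap_counitΓ, AlgHom.commutes]

/-- the three-fold Künneth map on `G × (G × G)`. -/
noncomputable def T3 : Γ(G.left, ⊤) ⊗[k] (Γ(G.left, ⊤) ⊗[k] Γ(G.left, ⊤)) →ₐ[k]
    Γ((G ⊗ (G ⊗ G)).left, ⊤) :=
  (kapHom G (G ⊗ G)).comp
    (Algebra.TensorProduct.congr (AlgEquiv.refl (R := k) (A₁ := Γ(G.left, ⊤))) (kap G G)).toAlgHom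

variable (G) in
theorem T3_injective : Function.Injective (T3 (G := G)) := by
  unfold T3
  exact (kapHom_bijective G (G ⊗ G)).1.comp (AlgEquiv.injective _)

/-- first projection of the triple product -/
noncomputable abbrev x₃ : G ⊗ (G ⊗ G) ⟶ G := fst G (G ⊗ G)
/-- second projection of the triple product -/
noncomputable abbrev y₃ : G ⊗ (G ⊗ G) ⟶ G := snd G (G ⊗ G) ≫ fst G G
/-- third projection of the triple product -/
noncomputable abbrev z₃ : G ⊗ (G ⊗ G) ⟶ G := snd G (G ⊗ G) ≫ snd G G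

theorem T3_tmul (a : Γ(G.left, ⊤)) (s : Γ(G.left, ⊤) ⊗[k] Γ(G.left, ⊤)) :
    T3 (a ⊗ₜ s) = pbA (x₃ (G := G)) a *
      Algebra.TensorProduct.productMap (pbA (y₃ (G := G))) (pbA (z₃ (G := G))) s := by
  unfold T3
  rw [AlgHom.comp_apply]
  change kapHom G (G ⊗ G) (a ⊗ₜ kapHom G G s) = _
  rw [kapHom_tmul]
  congr 1
  have h := pbA_lift_kapHom G G (y₃ (G := G)) (z₃ (G := G)) s
  rw [← h]
  congr 2
  apply CartesianMonoidalCategory.hom_ext <;> simp

theorem T3_lTensor (t : Γ(G.left, ⊤) ⊗[k] Γ(G.left, ⊤)) :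
    T3 ((comulΓ G).lTensor _ t) =
      Algebra.TensorProduct.productMap (pbA (x₃ (G := G))) (pbA (y₃ (G := G) * z₃)) t := by
  induction t using TensorProduct.induction_on with
  | zero => simp
  | tmul u v =>
    rw [LinearMap.lTensor_tmul, T3_tmul, ← pbA_mul, Algebra.TensorProduct.productMap_apply_tmul]
  | add s t hs ht => rw [map_add, map_add, map_add, hs, ht]

theorem T3_assoc_tmul (s : Γ(G.left, ⊤) ⊗[k] Γ(G.left, ⊤)) (v : Γ(G.left, ⊤)) :
    T3 (TensorProduct.assoc k _ _ _ (s ⊗ₜ[k] v)) =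
      Algebra.TensorProduct.productMap (pbA (x₃ (G := G))) (pbA (y₃ (G := G))) s *
        pbA (z₃ (G := G)) v := by
  induction s using TensorProduct.induction_on with
  | zero => simp
  | tmul p q =>
    rw [TensorProduct.assoc_tmul, T3_tmul, Algebra.TensorProduct.productMap_apply_tmul,
      Algebra.TensorProduct.productMap_apply_tmul, _root_.mul_assoc]
  | add s t hs ht => rw [TensorProduct.add_tmul, map_add, map_add, map_add, hs, ht, add_mul]

theorem T3_rTensor (t : Γ(G.left, ⊤) ⊗[k] Γ(G.left, ⊤)) :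
    T3 (TensorProduct.assoc k _ _ _ ((comulΓ G).rTensor _ t)) =
      Algebra.TensorProduct.productMap (pbA (x₃ (G := G) * y₃)) (pbA (z₃ (G := G))) t := by
  induction t using TensorProduct.induction_on with
  | zero => simp
  | tmul u v =>
    rw [LinearMap.rTensor_tmul, T3_assoc_tmul, ← pbA_mul,
      Algebra.TensorProduct.productMap_apply_tmul]
  | add s t hs ht => rw [map_add, map_add, map_add, map_add, hs, ht]

theorem lid_rTensor_counitΓ (t : Γ(G.left, ⊤) ⊗[k] Γ(G.left, ⊤)) :
    TensorProduct.lid k Γ(G.left, ⊤) ((counitΓ G).rTensor _ t) =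
      Algebra.TensorProduct.productMap (pbA (1 : G ⟶ G)) (pbA (𝟙 G)) t := by
  induction t using TensorProduct.induction_on with
  | zero => simp
  | tmul u v =>
    rw [LinearMap.rTensor_tmul, TensorProduct.lid_tmul,
      Algebra.TensorProduct.productMap_apply_tmul, pbA_one, pbA_id, Algebra.smul_def]
  | add s t hs ht => rw [map_add, map_add, map_add, hs, ht]

theorem rid_lTensor_counitΓ (t : Γ(G.left, ⊤) ⊗[k] Γ(G.left, ⊤)) :
    TensorProduct.rid k Γ(G.left, ⊤) ((counitΓ G).lTensor _ t) =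
      Algebra.TensorProduct.productMap (pbA (𝟙 G)) (pbA (1 : G ⟶ G)) t := by
  induction t using TensorProduct.induction_on with
  | zero => simp
  | tmul u v =>
    rw [LinearMap.lTensor_tmul, TensorProduct.rid_tmul,
      Algebra.TensorProduct.productMap_apply_tmul, pbA_one, pbA_id, Algebra.smul_def, mul_comm]
  | add s t hs ht => rw [map_add, map_add, map_add, hs, ht]

variable (G) in
/-- the coalgebra structure on the global functions of a qcqs monoid scheme over a field. -/
@[reducible] noncomputable def coalgΓ : Coalgebra k Γ(G.left, ⊤) where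
  comul := comulΓ G
  counit := counitΓ G
  coassoc := by
    ext a
    apply T3_injective G
    simp only [LinearMap.comp_apply, LinearEquiv.coe_coe]
    rw [T3_rTensor, T3_lTensor, ← pbA_mul, ← pbA_mul, _root_.mul_assoc]
  rTensor_counit_comp_comul := by
    ext a
    apply (TensorProduct.lid k Γ(G.left, ⊤)).injective
    have h := pbA_mul (1 : G ⟶ G) (𝟙 G) a
    rw [_root_.one_mul, pbA_id] at h
    simp only [LinearMap.comp_apply, TensorProduct.mk_apply, TensorProduct.lid_tmul, one_smul]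
    rw [lid_rTensor_counitΓ, ← h]
  lTensor_counit_comp_comul := by
    ext a
    apply (TensorProduct.rid k Γ(G.left, ⊤)).injective
    have h := pbA_mul (𝟙 G) (1 : G ⟶ G) a
    rw [_root_.mul_one, pbA_id] at h
    simp only [LinearMap.comp_apply, LinearMap.flip_apply, TensorProduct.mk_apply,
      TensorProduct.rid_tmul, one_smul]
    rw [rid_lTensor_counitΓ, ← h]

end Coalg

end Groth.Agent.H40.Kunneth
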