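import Groth.Agent.H40.H90Coc

/-!
# Descent of a twisted point along a cover of a localization

A variant of `exists_section_of_coboundary` in which the coboundary lives on an arbitrary
`A`-algebra `A''` which is faithfully flat over an `A`-algebra `B`.
-/

set_option autoImplicit false
universe u
open CategoryTheory CategoryTheory.Limits MonoidalCategory CartesianMonoidalCategory MonObj
  AlgebraicGeometry TensorProduct

namespace Groth.Agent.H40.H90

open Groth.Agent.H40 Groth.Agent.H40.H90Ring

variable {S : Scheme.{u}} {A : Type u} [CommRing A] (ch : Spec (CommRingCat.of A) ⟶ S)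

section Invariant

variable {X : Over S} {A'' B : Type u} [CommRing A''] [CommRing B] [Algebra A A''] [Algebra A B]
  [Algebra B A''] [IsScalarTower A B A'']

/-- a point over `A''` with equal pull-backs to `A'' ⊗_A A''` descends to `B`, if `A''` is
faithfully flat over `B`. -/
theorem exists_section_of_invariant [Flat (sp (algebraMap B A''))]
    [Surjective (sp (algebraMap B A''))]
    (x'' : oS ch A'' ⟶ X) (hx : oMap ch (i1 A A'') ≫ x'' = oMap ch (i2 A A'') ≫ x'') :
    ∃ y : Spec (CommRingCat.of B) ⟶ X.left, y ≫ X.hom = sp (algebraMap A B) ≫ ch := by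
  let π : oS ch A'' ⟶ oS ch B := oMap ch (IsScalarTower.toAlgHom A B A'')
  have hπ : π.left = sp (algebraMap B A'') := rfl
  have hloc : NonAbH1.IsLocallyTrivialFor Scheme.fpqcPrecoverage
      (Over.mk π.left : Over (oS ch B).left) := by
    rw [hπ]
    exact isLocallyTrivialFor_of_fpqc (sp (algebraMap B A''))
  obtain ⟨y, hy, -⟩ := existsUnique_desc_over_of_locallyTrivial π hloc x'' (by
    intro Z z₁ z₂ h12
    have hbase : z₁.left ≫ sp (algebraMap A A'') = z₂.left ≫ sp (algebraMap A A'') := by
      have h12' : z₁.left ≫ sp (algebraMap B A'') = z₂.left ≫ sp (algebraMap B A'') :=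
        congrArg (fun t => t.left) h12
      have e : sp (algebraMap B A'') ≫ sp (algebraMap A B) = sp (algebraMap A A'') := by
        rw [sp_comp, ← IsScalarTower.algebraMap_eq]
      rw [← e]
      exact (Category.assoc _ _ _).symm.trans
        ((congrArg (· ≫ sp (algebraMap A B)) h12').trans (Category.assoc _ _ _))
    obtain ⟨c, hc1, hc2⟩ := exists_lift_tensor ch z₁ z₂ hbase
    rw [← hc1, ← hc2, Category.assoc, Category.assoc, hx])
  exact ⟨y.left, Over.w y⟩

end Invariant

section Twist

variable {G X : Over S} [GrpObj G] (a : AlgGrp.Action G X)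
variable {A' A'' : Type u} [CommRing A'] [CommRing A''] [Algebra A A'] [Algebra A A'']

/-- the twist of a point by a coboundary of its cocycle is invariant. -/
theorem twist_invariant (x₀ : oS ch A' ⟶ X) (gam : oS ch (A' ⊗[A] A') ⟶ G)
    (hgam : psmul a gam (oMap ch (i2 A A') ≫ x₀) = oMap ch (i1 A A') ≫ x₀)
    (ρ : A' →ₐ[A] A'') (lam : oS ch A'' ⟶ G)
    (hlam : (oMap ch (i1 A A'') ≫ lam) * (oMap ch (tm ρ) ≫ gam) = oMap ch (i2 A A'') ≫ lam) :
    oMap ch (i1 A A'') ≫ psmul a lam (oMap ch ρ ≫ x₀) =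
      oMap ch (i2 A A'') ≫ psmul a lam (oMap ch ρ ≫ x₀) := by
  have e1 : oMap ch (i1 A A'') ≫ oMap ch ρ ≫ x₀ = oMap ch (tm ρ) ≫ oMap ch (i1 A A') ≫ x₀ := by
    rw [← Category.assoc, oMap_comp, ← tm_comp_i1, ← oMap_comp, Category.assoc]
  have e2 : oMap ch (i2 A A'') ≫ oMap ch ρ ≫ x₀ = oMap ch (tm ρ) ≫ oMap ch (i2 A A') ≫ x₀ := by
    rw [← Category.assoc, oMap_comp, ← tm_comp_i2, ← oMap_comp, Category.assoc]
  rw [comp_psmul, comp_psmul, ← hlam, mul_psmul, e1, e2, ← hgam, comp_psmul]

end Twist

end Groth.Agent.H40.H90
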