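import Groth.Agent.H40.H90Coc

/-!
# Ring-level Hilbert 90 for the group law `x ⋆ y = x + y + l x y` (the groups `𝒢^(λ)`)
-/

set_option autoImplicit false
universe u
open TensorProduct

namespace Groth.Agent.H40.H90Ring

variable {A A' : Type u} [CommRing A] [CommRing A'] [Algebra A A']

section Strong

variable [Module.FaithfullyFlat A A']

/-- **Hilbert 90 (local form)**, with the equation for the second factor. -/
theorem exists_local_coboundary' (u : (A' ⊗[A] A')ˣ)
    (hc : j12 A A' (u : A' ⊗[A] A') * j23 A A' u = j13 A A' u) (p : Ideal A) [hp : p.IsPrime] :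
    ∃ (f : A) (m n : A'), f ∉ p ∧ algebraMap A A' f = m * n ∧
      (1 : A') ⊗ₜ[A] m = (u : A' ⊗[A] A') * (m ⊗ₜ 1) ∧
      (1 : A') ⊗ₜ[A] n = ((u⁻¹ : (A' ⊗[A] A')ˣ) : A' ⊗[A] A') * (n ⊗ₜ 1) := by
  set L := LinearMap.ker (dTw (u : A' ⊗[A] A')) with hL
  set L' := LinearMap.ker (dTw ((u⁻¹ : (A' ⊗[A] A')ˣ) : A' ⊗[A] A')) with hL'
  have h1 : (1 : A') ∈ Ideal.span (L : Set A') := one_mem_span_ker _ u.isUnit hc
  have h1' : (1 : A') ∈ Ideal.span (L' : Set A') :=
    one_mem_span_ker _ (u⁻¹).isUnit (cocycle_inv u hc)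
  let gen : Set A := {a | ∃ m ∈ L, ∃ n ∈ L', algebraMap A A' a = m * n}
  have hmap : (Ideal.span gen).map (algebraMap A A') = ⊤ := by
    rw [Ideal.eq_top_iff_one]
    have h11 : (1 : A') ∈ Ideal.span (L : Set A') * Ideal.span (L' : Set A') := by
      have := Ideal.mul_mem_mul h1 h1'
      rwa [one_mul] at this
    rw [Ideal.span_mul_span'] at h11
    refine (Ideal.span_le.mpr ?_) h11
    rintro _ ⟨m, hm, n, hn, rfl⟩
    have hmn : (m * n) ⊗ₜ[A] (1 : A') = 1 ⊗ₜ (m * n) :=
      mul_mem_eqLocus u m n ((mem_ker_dTw _ _).1 hm) ((mem_ker_dTw _ _).1 hn)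
    obtain ⟨a, ha⟩ := mem_range_of_tmul_one_eq _ hmn
    show m * n ∈ (Ideal.span gen).map (algebraMap A A')
    rw [← ha]
    exact Ideal.mem_map_of_mem _ (Ideal.subset_span ⟨m, hm, n, hn, ha⟩)
  have htop : Ideal.span gen = ⊤ := by
    rw [← Ideal.comap_map_eq_self_of_faithfullyFlat (B := A') (Ideal.span gen), hmap,
      Ideal.comap_top]
  by_contra hcon
  push_neg at hcon
  have hle : Ideal.span gen ≤ p := by
    rw [Ideal.span_le]
    rintro a ⟨m, hm, n, hn, ha⟩
    by_contra hap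
    exact hcon a m n hap ha ((mem_ker_dTw _ _).1 hm) ((mem_ker_dTw _ _).1 hn)
  rw [htop] at hle
  exact hp.ne_top (top_le_iff.mp hle)

/-- descent modulo `l`: an element which is invariant modulo `l` comes from `A` modulo `l`. -/
lemma exists_sub_eq_smul (l : A) (x : A') (y : A' ⊗[A] A')
    (hx : (1 : A') ⊗ₜ[A] x - x ⊗ₜ[A] (1 : A') = l • y) :
    ∃ (a : A) (z : A'), x - algebraMap A A' a = l • z := by
  let I : Ideal A := Ideal.span {l}
  let B := A ⧸ I
  let B' := B ⊗[A] A'
  let ι : A' →ₗ[A] B' := TensorProduct.mk A B A' 1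
  let θ : A' ⊗[A] A' →ₗ[A] B' ⊗[B] B' :=
    (TensorProduct.mapOfCompatibleSMul B A A B' B') ∘ₗ (TensorProduct.map ι ι)
  have hθ : ∀ a b : A', θ (a ⊗ₜ b) = ι a ⊗ₜ[B] ι b := fun a b => by
    simp [θ]
  have hl0 : ∀ t : B' ⊗[B] B', l • t = 0 := by
    intro t
    rw [← algebraMap_smul B l t]
    have : algebraMap A B l = 0 := by
      show Ideal.Quotient.mk I l = 0
      exact Ideal.Quotient.eq_zero_iff_mem.mpr (Ideal.mem_span_singleton_self l)
    rw [this, zero_smul]
  have h1 : θ ((1 : A') ⊗ₜ[A] x - x ⊗ₜ[A] (1 : A')) = 0 := by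
    rw [hx, map_smul, hl0]
  rw [map_sub, hθ, hθ] at h1
  have hι1 : ι 1 = 1 := rfl
  rw [hι1] at h1
  have h2 : Algebra.TensorProduct.includeLeftSubRight B B' (ι x) = 0 := by
    rw [Algebra.TensorProduct.includeLeftSubRight_apply]
    rw [← neg_sub, h1, neg_zero]
  obtain ⟨b, hb⟩ := ((Algebra.IsEffective.of_faithfullyFlat B B') (ι x)).1 h2
  obtain ⟨a, rfl⟩ := Ideal.Quotient.mk_surjective b
  refine ⟨a, ?_⟩
  have h3 : ι (x - algebraMap A A' a) = 0 := by
    rw [map_sub]
    have : ι (algebraMap A A' a) = Algebra.linearMap B B' (Ideal.Quotient.mk I a) := by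
      show (1 : B) ⊗ₜ[A] (algebraMap A A' a) = algebraMap B B' (Ideal.Quotient.mk I a)
      rw [Algebra.TensorProduct.algebraMap_apply, Algebra.algebraMap_eq_smul_one,
        ← TensorProduct.smul_tmul]
      congr 1
      rw [Algebra.smul_def, mul_one]
      rfl
    rw [this, hb, sub_self]
  have h4 := congrArg (TensorProduct.quotTensorEquivQuotSMul A' I) h3
  rw [map_zero] at h4
  have h5 : (TensorProduct.quotTensorEquivQuotSMul A' I) (ι (x - algebraMap A A' a)) =
      Submodule.Quotient.mk (x - algebraMap A A' a) :=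
    TensorProduct.quotTensorEquivQuotSMul_mk_one_tmul I _
  rw [h5, Submodule.Quotient.mk_eq_zero, Submodule.ideal_span_singleton_smul] at h4
  obtain ⟨z, -, hz⟩ := h4
  exact ⟨z, hz.symm⟩

end Strong


section Main

open Groth.Agent.H40.H90

/-- the final step: from a unit `m` with `m ≡ a'` modulo `l` to a coboundary. -/
lemma exists_coboundary_of_congr {A'' : Type u} [CommRing A''] [Algebra A A''] [Module.Flat A A'']
    (ρ : A' →ₐ[A] A'') (l : A) (hl : IsSMulRegular A l) (c : A' ⊗[A] A') (m z₀ : A') (a' : A)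
    (hm : (1 : A') ⊗ₜ[A] m = (1 + l • c) * (m ⊗ₜ 1))
    (ha'z : m - algebraMap A A' a' = l • z₀)
    (ha'u : IsUnit (algebraMap A A'' a')) (hmu : IsUnit (ρ m)) :
    ∃ w : A'', IsUnit (1 + l • w) ∧
      i1 A A'' w + tm ρ c + l • (i1 A A'' w * tm ρ c) = i2 A A'' w := by
  obtain ⟨α, hα⟩ := ha'u
  have h1w : 1 + l • (((α⁻¹ : A''ˣ) : A'') * ρ z₀) = (α⁻¹ : A''ˣ) * ρ m := by
    have e : ρ m = (α : A'') + l • ρ z₀ := by
      have := congrArg ρ ha'z
      rw [map_sub, map_smul, AlgHom.commutes, ← hα] at this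
      rw [← this]
      ring
    rw [e, mul_add, Units.inv_mul, mul_smul_comm]
  refine ⟨((α⁻¹ : A''ˣ) : A'') * ρ z₀, ?_, ?_⟩
  · rw [h1w]
    exact (α⁻¹).isUnit.mul hmu
  · set w : A'' := ((α⁻¹ : A''ˣ) : A'') * ρ z₀ with hw
    have hi : i1 A A'' ((α⁻¹ : A''ˣ) : A'') = i2 A A'' ((α⁻¹ : A''ˣ) : A'') := by
      have e1 : i1 A A'' ((α⁻¹ : A''ˣ) : A'') * algebraMap A (A'' ⊗[A] A'') a' = 1 := by
        rw [← (i1 A A'').commutes a', ← hα, ← map_mul, Units.inv_mul, map_one]
      have e2 : i2 A A'' ((α⁻¹ : A''ˣ) : A'') * algebraMap A (A'' ⊗[A] A'') a' = 1 := by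
        rw [← (i2 A A'').commutes a', ← hα, ← map_mul, Units.inv_mul, map_one]
      calc i1 A A'' ((α⁻¹ : A''ˣ) : A'')
          = i1 A A'' ((α⁻¹ : A''ˣ) : A'') *
              (i2 A A'' ((α⁻¹ : A''ˣ) : A'') * algebraMap A (A'' ⊗[A] A'') a') := by
            rw [e2, mul_one]
        _ = (i1 A A'' ((α⁻¹ : A''ˣ) : A'') * algebraMap A (A'' ⊗[A] A'') a') *
              i2 A A'' ((α⁻¹ : A''ˣ) : A'') := by ring
        _ = i2 A A'' ((α⁻¹ : A''ˣ) : A'') := by rw [e1, one_mul]
    have hρm : i2 A A'' (ρ m) = (1 + l • tm ρ c) * i1 A A'' (ρ m) := by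
      have h2 : tm ρ ((1 : A') ⊗ₜ[A] m) = i2 A A'' (ρ m) := by
        have := DFunLike.congr_fun (tm_comp_i2 ρ) m
        simpa using this
      have h3 : tm ρ (m ⊗ₜ[A] (1 : A')) = i1 A A'' (ρ m) := by
        have := DFunLike.congr_fun (tm_comp_i1 ρ) m
        simpa using this
      rw [← h2, hm, map_mul, h3, map_add, map_one, map_smul]
    have key : (1 : A'' ⊗[A] A'') + l • i2 A A'' w =
        (1 + l • tm ρ c) * (1 + l • i1 A A'' w) := by
      have e2 : (1 : A'' ⊗[A] A'') + l • i2 A A'' w = i2 A A'' (1 + l • w) := by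
        rw [map_add, map_one, map_smul]
      have e1 : (1 : A'' ⊗[A] A'') + l • i1 A A'' w = i1 A A'' (1 + l • w) := by
        rw [map_add, map_one, map_smul]
      rw [e1, e2, h1w, map_mul, map_mul, hρm, hi]
      ring
    have hreg : IsSMulRegular (A'' ⊗[A] A'') (algebraMap A (A'' ⊗[A] A'') l) :=
      IsSMulRegular.of_flat (R := A) (S := A'' ⊗[A] A'') hl
    apply hreg
    show algebraMap A (A'' ⊗[A] A'') l • _ = algebraMap A (A'' ⊗[A] A'') l • _
    rw [algebraMap_smul, algebraMap_smul]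
    have h := key
    rw [add_mul, one_mul, mul_add, mul_one, smul_mul_smul_comm] at h
    have h' : l • i2 A A'' w = l • i1 A A'' w + l • tm ρ c +
        (l * l) • (tm ρ c * i1 A A'' w) := by
      have := congrArg (fun t => t - 1) h
      simp only [add_sub_cancel_left] at this
      rw [this]
      abel
    rw [h', smul_add, smul_add, smul_smul, mul_comm (tm ρ c)]

variable [Module.FaithfullyFlat A A']

/-- **Hilbert 90 for `x ⋆ y = x + y + l x y`**: a cocycle for this group law is, locally on the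
base, a coboundary (after the base change `A' → A_f ⊗ A'`). -/
theorem exists_local_coboundary_lam (l : A) (hl : IsSMulRegular A l) (c : A' ⊗[A] A')
    (hu : IsUnit (1 + l • c))
    (hc : j12 A A' c + j23 A A' c + l • (j12 A A' c * j23 A A' c) = j13 A A' c)
    (p : Ideal A) [hp : p.IsPrime] :
    ∃ (f : A), f ∉ p ∧ ∃ w : Localization.Away f ⊗[A] A', IsUnit (1 + l • w) ∧
      i1 A (Localization.Away f ⊗[A] A') w +
        tm (Algebra.TensorProduct.includeRight : A' →ₐ[A] Localization.Away f ⊗[A] A') c +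
        l • (i1 A (Localization.Away f ⊗[A] A') w *
          tm (Algebra.TensorProduct.includeRight : A' →ₐ[A] Localization.Away f ⊗[A] A') c) =
      i2 A (Localization.Away f ⊗[A] A') w := by
  obtain ⟨u, hu⟩ := hu
  have hcmul : j12 A A' (u : A' ⊗[A] A') * j23 A A' u = j13 A A' u := by
    rw [hu, map_add, map_add, map_add, map_one, map_one, map_one, map_smul, map_smul, map_smul,
      ← hc]
    simp only [smul_add, smul_smul, mul_add, add_mul, mul_one, one_mul, smul_mul_assoc,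
      mul_smul_comm]
    abel
  obtain ⟨f₁, m, n, hf₁, hmn, hm, hn⟩ := exists_local_coboundary' u hcmul p
  -- the invariance of `m`, `n` modulo `l`
  have hm' : (1 : A') ⊗ₜ[A] m - m ⊗ₜ[A] (1 : A') = l • (c * (m ⊗ₜ[A] (1 : A'))) := by
    rw [hm, hu, add_mul, one_mul, add_sub_cancel_left, smul_mul_assoc]
  have hn' : (1 : A') ⊗ₜ[A] n - n ⊗ₜ[A] (1 : A') = l • (-(c * ((1 : A') ⊗ₜ[A] n))) := by
    have h1 : n ⊗ₜ[A] (1 : A') = (u : A' ⊗[A] A') * ((1 : A') ⊗ₜ[A] n) := by
      rw [hn, ← mul_assoc, Units.mul_inv, one_mul]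
    rw [h1, hu, add_mul, one_mul, sub_add_cancel_left, smul_mul_assoc, smul_neg]
  obtain ⟨a, z, haz⟩ := exists_sub_eq_smul l m _ hm'
  obtain ⟨b, z', hbz⟩ := exists_sub_eq_smul l n _ hn'
  -- `a b ≡ f₁` modulo `l`
  have hab : a * b - f₁ ∈ Ideal.span {l} := by
    rw [← Ideal.comap_map_eq_self_of_faithfullyFlat (B := A') (Ideal.span {l}), Ideal.mem_comap,
      Ideal.map_span, Set.image_singleton, Ideal.mem_span_singleton']
    refine ⟨-(z * algebraMap A A' b) - algebraMap A A' a * z' - l • (z * z'), ?_⟩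
    have e1 : m = algebraMap A A' a + l • z := by rw [← haz]; ring
    have e2 : n = algebraMap A A' b + l • z' := by rw [← hbz]; ring
    rw [map_sub, map_mul, hmn, e1, e2]
    simp only [Algebra.smul_def]
    ring
  -- a good representative outside `p`
  obtain ⟨a', z₀, ha'p, ha'z⟩ : ∃ (a' : A) (z₀ : A'), a' ∉ p ∧ m - algebraMap A A' a' = l • z₀ := by
    by_cases hap : a ∈ p
    · have hlp : l ∉ p := by
        intro hlp
        obtain ⟨t, ht⟩ := Ideal.mem_span_singleton'.1 hab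
        apply hf₁
        have : f₁ = a * b - t * l := by rw [ht]; ring
        rw [this]
        exact p.sub_mem (p.mul_mem_right _ hap) (p.mul_mem_left _ hlp)
      refine ⟨a + l, z - 1, ?_, ?_⟩
      · intro h
        exact hlp (by simpa using p.sub_mem h hap)
      · rw [map_add, smul_sub, ← haz, Algebra.smul_def l (1 : A'), mul_one]
        ring
    · exact ⟨a, z, hap, haz⟩
  refine ⟨f₁ * a', fun h => (hp.mem_or_mem h).elim hf₁ ha'p, ?_⟩
  -- units
  have hfu : IsUnit (algebraMap A (Localization.Away (f₁ * a') ⊗[A] A') (f₁ * a')) := by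
    rw [IsScalarTower.algebraMap_apply A (Localization.Away (f₁ * a'))
      (Localization.Away (f₁ * a') ⊗[A] A')]
    exact (IsLocalization.Away.algebraMap_isUnit (f₁ * a')).map _
  rw [map_mul] at hfu
  have hf₁u : IsUnit (algebraMap A (Localization.Away (f₁ * a') ⊗[A] A') f₁) :=
    isUnit_of_mul_isUnit_left hfu
  have ha'u : IsUnit (algebraMap A (Localization.Away (f₁ * a') ⊗[A] A') a') :=
    isUnit_of_mul_isUnit_right hfu
  have hmu : IsUnit ((Algebra.TensorProduct.includeRight :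
      A' →ₐ[A] Localization.Away (f₁ * a') ⊗[A] A') m) := by
    have : (Algebra.TensorProduct.includeRight :
        A' →ₐ[A] Localization.Away (f₁ * a') ⊗[A] A') m *
        (Algebra.TensorProduct.includeRight :
          A' →ₐ[A] Localization.Away (f₁ * a') ⊗[A] A') n =
        algebraMap A (Localization.Away (f₁ * a') ⊗[A] A') f₁ := by
      rw [← map_mul, ← hmn, AlgHom.commutes]
    exact isUnit_of_mul_isUnit_left (this ▸ hf₁u)
  exact exists_coboundary_of_congr _ l hl c m z₀ a' (hu ▸ hm) ha'z ha'u hmu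

end Main

end Groth.Agent.H40.H90Ring
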