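import Groth.Agent.H40.H90Desc2
import Groth.Agent.H40.H90Lam
import Groth.Agent.H40.H90Gm
import Groth.Agent.H40.GLamPts

/-!
# Hilbert 90 for the Sekiguchi–Suwa group `G^(λ)`: ring-valued points
-/

set_option autoImplicit false
universe u
open CategoryTheory CategoryTheory.Limits MonoidalCategory CartesianMonoidalCategory MonObj
  AlgebraicGeometry TensorProduct

namespace Groth.Agent.H40.H90

open Groth.Agent.H40 Groth.Agent.H40.H90Ring Groth.Agent.H42

variable {R : Type u} [CommRing R] (lam : R) {X : Scheme.{u}} (f : X ⟶ Spec (CommRingCat.of R))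
variable {A : Type u} [CommRing A] (ch : Spec (CommRingCat.of A) ⟶ X)

/-- `λ` as an element of `A`. -/
noncomputable def lamA : A := (Scheme.ΓSpecIso (CommRingCat.of A)).hom (pb (ch ≫ f) lam)

section Fn

variable {B C : Type u} [CommRing B] [CommRing C] [Algebra A B] [Algebra A C]

lemma hom_appTop_sp (φ : B →+* C) (z : Γ(Spec (CommRingCat.of B), ⊤)) :
    (Scheme.ΓSpecIso (CommRingCat.of C)).hom ((sp φ).appTop z) =
      φ ((Scheme.ΓSpecIso (CommRingCat.of B)).hom z) := by
  have h := Scheme.ΓSpecIso_naturality (CommRingCat.ofHom φ)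
  exact congrArg (fun t => t.hom z) h

/-- `λ` as a function on `Spec B`. -/
noncomputable def lamG (B : Type u) [CommRing B] [Algebra A B] : Γ(Spec (CommRingCat.of B), ⊤) :=
  GLam.lamT lam f (oS ch B)

/-- the function on `Spec B` defined by a `Spec B`-point of `G^(λ)`. -/
noncomputable def glG (x : oS ch B ⟶ Red.bc f (SekSuwa.G R lam)) : Γ(Spec (CommRingCat.of B), ⊤) :=
  GLam.glFn lam f x

lemma glG_mul (x y : oS ch B ⟶ Red.bc f (SekSuwa.G R lam)) :
    glG lam f ch (x * y) = glG lam f ch x + glG lam f ch y +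
      lamG lam f ch B * (glG lam f ch x * glG lam f ch y) :=
  GLam.glFn_mul lam f x y

lemma glG_isUnit (x : oS ch B ⟶ Red.bc f (SekSuwa.G R lam)) :
    IsUnit (1 + lamG lam f ch B * glG lam f ch x) :=
  GLam.glFn_isUnit lam f x

lemma glG_injective :
    Function.Injective (glG lam f ch : (oS ch B ⟶ Red.bc f (SekSuwa.G R lam)) → _) :=
  GLam.glFn_injective lam f

lemma glG_surjective (b : Γ(Spec (CommRingCat.of B), ⊤)) (hb : IsUnit (1 + lamG lam f ch B * b)) :
    ∃ x : oS ch B ⟶ Red.bc f (SekSuwa.G R lam), glG lam f ch x = b :=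
  GLam.glFn_surjective lam f (T := oS ch B) b hb

lemma glG_oMap (ψ : B →ₐ[A] C) (x : oS ch B ⟶ Red.bc f (SekSuwa.G R lam)) :
    glG lam f ch (oMap ch ψ ≫ x) = (sp ψ.toRingHom).appTop (glG lam f ch x) :=
  GLam.glFn_comp lam f (oMap ch ψ) x

lemma lamG_eq : lamG lam f ch B = (sp (algebraMap A B)).appTop (pb (ch ≫ f) lam) := by
  unfold lamG GLam.lamT
  show pb ((sp (algebraMap A B) ≫ ch) ≫ f) lam = _
  rw [Category.assoc, pb_comp]

lemma lamT_oS : (Scheme.ΓSpecIso (CommRingCat.of B)).hom (lamG lam f ch B) =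
    algebraMap A B (lamA lam f ch) := by
  rw [lamG_eq, hom_appTop_sp]
  rfl

/-- the element of `B` defined by a `Spec B`-point of `G^(λ)`. -/
noncomputable def glB (x : oS ch B ⟶ Red.bc f (SekSuwa.G R lam)) : B :=
  (Scheme.ΓSpecIso (CommRingCat.of B)).hom (glG lam f ch x)

lemma glB_mul (x y : oS ch B ⟶ Red.bc f (SekSuwa.G R lam)) :
    glB lam f ch (x * y) = glB lam f ch x + glB lam f ch y +
      lamA lam f ch • (glB lam f ch x * glB lam f ch y) := by
  unfold glB
  rw [glG_mul, map_add, map_add, map_mul, map_mul, lamT_oS, Algebra.smul_def]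

lemma glB_isUnit (x : oS ch B ⟶ Red.bc f (SekSuwa.G R lam)) :
    IsUnit (1 + lamA lam f ch • glB lam f ch x) := by
  have h := (glG_isUnit lam f ch x).map (Scheme.ΓSpecIso (CommRingCat.of B)).hom.hom
  rw [map_add, map_one, map_mul] at h
  rw [Algebra.smul_def, ← lamT_oS lam f ch]
  exact h

lemma hom_injective : Function.Injective (Scheme.ΓSpecIso (CommRingCat.of B)).hom := by
  intro s t hst
  have := congrArg (Scheme.ΓSpecIso (CommRingCat.of B)).inv hst
  simpa using this

lemma glB_injective :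
    Function.Injective (glB lam f ch : (oS ch B ⟶ Red.bc f (SekSuwa.G R lam)) → B) := by
  intro x y h
  exact glG_injective lam f ch (hom_injective h)

lemma glB_surjective (b : B) (hb : IsUnit (1 + lamA lam f ch • b)) :
    ∃ x : oS ch B ⟶ Red.bc f (SekSuwa.G R lam), glB lam f ch x = b := by
  have h := hb.map (Scheme.ΓSpecIso (CommRingCat.of B)).inv.hom
  have hl : (Scheme.ΓSpecIso (CommRingCat.of B)).inv (algebraMap A B (lamA lam f ch)) =
      lamG lam f ch B := by
    rw [← lamT_oS lam f ch]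
    exact Iso.hom_inv_id_apply (C := CommRingCat) (Scheme.ΓSpecIso (CommRingCat.of B)) _
  rw [map_add, map_one, Algebra.smul_def, map_mul] at h
  obtain ⟨x, hx⟩ := glG_surjective lam f ch
    ((Scheme.ΓSpecIso (CommRingCat.of B)).inv b) (by rw [← hl]; exact h)
  refine ⟨x, ?_⟩
  unfold glB
  rw [hx]
  exact Iso.inv_hom_id_apply (C := CommRingCat) (Scheme.ΓSpecIso (CommRingCat.of B)) _

lemma glB_oMap (ψ : B →ₐ[A] C) (x : oS ch B ⟶ Red.bc f (SekSuwa.G R lam)) :
    glB lam f ch (oMap ch ψ ≫ x) = ψ (glB lam f ch x) := by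
  unfold glB
  rw [glG_oMap]
  exact hom_appTop_sp ψ.toRingHom _

end Fn

section Local

variable {P : Over X} (a : AlgGrp.Action (Red.bc f (SekSuwa.G R lam)) P)
  (hps : NonAbH1.IsPseudoTorsorSch a)
variable {A' : Type u} [CommRing A'] [Algebra A A'] [Module.FaithfullyFlat A A']

include hps in
/-- **Hilbert 90 for `G^(λ)`, local form**: if `λ` is a non-zero-divisor on `A`, a pseudo-torsor
under `G^(λ)` with a point over a faithfully flat `A`-algebra has a section over a basic open
neighbourhood of every point of `Spec A`. -/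
theorem exists_local_section_glam (hl : IsSMulRegular A (lamA lam f ch)) (x₀ : oS ch A' ⟶ P)
    (p : Ideal A) [p.IsPrime] :
    ∃ g : A, g ∉ p ∧ ∃ y : Spec (CommRingCat.of (Localization.Away g)) ⟶ P.left,
      y ≫ P.hom = sp (algebraMap A (Localization.Away g)) ≫ ch := by
  obtain ⟨gam, hgam⟩ := exists_cocycle ch a hps x₀
  have hcoc := cocycle_identity ch a hps x₀ gam hgam
  have hc : j12 A A' (glB lam f ch gam) + j23 A A' (glB lam f ch gam) +
      lamA lam f ch • (j12 A A' (glB lam f ch gam) * j23 A A' (glB lam f ch gam)) =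
      j13 A A' (glB lam f ch gam) := by
    rw [← glB_oMap, ← glB_oMap, ← glB_oMap, ← glB_mul, hcoc]
  obtain ⟨g, hgp, w, hwu, hw⟩ := exists_local_coboundary_lam (lamA lam f ch) hl
    (glB lam f ch gam) (glB_isUnit lam f ch gam) hc p
  refine ⟨g, hgp, ?_⟩
  haveI : Flat (sp (algebraMap (Localization.Away g) (Localization.Away g ⊗[A] A'))) :=
    (flat_surj_of_faithfullyFlat (A := Localization.Away g)
      (A' := Localization.Away g ⊗[A] A')).1
  haveI : Surjective (sp (algebraMap (Localization.Away g) (Localization.Away g ⊗[A] A'))) :=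
    (flat_surj_of_faithfullyFlat (A := Localization.Away g)
      (A' := Localization.Away g ⊗[A] A')).2
  obtain ⟨lamPt, hlamPt⟩ := glB_surjective lam f ch w hwu
  apply exists_section_of_invariant ch (A'' := Localization.Away g ⊗[A] A')
    (B := Localization.Away g)
    (psmul a lamPt (oMap ch (Algebra.TensorProduct.includeRight :
      A' →ₐ[A] Localization.Away g ⊗[A] A') ≫ x₀))
  apply twist_invariant ch a x₀ gam hgam
  apply glB_injective lam f ch
  rw [glB_mul, glB_oMap, glB_oMap, glB_oMap, hlamPt]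
  exact hw

end Local

end Groth.Agent.H40.H90
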