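import Groth.Agent.H40.GeomQuot

/-!
# Principal bundles (flat surjective qc, `G × X ≅ X ×_Y X`) are geometric quotients
-/

set_option autoImplicit false
set_option backward.isDefEq.respectTransparency.types false
universe u
open CategoryTheory CategoryTheory.Limits MonoidalCategory CartesianMonoidalCategory MonObj GrpObj
  AlgebraicGeometry

namespace Groth.Agent.H40

variable {S : Scheme.{u}} {G X Y : Over S} [GrpObj G]

/-- a flat, surjective, quasi-compact morphism is fpqc-locally trivial (has a section after base
change to itself). -/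
lemma isLocallyTrivialFor_of_fpqc {X Y : Scheme.{u}} (f : X ⟶ Y) [Flat f] [Surjective f]
    [QuasiCompact f] :
    NonAbH1.IsLocallyTrivialFor Scheme.fpqcPrecoverage (Over.mk f : Over Y) := by
  refine ⟨Presieve.singleton f, Scheme.Hom.singleton_mem_fpqcPrecoverage f, ?_⟩
  rintro Z g ⟨⟩
  exact ⟨𝟙 X, Category.id_comp _⟩

/-- principal bundle ⇒ geometric quotient. -/
theorem isGeomQuot_of_isIso_PsiY (a : AlgGrp.Action G X) (q : X ⟶ Y) (hinv : GIT.IsInvariant a q)
    [Flat q.left] [Surjective q.left] [QuasiCompact q.left] (hiso : IsIso (GIT.PsiY a q hinv)) :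
    GIT.IsGeomQuot a q := by
  refine isGeomQuot_of_local a q hinv (isLocallyTrivialFor_of_fpqc q.left) ?_
  refine locTrans_of_lift a q ?_
  intro Z z₁ z₂ h12
  refine ⟨pullback.lift z₁ z₂ h12 ≫ inv (GIT.PsiY a q hinv), ?_, ?_⟩
  · have : GIT.PsiY a q hinv ≫ pullback.fst q.left q.left = a.act.left := pullback.lift_fst _ _ _
    rw [← this, Category.assoc, IsIso.inv_hom_id_assoc, pullback.lift_fst]
  · have : GIT.PsiY a q hinv ≫ pullback.snd q.left q.left = (snd G X).left :=
      pullback.lift_snd _ _ _
    rw [← this, Category.assoc, IsIso.inv_hom_id_assoc, pullback.lift_snd]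

/-- the canonical map `X ×_Y X ⟶ X ×_S X` is a base change of the diagonal of `Y/S`. -/
lemma isClosedImmersion_pullback_to_pullback {X Y S : Scheme.{u}} (f : X ⟶ Y) (i : Y ⟶ S)
    (j : X ⟶ S) (h : f ≫ i = j) [IsSeparated i] :
    IsClosedImmersion (pullback.lift (pullback.fst f f) (pullback.snd f f)
      (by rw [← h, pullback.condition_assoc]) : pullback f f ⟶ pullback j j) := by
  subst h
  have hpb := pullback_map_diagonal_isPullback f f i
  have : pullback.lift (pullback.fst f f) (pullback.snd f f)
      (by rw [pullback.condition_assoc]) =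
      pullback.map f f (f ≫ i) (f ≫ i) (𝟙 _) (𝟙 _) i (Category.id_comp _).symm
        (Category.id_comp _).symm := by
    apply pullback.hom_ext
    · rw [pullback.lift_fst, pullback.lift_fst, Category.comp_id]
    · rw [pullback.lift_snd, pullback.lift_snd, Category.comp_id]
  rw [this]
  exact MorphismProperty.of_isPullback (P := @IsClosedImmersion) hpb inferInstance

/-- for a principal bundle over a separated base the action is free. -/
theorem isClosedImmersion_psi_of_isIso_PsiY (a : AlgGrp.Action G X) (q : X ⟶ Y)
    (hinv : GIT.IsInvariant a q) [IsSeparated Y.hom] (hiso : IsIso (GIT.PsiY a q hinv)) :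
    IsClosedImmersion (GIT.psi a (𝟙 X)).left := by
  have hc := isClosedImmersion_pullback_to_pullback q.left Y.hom X.hom (Over.w q)
  have heq : (GIT.psi a (𝟙 X)).left = GIT.PsiY a q hinv ≫
      (pullback.lift (pullback.fst q.left q.left) (pullback.snd q.left q.left)
        (by rw [← Over.w q, pullback.condition_assoc]) :
        pullback q.left q.left ⟶ pullback X.hom X.hom) := by
    apply pullback.hom_ext
    · rw [Category.assoc, pullback.lift_fst]
      have h1 : GIT.PsiY a q hinv ≫ pullback.fst q.left q.left = a.act.left :=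
        pullback.lift_fst _ _ _
      rw [h1]
      change (GIT.psi a (𝟙 X)).left ≫ (fst X X).left = _
      rw [← Over.comp_left, GIT.psi, lift_fst]
      simp
    · rw [Category.assoc, pullback.lift_snd]
      have h1 : GIT.PsiY a q hinv ≫ pullback.snd q.left q.left = (snd G X).left :=
        pullback.lift_snd _ _ _
      rw [h1]
      change (GIT.psi a (𝟙 X)).left ≫ (snd X X).left = _
      rw [← Over.comp_left, GIT.psi, lift_snd]
  rw [heq]
  infer_instance

end Groth.Agent.H40
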