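import Groth.Agent.H40.TorsComp
import Groth.Agent.H40.TorsDesc
import Groth.Agent.H40.LocTriv
import Groth.Agent.H40.BalProd

/-!
# Reduction of the structure group: sections of `F/G` versus `G`-torsors mapping to `F`
-/

set_option autoImplicit false
set_option backward.isDefEq.respectTransparency.types false
universe u
open CategoryTheory CategoryTheory.Limits MonoidalCategory CartesianMonoidalCategory MonObj GrpObj
  AlgebraicGeometry

namespace Groth.Agent.H40

variable {S : Scheme.{u}}

section Basic
variable {G H X Y : Over S} [GrpObj G] [GrpObj H]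

lemma psmul_comp_of_isEquivariant (a : AlgGrp.Action G X) (b : AlgGrp.Action G Y) (f : X ⟶ Y)
    (hf : AlgGrp.Action.IsEquivariant a b f) {T : Over S} (g : T ⟶ G) (x : T ⟶ X) :
    psmul a g x ≫ f = psmul b g (x ≫ f) := by
  rw [psmul_def, psmul_def, Category.assoc, hf, ← Category.assoc, lift_whiskerLeft]

lemma psmul_restrict (i : H ⟶ G) [IsMonHom i] (a : AlgGrp.Action G X) {T : Over S} (h : T ⟶ H)
    (x : T ⟶ X) : psmul (a.restrict i) h x = psmul a (h ≫ i) x :=
  AlgGrp.Action.lift_restrict_act i a h x

/-- a pseudo-torsor over `S` gives the cartesian square over the terminal object. -/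
lemma isPullback_toUnit_of_isPseudoTorsor (a : AlgGrp.Action G X)
    (h : NonAbH1.IsPseudoTorsorSch a) : IsPullback a.act (snd G X) (toUnit X) (toUnit X) := by
  have hiso : IsIso (lift a.act (snd G X)) := h
  have e1 : inv (lift a.act (snd G X)) ≫ a.act = fst X X := by rw [IsIso.inv_comp_eq, lift_fst]
  have e2 : inv (lift a.act (snd G X)) ≫ snd G X = snd X X := by rw [IsIso.inv_comp_eq, lift_snd]
  apply isPullback_of_points (toUnit_unique _ _)
  · intro T x y _
    refine ⟨lift x y ≫ inv (lift a.act (snd G X)), ?_, ?_⟩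
    · rw [Category.assoc, e1, lift_fst]
    · rw [Category.assoc, e2, lift_snd]
  · intro T p p' h1 h2
    rw [← cancel_mono (lift a.act (snd G X))]
    apply CartesianMonoidalCategory.hom_ext
    · rw [Category.assoc, Category.assoc, lift_fst, h1]
    · rw [Category.assoc, Category.assoc, lift_snd, h2]

/-- conversely. -/
lemma isPseudoTorsor_of_isPullback_toUnit (a : AlgGrp.Action G X)
    (h : IsPullback a.act (snd G X) (toUnit X) (toUnit X)) : NonAbH1.IsPseudoTorsorSch a := by
  change IsIso (lift a.act (snd G X))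
  refine ⟨h.lift (fst X X) (snd X X) (toUnit_unique _ _), ?_, ?_⟩
  · apply h.hom_ext
    · rw [Category.assoc, h.lift_fst, lift_fst, Category.id_comp]
    · rw [Category.assoc, h.lift_snd, lift_snd, Category.id_comp]
  · apply CartesianMonoidalCategory.hom_ext
    · rw [Category.assoc, lift_fst, h.lift_fst, Category.id_comp]
    · rw [Category.assoc, lift_snd, h.lift_snd, Category.id_comp]

lemma isLocallyTrivialFor_toUnit {K : Precoverage Scheme.{u}} {E : Over S}
    (h : NonAbH1.IsLocallyTrivialFor K E) :
    NonAbH1.IsLocallyTrivialFor K (Over.mk (toUnit E).left : Over (𝟙_ (Over S)).left) := h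

lemma isLocallyTrivialFor_of_toUnit {K : Precoverage Scheme.{u}} {E : Over S}
    (h : NonAbH1.IsLocallyTrivialFor K (Over.mk (toUnit E).left : Over (𝟙_ (Over S)).left)) :
    NonAbH1.IsLocallyTrivialFor K E := h

end Basic

section Reduction
variable {G H F Q E : Over S} [GrpObj G] [GrpObj H]

/-- an equivariant morphism from a `G`-pseudo-torsor to a scheme on which `G` acts freely relative
to `π` is a monomorphism. -/
lemma mono_of_isEquivariant_of_free (aG : AlgGrp.Action G F) (π : F ⟶ Q)
    (hsq : IsPullback aG.act (snd G F) π π)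
    (aE : AlgGrp.Action G E) (hE : NonAbH1.IsPseudoTorsorSch aE)
    (φ : E ⟶ F) (hφ : AlgGrp.Action.IsEquivariant aE aG φ) : Mono φ := by
  refine ⟨fun {T} e₁ e₂ h12 => ?_⟩
  obtain ⟨g, hg⟩ := exists_psmul_of_isPullback aE (toUnit E)
    (isPullback_toUnit_of_isPseudoTorsor aE hE) e₁ e₂ (toUnit_unique _ _)
  have h1 : psmul aG g (e₂ ≫ φ) = psmul aG 1 (e₂ ≫ φ) := by
    rw [← psmul_comp_of_isEquivariant aE aG φ hφ, hg, one_psmul, h12]
  have hg1 : g = 1 := eq_of_psmul_eq_of_isPullback aG π hsq g 1 _ h1
  rw [← hg, hg1, one_psmul]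

/-- a reduction of structure group determines a unique section of the quotient, and is recovered
as the pullback along this section. -/
theorem section_of_reduction (aG : AlgGrp.Action G F) (π : F ⟶ Q)
    (hsq : IsPullback aG.act (snd G F) π π)
    (aE : AlgGrp.Action G E) (hE : NonAbH1.IsTorsorFor Scheme.fpqcPrecoverage aE)
    (φ : E ⟶ F) (hφ : AlgGrp.Action.IsEquivariant aE aG φ) :
    (∃! σ : 𝟙_ (Over S) ⟶ Q, toUnit E ≫ σ = φ ≫ π) ∧
      ∀ σ : 𝟙_ (Over S) ⟶ Q, toUnit E ≫ σ = φ ≫ π → IsPullback φ (toUnit E) π σ := by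
  obtain ⟨hps, hloc⟩ := hE
  have hpbE := isPullback_toUnit_of_isPseudoTorsor aE hps
  have hmono : Mono φ := mono_of_isEquivariant_of_free aG π hsq aE hps φ hφ
  refine ⟨?_, ?_⟩
  · refine existsUnique_desc_over_of_locallyTrivial (toUnit E) (isLocallyTrivialFor_toUnit hloc)
      (φ ≫ π) ?_
    intro Z z₁ z₂ _
    obtain ⟨g, hg⟩ := exists_psmul_of_isPullback aE (toUnit E) hpbE z₁ z₂ (toUnit_unique _ _)
    rw [← hg, ← Category.assoc, psmul_comp_of_isEquivariant aE aG φ hφ,
      psmul_comp_of_isPullback aG π hsq, Category.assoc]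
  · intro σ hσ
    apply isPullback_of_points hσ.symm
    · intro T x y hxy
      -- the torsor `T ⊗ E ⟶ T`
      have hpbT : IsPullback (snd T E).left (fst T E).left (toUnit E).left (toUnit T).left := by
        have : IsPullback (snd T E) (fst T E) (toUnit E) (toUnit T) := by
          apply isPullback_of_points (toUnit_unique _ _)
          · intro T' a b _
            exact ⟨lift b a, lift_snd _ _, lift_fst _ _⟩
          · intro T' p p' h1 h2
            apply CartesianMonoidalCategory.hom_ext
            · exact h2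
            · exact h1
        exact this.map (Over.forget S)
      have hlocT : NonAbH1.IsLocallyTrivialFor Scheme.fpqcPrecoverage
          (Over.mk (fst T E).left : Over T.left) :=
        isLocallyTrivialFor_of_isPullback hpbT (isLocallyTrivialFor_toUnit hloc)
      -- the two points of `F` over `T ⊗ E`
      have hπ : (fst T E ≫ x) ≫ π = (snd T E ≫ φ) ≫ π := by
        rw [Category.assoc, Category.assoc, hxy, ← hσ, ← Category.assoc, ← Category.assoc]
        congr 1
        exact toUnit_unique _ _
      obtain ⟨g, hg⟩ := exists_psmul_of_isPullback aG π hsq _ _ hπ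
      have hm : psmul aE g (snd T E) ≫ φ = fst T E ≫ x := by
        rw [psmul_comp_of_isEquivariant aE aG φ hφ, hg]
      obtain ⟨w, hw, -⟩ := existsUnique_desc_over_of_locallyTrivial (fst T E) hlocT
        (psmul aE g (snd T E)) (by
          intro Z z₁ z₂ h12
          rw [← cancel_mono φ, Category.assoc, Category.assoc, hm, ← Category.assoc,
            ← Category.assoc, h12])
      have hepi : Epi (fst T E) := epi_of_locallyTrivial _ hlocT
      refine ⟨w, ?_, toUnit_unique _ _⟩
      rw [← cancel_epi (fst T E), ← Category.assoc, hw, hm]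
    · intro T p p' h1 _
      exact (cancel_mono φ).1 h1

/-- a section of the quotient `F/G` gives a reduction of the structure group. -/
theorem exists_reduction_of_section {K : Precoverage Scheme.{u}} [K.IsStableUnderBaseChange]
    (aG : AlgGrp.Action G F) (π : F ⟶ Q) (hsq : IsPullback aG.act (snd G F) π π)
    (hloc : NonAbH1.IsLocallyTrivialFor K (Over.mk π.left : Over Q.left))
    (σ : 𝟙_ (Over S) ⟶ Q) :
    ∃ (E : Over S) (aE : AlgGrp.Action G E) (φ : E ⟶ F),
      NonAbH1.IsTorsorFor K aE ∧ AlgGrp.Action.IsEquivariant aE aG φ ∧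
      IsPullback φ (toUnit E) π σ := by
  have hpb : IsPullback (pullback.fst π σ) (toUnit (pullback π σ)) π σ := by
    have := IsPullback.of_hasPullback π σ
    rwa [toUnit_unique (pullback.snd π σ) (toUnit (pullback π σ))] at this
  set E := pullback π σ with hE
  set φ : E ⟶ F := pullback.fst π σ with hφ
  have hmono : Mono φ := by
    refine ⟨fun {T} p p' h => ?_⟩
    exact hpb.hom_ext h (toUnit_unique _ _)
  have hw : ((G ◁ φ) ≫ aG.act) ≫ π = toUnit (G ⊗ E) ≫ σ := by
    rw [Category.assoc, hsq.w, ← Category.assoc, whiskerLeft_snd, Category.assoc, hpb.w,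
      ← Category.assoc]
    congr 1
    exact toUnit_unique _ _
  have hact : hpb.lift ((G ◁ φ) ≫ aG.act) (toUnit (G ⊗ E)) hw ≫ φ = (G ◁ φ) ≫ aG.act :=
    hpb.lift_fst _ _ _
  let aE : AlgGrp.Action G E := actionOfMono aG φ _ hact
  have hequiv : AlgGrp.Action.IsEquivariant aE aG φ := hact
  refine ⟨E, aE, φ, ⟨?_, ?_⟩, hequiv, hpb⟩
  · apply isPseudoTorsor_of_isPullback_toUnit
    apply isPullback_of_psmul aE (toUnit E) (toUnit_unique _ _)
    · intro T x x' _
      have hπ : (x ≫ φ) ≫ π = (x' ≫ φ) ≫ π := by
        rw [Category.assoc, Category.assoc, hpb.w, ← Category.assoc, ← Category.assoc,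
          toUnit_unique (x ≫ toUnit E) (x' ≫ toUnit E)]
      obtain ⟨g, hg⟩ := exists_psmul_of_isPullback aG π hsq _ _ hπ
      refine ⟨g, ?_⟩
      rw [← cancel_mono φ, psmul_comp_of_isEquivariant aE aG φ hequiv, hg]
    · intro T g g' x' hgg
      apply eq_of_psmul_eq_of_isPullback aG π hsq g g' (x' ≫ φ)
      rw [← psmul_comp_of_isEquivariant aE aG φ hequiv, ← psmul_comp_of_isEquivariant aE aG φ hequiv,
        hgg]
  · exact isLocallyTrivialFor_of_toUnit
      (isLocallyTrivialFor_of_isPullback (hpb.map (Over.forget S)) hloc)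

end Reduction

end Groth.Agent.H40
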