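import Groth.Agent.H40.Comod

set_option autoImplicit false
universe u v w

open TensorProduct HopfRep

namespace Groth.Agent.H40

section

variable (k : Type u) [CommRing k] (A : Type v) [Ring A] [Bialgebra k A]

theorem tail_natural {M N : Type v} [AddCommGroup M] [Module k M] [AddCommGroup N] [Module k N]
    (f : M →ₗ[k] N) :
    Hoch.tail k A N ∘ₗ f.rTensor A = (f.rTensor A).rTensor A ∘ₗ Hoch.tail k A M := by
  ext m a
  simp only [LinearMap.comp_apply, TensorProduct.AlgebraTensorModule.curry_apply,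
    TensorProduct.curry_apply, LinearMap.coe_restrictScalars, LinearMap.rTensor_tmul,
    Hoch.tail_tmul]
  generalize (Coalgebra.comul (R := k) a - a ⊗ₜ[k] 1 - 1 ⊗ₜ[k] a : A ⊗[k] A) = z
  induction z using TensorProduct.induction_on with
  | zero => simp
  | tmul b c => simp
  | add x y hx hy => simp only [TensorProduct.tmul_add, map_add, hx, hy]

variable (P : Type v) [AddCommGroup P] [Module k P]

/-- the contracting homotopy of the cochain complex of an induced comodule -/
noncomputable def indHomotopy : (n : ℕ) →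
    ((Hoch.cochain k A (Hoch.Ind k A P) (n + 1) : Type v) →ₗ[k]
      (Hoch.cochain k A (Hoch.Ind k A P) n : Type v))
  | 0 => (Hoch.Ind.equiv k A P).toLinearMap ∘ₗ (Hoch.Ind.counit k A P).rTensor A
  | n + 1 => (indHomotopy n).rTensor A

theorem indHomotopy_zero_tmul (p : P) (a₀ a : A) :
    indHomotopy k A P 0 ((Hoch.Ind.equiv k A P (p ⊗ₜ[k] a₀)) ⊗ₜ[k] a) =
      Hoch.Ind.equiv k A P ((Coalgebra.counit (R := k) a₀ • p) ⊗ₜ[k] a) := by
  simp [indHomotopy]

/-- plain version of the degree zero differential of the induced comodule -/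
noncomputable def d0 : P ⊗[k] A →ₗ[k] (P ⊗[k] A) ⊗[k] A :=
  Hoch.Ind.coactAux k A P - (TensorProduct.mk k (P ⊗[k] A) A).flip 1

/-- plain version of the degree zero homotopy -/
noncomputable def s0 : (P ⊗[k] A) ⊗[k] A →ₗ[k] P ⊗[k] A :=
  ((TensorProduct.rid k P).toLinearMap ∘ₗ (Coalgebra.counit (R := k) (A := A)).lTensor P).rTensor A

theorem s0_assoc_symm (p : P) (z : A ⊗[k] A) :
    s0 k A P ((TensorProduct.assoc k P A A).symm (p ⊗ₜ[k] z)) =
      p ⊗ₜ[k] (TensorProduct.lid k A ((Coalgebra.counit (R := k) (A := A)).rTensor A z)) := by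
  induction z using TensorProduct.induction_on with
  | zero => simp
  | tmul b c => simp [s0, TensorProduct.smul_tmul]
  | add x y hx hy => simp only [TensorProduct.tmul_add, map_add, hx, hy]

theorem s0_rTensor_assoc_symm (p : P) (a₀ : A) (z : A ⊗[k] A) :
    (s0 k A P).rTensor A ((TensorProduct.assoc k (P ⊗[k] A) A A).symm ((p ⊗ₜ[k] a₀) ⊗ₜ[k] z)) =
      (TensorProduct.assoc k P A A).symm ((Coalgebra.counit (R := k) a₀ • p) ⊗ₜ[k] z) := by
  induction z using TensorProduct.induction_on with
  | zero => simp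
  | tmul b c => simp [s0]
  | add x y hx hy => simp only [TensorProduct.tmul_add, map_add, hx, hy]

theorem base_identity (x : (P ⊗[k] A) ⊗[k] A) :
    (s0 k A P).rTensor A ((d0 k A P).rTensor A x - Hoch.tail k A (P ⊗[k] A) x) +
      d0 k A P (s0 k A P x) = x := by
  induction x using TensorProduct.induction_on with
  | zero => simp
  | tmul m a =>
    induction m using TensorProduct.induction_on with
    | zero => simp
    | tmul p a₀ =>
      simp only [LinearMap.rTensor_tmul, d0, LinearMap.sub_apply, Hoch.Ind.coactAux_tmul,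
        LinearMap.flip_apply, TensorProduct.mk_apply, Hoch.tail_tmul, TensorProduct.sub_tmul,
        map_sub, s0_assoc_symm, Coalgebra.rTensor_counit_comul]
      have h := s0_rTensor_assoc_symm k A P p a₀
      simp only [s0] at h
      simp [s0, TensorProduct.tmul_sub, h]
    | add x y hx hy =>
      simp only [TensorProduct.add_tmul, map_add, map_sub] at hx hy ⊢
      refine Eq.trans ?_ (congrArg₂ (· + ·) hx hy)
      abel
  | add x y hx hy =>
    simp only [map_add, map_sub] at hx hy ⊢
    refine Eq.trans ?_ (congrArg₂ (· + ·) hx hy)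
    abel

theorem base_identity' (x : (P ⊗[k] A) ⊗[k] A) :
    (s0 k A P).rTensor A (((d0 k A P).rTensor A +
      ((-1 : k) ^ (0 + 1)) • Hoch.tail k A (P ⊗[k] A)) x) + d0 k A P (s0 k A P x) = x := by
  have h := base_identity k A P x
  have e : ((d0 k A P).rTensor A + ((-1 : k) ^ (0 + 1)) • Hoch.tail k A (P ⊗[k] A)) x =
      (d0 k A P).rTensor A x - Hoch.tail k A (P ⊗[k] A) x := by
    simp only [LinearMap.add_apply, LinearMap.smul_apply, zero_add, pow_one]
    rw [sub_eq_add_neg, ← neg_one_smul k (Hoch.tail k A (P ⊗[k] A) x)]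
  rw [e]
  exact h

theorem indHomotopy_zero_eq :
    indHomotopy k A P 0 = s0 k A P := by
  ext x
  rfl

theorem d_zero_eq :
    Hoch.d k A (Hoch.Ind k A P) 0 = d0 k A P := rfl

theorem homotopy_identity : ∀ n : ℕ,
    indHomotopy k A P (n + 1) ∘ₗ Hoch.d k A (Hoch.Ind k A P) (n + 1) +
      Hoch.d k A (Hoch.Ind k A P) n ∘ₗ indHomotopy k A P n = LinearMap.id
  | 0 => by
    apply LinearMap.ext
    intro x
    exact base_identity' k A P x
  | n + 1 => by
    have ih := homotopy_identity n
    have hnat := tail_natural k A (indHomotopy k A P n)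
    rw [Hoch.d_succ k A (Hoch.Ind k A P) (n + 1), Hoch.d_succ k A (Hoch.Ind k A P) n]
    change (indHomotopy k A P (n + 1)).rTensor A ∘ₗ
        ((Hoch.d k A (Hoch.Ind k A P) (n + 1)).rTensor A +
          ((-1 : k) ^ (n + 1 + 1)) • Hoch.tail k A (Hoch.cochain k A (Hoch.Ind k A P) (n + 1))) +
      ((Hoch.d k A (Hoch.Ind k A P) n).rTensor A +
          ((-1 : k) ^ (n + 1)) • Hoch.tail k A (Hoch.cochain k A (Hoch.Ind k A P) n)) ∘ₗ
        (indHomotopy k A P n).rTensor A = LinearMap.id
    rw [LinearMap.comp_add, LinearMap.add_comp, LinearMap.comp_smul, LinearMap.smul_comp, hnat,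
      ← LinearMap.rTensor_comp, ← LinearMap.rTensor_comp]
    change (indHomotopy k A P (n + 1) ∘ₗ Hoch.d k A (Hoch.Ind k A P) (n + 1)).rTensor A +
        ((-1 : k) ^ (n + 1 + 1)) • ((indHomotopy k A P (n + 1)).rTensor A ∘ₗ
          Hoch.tail k A (Hoch.cochain k A (Hoch.Ind k A P) (n + 1))) +
      ((Hoch.d k A (Hoch.Ind k A P) n ∘ₗ indHomotopy k A P n).rTensor A +
        ((-1 : k) ^ (n + 1)) • ((indHomotopy k A P (n + 1)).rTensor A ∘ₗ
          Hoch.tail k A (Hoch.cochain k A (Hoch.Ind k A P) (n + 1)))) = LinearMap.id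
    have hsum : (indHomotopy k A P (n + 1) ∘ₗ Hoch.d k A (Hoch.Ind k A P) (n + 1)).rTensor A +
        (Hoch.d k A (Hoch.Ind k A P) n ∘ₗ indHomotopy k A P n).rTensor A = LinearMap.id := by
      rw [← LinearMap.rTensor_add, ih, LinearMap.rTensor_id]
    rw [pow_succ (-1 : k) (n + 1)]
    rw [← hsum]
    module

theorem cocycles_le_coboundaries (n : ℕ) (hn : 1 ≤ n) :
    Hoch.cocycles k A (Hoch.Ind k A P) n ≤ Hoch.coboundaries k A (Hoch.Ind k A P) n := by
  obtain ⟨m, rfl⟩ : ∃ m, n = m + 1 := ⟨n - 1, by omega⟩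
  intro x hx
  have hx' : Hoch.d k A (Hoch.Ind k A P) (m + 1) x = 0 := hx
  have h := LinearMap.congr_fun (homotopy_identity k A P m) x
  simp only [LinearMap.add_apply, LinearMap.comp_apply, LinearMap.id_apply] at h
  rw [hx', map_zero, zero_add] at h
  exact ⟨indHomotopy k A P m x, h⟩

end

end Groth.Agent.H40
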