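import Groth.Agent.H40.LinRed
import Groth.Agent.H40.HochInd

set_option autoImplicit false
universe u v w w'

open TensorProduct HopfRep

namespace Groth.Agent.H40

section Funct

variable (k : Type u) [CommRing k] (A : Type v) [Ring A] [Bialgebra k A]
variable {V : Type v} [AddCommGroup V] [Module k V] [Comod k A V]
variable {W : Type v} [AddCommGroup W] [Module k W] [Comod k A W]
variable {U : Type v} [AddCommGroup U] [Module k U] [Comod k A U]

/-- the map induced on cochains by a linear map -/
noncomputable def cochainMap (f : V →ₗ[k] W) : (n : ℕ) →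
    ((Hoch.cochain k A V n : Type v) →ₗ[k] (Hoch.cochain k A W n : Type v))
  | 0 => f
  | n + 1 => (cochainMap f n).rTensor A

theorem cochainMap_id : ∀ n : ℕ, cochainMap k A (LinearMap.id : V →ₗ[k] V) n = LinearMap.id
  | 0 => rfl
  | n + 1 => by
    change (cochainMap k A (LinearMap.id : V →ₗ[k] V) n).rTensor A = LinearMap.id
    rw [cochainMap_id n, LinearMap.rTensor_id]

theorem cochainMap_comp (f : V →ₗ[k] W) (g : W →ₗ[k] U) : ∀ n : ℕ,
    cochainMap k A (g ∘ₗ f) n = cochainMap k A g n ∘ₗ cochainMap k A f n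
  | 0 => rfl
  | n + 1 => by
    change (cochainMap k A (g ∘ₗ f) n).rTensor A =
      (cochainMap k A g n).rTensor A ∘ₗ (cochainMap k A f n).rTensor A
    rw [cochainMap_comp f g n, LinearMap.rTensor_comp]

theorem d_comp_cochainMap (f : V →ₗ[k] W) (hf : Hoch.IsComodHom A f) : ∀ n : ℕ,
    Hoch.d k A W n ∘ₗ cochainMap k A f n = cochainMap k A f (n + 1) ∘ₗ Hoch.d k A V n
  | 0 => by
    apply LinearMap.ext
    intro v
    change Hoch.d k A W 0 (f v) = f.rTensor A (Hoch.d k A V 0 v)
    rw [Hoch.d_zero_apply, Hoch.d_zero_apply, map_sub, LinearMap.rTensor_tmul]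
    congr 1
    exact isComodHom_apply hf v
  | n + 1 => by
    have ih := d_comp_cochainMap f hf n
    have hnat := tail_natural k A (cochainMap k A f n)
    rw [Hoch.d_succ, Hoch.d_succ]
    change ((Hoch.d k A W n).rTensor A + ((-1 : k) ^ (n + 1)) •
        Hoch.tail k A (Hoch.cochain k A W n)) ∘ₗ (cochainMap k A f n).rTensor A =
      ((cochainMap k A f n).rTensor A).rTensor A ∘ₗ ((Hoch.d k A V n).rTensor A +
        ((-1 : k) ^ (n + 1)) • Hoch.tail k A (Hoch.cochain k A V n))
    rw [LinearMap.add_comp, LinearMap.comp_add, LinearMap.smul_comp, LinearMap.comp_smul, hnat,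
      ← LinearMap.rTensor_comp, ← LinearMap.rTensor_comp, ih]
    rfl

/-- vanishing of cohomology passes to comodule retracts -/
theorem cocycles_le_coboundaries_of_retract (i : V →ₗ[k] W) (r : W →ₗ[k] V)
    (hi : Hoch.IsComodHom A i) (hr : Hoch.IsComodHom A r) (hri : r ∘ₗ i = LinearMap.id)
    (n : ℕ) (hW : Hoch.cocycles k A W (n + 1) ≤ Hoch.coboundaries k A W (n + 1)) :
    Hoch.cocycles k A V (n + 1) ≤ Hoch.coboundaries k A V (n + 1) := by
  intro x hx
  have hx' : Hoch.d k A V (n + 1) x = 0 := hx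
  have h1 : cochainMap k A i (n + 1) x ∈ Hoch.cocycles k A W (n + 1) := by
    change Hoch.d k A W (n + 1) (cochainMap k A i (n + 1) x) = 0
    have := LinearMap.congr_fun (d_comp_cochainMap k A i hi (n + 1)) x
    simp only [LinearMap.comp_apply] at this
    rw [this, hx', map_zero]
  obtain ⟨z, hz⟩ := hW h1
  refine ⟨cochainMap k A r n z, ?_⟩
  have h2 := LinearMap.congr_fun (d_comp_cochainMap k A r hr n) z
  simp only [LinearMap.comp_apply] at h2
  rw [h2, hz, ← LinearMap.comp_apply, ← cochainMap_comp, hri, cochainMap_id]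
  rfl

end Funct

end Groth.Agent.H40
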