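import Groth.Agent.H40.FinRedPts
import Groth.Agent.H42.CartierMain
import Groth.Agent.H42.GaGm
import Mathlib.AlgebraicGeometry.Morphisms.SchemeTheoreticallyDominant

/-!
# A finite flat group scheme over a domain of characteristic zero is killed by its order
-/

set_option autoImplicit false
set_option linter.style.haveILetI false
set_option linter.unusedSectionVars false
universe u

open CategoryTheory AlgebraicGeometry CategoryTheory.Limits MonoidalCategory
  CartesianMonoidalCategory MonObj
open Groth.Agent.H42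

namespace Groth.Agent.H40.KillOrder

open FinRedPts

section Field

variable {L : Type u} [Field L] [IsAlgClosed L] [CharZero L]
  (G : Over (Spec (CommRingCat.of L))) [GrpObj G] [IsFinite G.hom] [Flat G.hom]

theorem pow_finrank_eq_one_field (z : Spec (CommRingCat.of L)) {T : Over (Spec (CommRingCat.of L))}
    (g : T ⟶ G) : g ^ (G.hom.finrank z) = 1 := by
  haveI : IsReduced G.left := Groth.Agent.H42.Cartier.isReduced_of_charZero G
  have hpt : ∀ x : P0 L ⟶ G, x ^ (G.hom.finrank z) = 1 := by
    intro x
    rw [← card_pts G z]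
    exact pow_card_eq_one'
  have hid : (𝟙 G : G ⟶ G) ^ (G.hom.finrank z) = 1 := by
    apply Over.OverMorphism.ext
    apply ext_of_isAffine
    ext s
    apply eq_of_sub_eq_zero
    apply eq_zero_of_forall_pt G
    intro x
    have e1 : ∀ φ : G ⟶ G, x.left.appTop (φ.left.appTop s) = (x ≫ φ).left.appTop s := by
      intro φ
      rw [Over.comp_left, Scheme.Hom.comp_appTop, CommRingCat.comp_apply]
    rw [map_sub, e1, e1, MonObj.comp_pow, Category.comp_id, hpt x, MonObj.comp_one, sub_self]
  calc g ^ (G.hom.finrank z) = (g ≫ 𝟙 G) ^ (G.hom.finrank z) := by rw [Category.comp_id]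
    _ = g ≫ (𝟙 G : G ⟶ G) ^ (G.hom.finrank z) := (MonObj.comp_pow _ _ _).symm
    _ = 1 := by rw [hid, MonObj.comp_one]

end Field

section BcPt

variable {S' S : Scheme.{u}} (f : S' ⟶ S) (G : Over S) [GrpObj G]

theorem bcPt_one {X : Over S'} : bcPt f G (1 : X ⟶ Red.bc f G) = 1 := by
  have h := bcPt_mul f G (1 : X ⟶ Red.bc f G) 1
  rw [_root_.mul_one] at h
  exact (mul_eq_left (a := bcPt f G (1 : X ⟶ Red.bc f G))).mp h.symm

theorem bcPt_pow {X : Over S'} (x : X ⟶ Red.bc f G) (n : ℕ) :
    bcPt f G (x ^ n) = bcPt f G x ^ n := by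
  induction n with
  | zero => rw [pow_zero, pow_zero, bcPt_one]
  | succ n ih => rw [pow_succ, pow_succ, bcPt_mul, ih]

end BcPt

section Dom

variable {R : Type u} [CommRing R] {L : Type u} [CommRing L] (φ : R →+* L)

theorem isSchemeTheoreticallyDominant_specMap (hφ : Function.Injective φ) :
    IsSchemeTheoreticallyDominant (Spec.map (CommRingCat.ofHom φ)) := by
  rw [isSchemeTheoreticallyDominant_iff]
  apply Scheme.IdealSheafData.ext_of_isAffine
  rw [Scheme.Hom.ker_apply, Scheme.IdealSheafData.ideal_bot]
  show RingHom.ker _ = ⊥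
  rw [← RingHom.injective_iff_ker_eq_bot]
  show Function.Injective (Spec.map (CommRingCat.ofHom φ)).appTop.hom
  have hnat := Scheme.ΓSpecIso_naturality (CommRingCat.ofHom φ)
  intro a b hab
  have h1 : ∀ c, (Scheme.ΓSpecIso (CommRingCat.of L)).hom
      ((Spec.map (CommRingCat.ofHom φ)).appTop c) =
      φ ((Scheme.ΓSpecIso (CommRingCat.of R)).hom c) := fun c =>
    congrArg (fun k => k.hom c) hnat
  have h2 := congrArg (Scheme.ΓSpecIso (CommRingCat.of L)).hom hab
  rw [h1, h1] at h2
  exact (ConcreteCategory.bijective_of_isIso (Scheme.ΓSpecIso (CommRingCat.of R)).hom).1 (hφ h2)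

end Dom

section Main

variable {R : Type u} [CommRing R] [IsDomain R] [CharZero R]
  (G : Over (Spec (CommRingCat.of R))) [GrpObj G] [IsFinite G.hom] [Flat G.hom]

/-- A finite flat group scheme of constant degree `m` over a domain of characteristic zero is killed
by `m`. -/
theorem pow_eq_one_of_finrank (m : ℕ) (hm : ∀ y : Spec (CommRingCat.of R), G.hom.finrank y = m)
    {T : Over (Spec (CommRingCat.of R))} (g : T ⟶ G) : g ^ m = 1 := by
  let K := FractionRing R
  let L := AlgebraicClosure K
  have hinjL : Function.Injective (algebraMap R L) := by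
    rw [IsScalarTower.algebraMap_eq R K L]
    exact (algebraMap K L).injective.comp (IsFractionRing.injective R K)
  haveI : CharZero L := charZero_of_injective_algebraMap hinjL
  let yL : Spec (CommRingCat.of L) ⟶ Spec (CommRingCat.of R) :=
    Spec.map (CommRingCat.ofHom (algebraMap R L))
  let G' : Over (Spec (CommRingCat.of L)) := Red.bc yL G
  haveI : IsFinite G'.hom := inferInstanceAs (IsFinite (pullback.snd G.hom yL))
  haveI : Flat G'.hom := inferInstanceAs (Flat (pullback.snd G.hom yL))
  let z : Spec (CommRingCat.of L) := (⟨⊥, Ideal.isPrime_bot⟩ : PrimeSpectrum L)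
  have hrank : G'.hom.finrank z = m := by
    have h1 : G'.hom.finrank z = (pullback.snd G.hom yL).finrank z := rfl
    rw [h1, Scheme.Hom.finrank_pullback_snd, hm]
  have hid' : (𝟙 G' : G' ⟶ G') ^ m = 1 := by
    rw [← hrank]
    exact pow_finrank_eq_one_field G' z (𝟙 G')
  let pr : (Over.map yL).obj G' ⟶ G := bcPt yL G (𝟙 G')
  have hpr : pr ^ m = 1 := by
    rw [← bcPt_pow, hid', bcPt_one]
  haveI : IsSchemeTheoreticallyDominant yL := isSchemeTheoreticallyDominant_specMap _ hinjL
  have hprleft : pr.left = pullback.fst G.hom yL := by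
    rw [bcPt_left]
    exact Category.id_comp _
  haveI : IsSchemeTheoreticallyDominant pr.left := by
    rw [hprleft]
    infer_instance
  haveI : QuasiCompact pr.left := by
    rw [hprleft]
    infer_instance
  have hinj : Function.Injective pr.left.appTop := Scheme.Hom.app_injective pr.left ⊤
  haveI : IsAffine G.left := isAffine_of_isAffineHom G.hom
  have hid : (𝟙 G : G ⟶ G) ^ m = 1 := by
    apply Over.OverMorphism.ext
    apply ext_of_isAffine
    ext s
    apply hinj
    have e1 : ∀ φ : G ⟶ G, pr.left.appTop (φ.left.appTop s) = (pr ≫ φ).left.appTop s := by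
      intro φ
      rw [Over.comp_left, Scheme.Hom.comp_appTop, CommRingCat.comp_apply]
    rw [e1, e1, MonObj.comp_pow, Category.comp_id, hpr, MonObj.comp_one]
  calc g ^ m = (g ≫ 𝟙 G) ^ m := by rw [Category.comp_id]
    _ = g ≫ (𝟙 G : G ⟶ G) ^ m := (MonObj.comp_pow _ _ _).symm
    _ = 1 := by rw [hid, MonObj.comp_one]

end Main

end Groth.Agent.H40.KillOrder
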