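import Groth.Agent.H40.DiagMapPts
import Groth.Agent.H40.ExactOfKernel
import Groth.Agent.H40.RootCover
import Groth.Agent.H40.LocTriv

/-!
# The Kummer sequence is exact for the fppf topology
-/

set_option autoImplicit false
set_option backward.isDefEq.respectTransparency.types false
universe u

open CategoryTheory MonoidalCategory CartesianMonoidalCategory MonObj GrpObj AlgebraicGeometry
open CategoryTheory.Limits Polynomial
open Groth.Agent.H42

namespace Groth.Agent.H40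

variable {S : Scheme.{u}} (n : ℕ)

theorem kummer_comp :
    Red.DSmap S (Int.castAddHom (ZMod n)) ≫ Red.chi S (n : ℤ) = 1 := by
  apply gmFn_ext
  rw [gmFn_chi, gmFn_one, ← Category.id_comp (Red.DSmap S (Int.castAddHom (ZMod n))), dsFn_DSmap]
  have : (AddMonoidHom.toMultiplicative (Int.castAddHom (ZMod n))) (Multiplicative.ofAdd (n : ℤ)) =
      1 := by
    simp
  rw [this, map_one]

theorem kummer_mono (T : Over S) (a b : T ⟶ Red.DS S (ZMod n))
    (h : a ≫ Red.DSmap S (Int.castAddHom (ZMod n)) = b ≫ Red.DSmap S (Int.castAddHom (ZMod n))) :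
    a = b := by
  apply dsFn_ext
  intro m
  obtain ⟨k, hk⟩ := ZMod.intCast_surjective (Multiplicative.toAdd m)
  have e : m = AddMonoidHom.toMultiplicative (Int.castAddHom (ZMod n)) (Multiplicative.ofAdd k) := by
    simp [hk]
  rw [e, ← dsFn_DSmap, ← dsFn_DSmap, h]

theorem kummer_ker (T : Over S) (g : T ⟶ Red.Gm S) (hg : g ≫ Red.chi S (n : ℤ) = 1) :
    ∃ g' : T ⟶ Red.DS S (ZMod n), g' ≫ Red.DSmap S (Int.castAddHom (ZMod n)) = g := by
  have h1 : dsFn g (Multiplicative.ofAdd (n : ℤ)) = 1 := by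
    rw [← gmFn_chi, hg, gmFn_one]
  let f : ℤ →+ Additive (Γ(T.left, ⊤))ˣ := MonoidHom.toAdditiveRight (dsFn g).toHomUnits
  have hf : f n = 0 := by
    change Additive.ofMul ((dsFn g).toHomUnits (Multiplicative.ofAdd (n : ℤ))) = 0
    rw [← ofMul_one]
    congr 1
    apply Units.ext
    rw [MonoidHom.coe_toHomUnits, h1]
    rfl
  let χ : Multiplicative (ZMod n) →* Γ(T.left, ⊤) :=
    (Units.coeHom _).comp (AddMonoidHom.toMultiplicativeLeft (ZMod.lift n ⟨f, hf⟩))
  obtain ⟨g', hg'⟩ := dsFn_surjective (S := S) (X := T) χ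
  refine ⟨g', ?_⟩
  apply dsFn_ext
  intro m
  rw [dsFn_DSmap, hg']
  change (((ZMod.lift n ⟨f, hf⟩) ((Multiplicative.toAdd m : ℤ) : ZMod n)).toMul : Γ(T.left, ⊤)) = _
  rw [ZMod.lift_coe]
  rfl

theorem gmFn_homMk {Y : Scheme.{u}} (c : Y ⟶ (Red.Gm S).left) :
    Red.gmFn (Over.homMk c rfl : Over.mk (c ≫ (Red.Gm S).hom) ⟶ Red.Gm S) =
      pb (c ≫ pullback.fst _ _) gmX := rfl

theorem kummer_locTriv (hn : 0 < n) :
    NonAbH1.IsLocallyTrivialFor Scheme.fppfPrecoverage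
      (Over.mk (Red.chi S (n : ℤ)).left : Over (Red.Gm S).left) := by
  have hmonic : (X ^ n - C gmX.{u} : AGm.{u}[X]).Monic := monic_X_pow_sub_C _ hn.ne'
  have hdeg : (X ^ n - C gmX.{u} : AGm.{u}[X]).natDegree ≠ 0 := by
    rw [natDegree_X_pow_sub_C]; exact hn.ne'
  obtain ⟨U, c, r, hc, hr⟩ := exists_fppf_cover_root hmonic hdeg
    (pullback.fst _ _ : (Red.Gm S).left ⟶ Spec (CommRingCat.of AGm.{u}))
  rw [eval₂_sub, eval₂_X_pow, eval₂_C, sub_eq_zero] at hr
  let T : Over S := Over.mk (c ≫ (Red.Gm S).hom)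
  let τ : T ⟶ Red.Gm S := Over.homMk c rfl
  have hτ : Red.gmFn τ = r ^ n := by
    rw [hr]; rfl
  have hunit : IsUnit r := by
    have := gmFn_isUnit τ
    rw [hτ] at this
    exact (isUnit_pow_iff hn.ne').mp this
  obtain ⟨σ, hσ⟩ := gmFn_surjective (S := S) (X := T) r hunit
  have hστ : σ ≫ Red.chi S (n : ℤ) = τ := by
    apply gmFn_ext
    rw [gmFn_chi, hτ, ← hσ, gmFn_eq_dsFn, ← map_pow]
    congr 1
    rw [← ofAdd_nsmul, nsmul_eq_mul, _root_.mul_one]
  refine ⟨Presieve.singleton c, hc, ?_⟩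
  intro S' f hf
  cases hf
  exact ⟨σ.left, congrArg CommaMorphism.left hστ⟩

theorem kummer_exact_fppf (hn : 0 < n) :
    NonAbH1.IsExactSeq Scheme.fppfPrecoverage
      (Red.DSmap S (Int.castAddHom (ZMod n))) (Red.chi S (n : ℤ)) :=
  isExactSeq_of_kernel _ _ _ (kummer_comp n) (kummer_mono n) (kummer_ker n) (kummer_locTriv n hn)

theorem kummer_exact_fpqc (hn : 0 < n) :
    NonAbH1.IsExactSeq Scheme.fpqcPrecoverage
      (Red.DSmap S (Int.castAddHom (ZMod n))) (Red.chi S (n : ℤ)) :=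
  isExactSeq_of_kernel _ _ _ (kummer_comp n) (kummer_mono n) (kummer_ker n)
    (IsLocallyTrivialFor.mono Scheme.fppfPrecoverage_le_fpqcPrecoverage (kummer_locTriv n hn))

end Groth.Agent.H40
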