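import Mathlib
import Groth.Agent.H42.GaGm

/-!
# Künneth formula for global sections of qcqs schemes over a field

For quasi-compact quasi-separated schemes `X`, `Y` over a field `k`,
`Γ(X) ⊗[k] Γ(Y) ≃ Γ(X ×ₖ Y)`.
-/

set_option autoImplicit false
universe u
open CategoryTheory AlgebraicGeometry CategoryTheory.Limits MonoidalCategory
  CartesianMonoidalCategory
open Groth.Agent.H42
open scoped TensorProduct

namespace Groth.Agent.H40.Kunneth

section Sch

variable {k : Type u} [Field k] {X T P : Scheme.{u}}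
  {pX : X ⟶ Spec (CommRingCat.of k)} {pT : T ⟶ Spec (CommRingCat.of k)} {g : P ⟶ X} {h : P ⟶ T}

theorem ringHomFlat_of_field {B : Type u} [CommRing B] (R : CommRingCat.{u})
    (e : R ≅ CommRingCat.of k) (f : R ⟶ CommRingCat.of B) : f.hom.Flat := by
  have h1 : (e.inv ≫ f).hom.Flat := by
    letI := (e.inv ≫ f).hom.toAlgebra
    change Module.Flat k B
    infer_instance
  have h2 : e.hom.hom.Flat := RingHom.Flat.of_bijective (ConcreteCategory.bijective_of_isIso e.hom)
  have h3 := RingHom.Flat.comp h2 h1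
  have : (e.inv ≫ f).hom.comp e.hom.hom = f.hom := by
    rw [← CommRingCat.hom_comp, Iso.hom_inv_id_assoc]
  rw [this] at h3
  exact h3

theorem isPushout_appTop (H : IsPullback g h pX pT) [CompactSpace X] [QuasiSeparatedSpace X]
    [CompactSpace T] [QuasiSeparatedSpace T] :
    IsPushout ((Scheme.ΓSpecIso (CommRingCat.of k)).inv ≫ pX.appTop)
      ((Scheme.ΓSpecIso (CommRingCat.of k)).inv ≫ pT.appTop) g.appTop h.appTop := by
  have hUY : (⊤ : P.Opens) = g ⁻¹ᵁ ⊤ ⊓ h ⁻¹ᵁ ⊤ := by simp
  have : Flat pT := inferInstance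
  have hflat : (pX.appLE ⊤ ⊤ le_top).hom.Flat :=
    ringHomFlat_of_field (B := Γ(X, ⊤)) _ (Scheme.ΓSpecIso (CommRingCat.of k)) _
  have hiso := isIso_pushoutSection_of_isCompact_of_flat_right_of_ringHomFlat H
    (US := ⊤) (UT := ⊤) (UX := ⊤) le_top le_top hUY (isAffineOpen_top _)
    isCompact_univ isQuasiSeparated_univ isCompact_univ isQuasiSeparated_univ hflat
  have hpo := (isIso_pushoutSection_iff H (US := ⊤) (UT := ⊤) (UX := ⊤) le_top le_top hUY).mp hiso
  have e1 : pX.appLE ⊤ ⊤ le_top = pX.appTop := pX.appLE_eq_app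
  have e2 : pT.appLE ⊤ ⊤ le_top = pT.appTop := pT.appLE_eq_app
  have e3 : g.appLE ⊤ ⊤ (by simp) = g.appTop := g.appLE_eq_app
  have e4 : h.appLE ⊤ ⊤ (by simp) = h.appTop := h.appLE_eq_app
  rw [e1, e2, e3, e4] at hpo
  exact IsPushout.of_iso hpo (Scheme.ΓSpecIso (CommRingCat.of k)) (Iso.refl _) (Iso.refl _)
    (Iso.refl _) (by simp) (by simp) (by simp) (by simp)

end Sch

section Ov

variable {k : Type u} [Field k]

/-- the `k`-algebra structure on the global sections of a `k`-scheme. -/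
noncomputable scoped instance algΓ (X : Over (Spec (CommRingCat.of k))) : Algebra k Γ(X.left, ⊤) :=
  (pb X.hom).toAlgebra

theorem algebraMap_eq (X : Over (Spec (CommRingCat.of k))) (r : k) :
    algebraMap k Γ(X.left, ⊤) r = pb X.hom r := rfl

/-- pull-back of functions along a morphism of `k`-schemes, as an algebra homomorphism. -/
noncomputable def pbA {X Y : Over (Spec (CommRingCat.of k))} (f : X ⟶ Y) :
    Γ(Y.left, ⊤) →ₐ[k] Γ(X.left, ⊤) :=
  { toRingHom := f.left.appTop.hom
    commutes' := fun r => by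
      change f.left.appTop (pb Y.hom r) = pb X.hom r
      rw [← pb_comp, Over.w] }

theorem pbA_apply {X Y : Over (Spec (CommRingCat.of k))} (f : X ⟶ Y) (a : Γ(Y.left, ⊤)) :
    pbA f a = f.left.appTop a := rfl

theorem pbA_comp {X Y Z : Over (Spec (CommRingCat.of k))} (f : X ⟶ Y) (g : Y ⟶ Z)
    (a : Γ(Z.left, ⊤)) : pbA (f ≫ g) a = pbA f (pbA g a) := by
  simp only [pbA_apply, Over.comp_left, Scheme.Hom.comp_appTop, CommRingCat.comp_apply]

theorem pbA_id {X : Over (Spec (CommRingCat.of k))} (a : Γ(X.left, ⊤)) : pbA (𝟙 X) a = a := by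
  simp only [pbA_apply, Over.id_left, Scheme.Hom.id_appTop, CommRingCat.id_apply]

variable (X Y : Over (Spec (CommRingCat.of k)))

/-- the Künneth map `Γ(X) ⊗ Γ(Y) → Γ(X × Y)`. -/
noncomputable def kapHom : Γ(X.left, ⊤) ⊗[k] Γ(Y.left, ⊤) →ₐ[k] Γ((X ⊗ Y).left, ⊤) :=
  Algebra.TensorProduct.productMap (pbA (fst X Y)) (pbA (snd X Y))

theorem kapHom_tmul (a : Γ(X.left, ⊤)) (b : Γ(Y.left, ⊤)) :
    kapHom X Y (a ⊗ₜ b) = pbA (fst X Y) a * pbA (snd X Y) b := by
  simp [kapHom]

theorem kapHom_bijective [QuasiCompact X.hom] [QuasiSeparated X.hom] [QuasiCompact Y.hom]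
    [QuasiSeparated Y.hom] : Function.Bijective (kapHom X Y) := by
  haveI : CompactSpace X.left := QuasiCompact.compactSpace_of_compactSpace X.hom
  haveI : QuasiSeparatedSpace X.left := quasiSeparatedSpace_of_quasiSeparated X.hom
  haveI : CompactSpace Y.left := QuasiCompact.compactSpace_of_compactSpace Y.hom
  haveI : QuasiSeparatedSpace Y.left := quasiSeparatedSpace_of_quasiSeparated Y.hom
  have H : IsPullback (fst X Y).left (snd X Y).left X.hom Y.hom :=
    IsPullback.of_hasPullback X.hom Y.hom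
  have hpo := isPushout_appTop H
  have hpo' : IsPushout (CommRingCat.ofHom (algebraMap k Γ(X.left, ⊤)))
      (CommRingCat.ofHom (algebraMap k Γ(Y.left, ⊤))) (fst X Y).left.appTop
      (snd X Y).left.appTop := hpo
  have ht := CommRingCat.isPushout_tensorProduct k Γ(X.left, ⊤) Γ(Y.left, ⊤)
  let e := ht.isoIsPushout _ _ hpo'
  have he : CommRingCat.ofHom (kapHom X Y).toRingHom = e.hom := by
    apply ht.hom_ext
    · rw [IsPushout.inl_isoIsPushout_hom]
      ext a
      exact Algebra.TensorProduct.productMap_left_apply _ _ a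
    · rw [IsPushout.inr_isoIsPushout_hom]
      ext b
      exact Algebra.TensorProduct.productMap_right_apply _ _ b
  have hb : Function.Bijective e.hom := ConcreteCategory.bijective_of_isIso e.hom
  rw [← he] at hb
  exact hb

end Ov

end Groth.Agent.H40.Kunneth
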