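import Groth.Agent.H40.SubComod

set_option autoImplicit false
universe u v w w'

open TensorProduct HopfRep

namespace Groth.Agent.H40

section

variable {k : Type u} [Field k] {A : Type v} [CommRing A] [Bialgebra k A]
variable {W : Type v} [AddCommGroup W] [Module k W] [Comod k A W]

variable (k A W) in
/-- the set of simple subcomodules -/
def simpleSubs : Set (Submodule k W) :=
  {S | IsSubcomod (k := k) (A := A) S ∧ S ≠ ⊥ ∧
    ∀ S' : Submodule k W, IsSubcomod (k := k) (A := A) S' → S' ≤ S → S' = ⊥ ∨ S' = S}

theorem le_sSup_simpleSubs (hG : IsLinearlyReductive k A) :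
    ∀ (n : ℕ) (X : Submodule k W), IsSubcomod (k := k) (A := A) X → Module.Finite k X →
      Module.finrank k X = n → X ≤ sSup (simpleSubs k A W) := by
  intro n
  induction n using Nat.strong_induction_on with
  | _ n ih =>
    intro X hX hfin hn
    by_cases hbot : X = ⊥
    · rw [hbot]; exact bot_le
    by_cases hsimple : ∀ S' : Submodule k W, IsSubcomod (k := k) (A := A) S' → S' ≤ X →
        S' = ⊥ ∨ S' = X
    · exact le_sSup ⟨hX, hbot, hsimple⟩
    push Not at hsimple
    obtain ⟨S, hS, hSX, hS0, hSne⟩ := hsimple
    have hSlt : S < X := lt_of_le_of_ne hSX hSne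
    have hSfin : Module.Finite k S := Submodule.finiteDimensional_of_le hSX
    have hST : S ≤ sSup (simpleSubs k A W) :=
      ih _ (hn ▸ Submodule.finrank_lt_finrank_of_lt hSlt) S hS hSfin rfl
    letI : Comod k A X := subComod X hX
    have hι : Hoch.IsComodHom A X.subtype := isComodHom_subtype X hX
    have hss : IsSemisimpleComod k A X := hG X hfin
    obtain ⟨Y', hY', hcompl⟩ := hss (S.comap X.subtype) (isSubcomod_comap hι hS)
    have hY : IsSubcomod (k := k) (A := A) (Y'.map X.subtype) := isSubcomod_map hι hY'
    have hYX : Y'.map X.subtype ≤ X := by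
      rintro _ ⟨y, _, rfl⟩
      exact y.2
    have hSmap : (S.comap X.subtype).map X.subtype = S := by
      rw [Submodule.map_comap_subtype]
      exact inf_eq_right.2 hSX
    have hsup : S ⊔ Y'.map X.subtype = X := by
      rw [← hSmap, ← Submodule.map_sup, hcompl.sup_eq_top, Submodule.map_top,
        Submodule.range_subtype]
    have hYne : Y'.map X.subtype ≠ X := by
      intro hYeq
      have hY'top : Y' = ⊤ := by
        apply Submodule.map_injective_of_injective X.subtype_injective
        rw [hYeq, Submodule.map_top, Submodule.range_subtype]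
      have h1 : S.comap X.subtype = ⊥ := by
        have := hcompl.inf_eq_bot
        rwa [hY'top, inf_top_eq] at this
      rw [h1, Submodule.map_bot] at hSmap
      exact hS0 hSmap.symm
    have hYlt : Y'.map X.subtype < X := lt_of_le_of_ne hYX hYne
    have hYfin : Module.Finite k (Y'.map X.subtype) := Submodule.finiteDimensional_of_le hYX
    have hYT : Y'.map X.subtype ≤ sSup (simpleSubs k A W) :=
      ih _ (hn ▸ Submodule.finrank_lt_finrank_of_lt hYlt) _ hY hYfin rfl
    rw [← hsup]
    exact sup_le hST hYT

theorem sSup_simpleSubs_eq_top (hG : IsLinearlyReductive k A) :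
    sSup (simpleSubs k A W) = ⊤ := by
  rw [eq_top_iff]
  intro v _
  exact le_sSup_simpleSubs hG _ (cyc k A v) (isSubcomod_cyc v) (finite_cyc v) rfl (mem_cyc_self v)

/-- A linearly reductive group has all its comodules semisimple, of any dimension. -/
theorem isSemisimpleComod_of_isLinearlyReductive (hG : IsLinearlyReductive k A) :
    IsSemisimpleComod k A W := by
  intro U hU
  obtain ⟨J, -, hJ⟩ := Groth.Agent.S7972.result k A W
    (fun S : simpleSubs k A W => (S : Submodule k W)) (fun S => S.2.1)
    (fun S => ⟨S.2.2.1, S.2.2.2⟩)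
    (by rw [← sSup_eq_iSup']; exact sSup_simpleSubs_eq_top hG) U hU
  refine ⟨_, ?_, hJ⟩
  rw [← sSup_range]
  apply Groth.Agent.S7972.isSubcomod_sSup
  rintro _ ⟨j, rfl⟩
  exact j.1.2.1

end

end Groth.Agent.H40
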