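import Groth.Agent.H40.DiagEmb
import Groth.Agent.H40.DiagLin

/-!
# Finite diagonalisable subgroups of `GL_m` over a field are conjugate to diagonal ones
-/

set_option autoImplicit false
universe u

open CategoryTheory AlgebraicGeometry CategoryTheory.Limits MonoidalCategory
  CartesianMonoidalCategory MonObj
open Groth.Agent.H42 Groth.Agent.H40
open scoped TensorProduct

namespace Groth.Agent.H40.MuSubGL

open Groth.Agent.H82.TorusHom Groth.Agent.H40.DiagRep Groth.Agent.H40.GLnPts CoordGrp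
  Groth.Agent.H40.DiagEmb

section Mat

variable {K : Type*} [Field K] {R : Type*} [CommRing R] (φ : K →+* R) {G : Type*} [Fintype G]
  [DecidableEq G] {m : ℕ}

theorem conj_sum_eq_diagonal (P : G → Matrix (Fin m) (Fin m) K) (c : Fin m → G)
    (Q Q' : Matrix (Fin m) (Fin m) K) (hE : ∀ χ, Q * P χ * Q' = DiagLin.E K c χ) (s : G → R) :
    Q.map φ * (∑ χ, s χ • (P χ).map φ) * Q'.map φ = Matrix.diagonal fun j => s (c j) := by
  rw [Finset.mul_sum, Finset.sum_mul]
  have h1 : ∀ χ, Q.map φ * (s χ • (P χ).map φ) * Q'.map φ = s χ • (DiagLin.E K c χ).map φ := by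
    intro χ
    rw [Matrix.mul_smul, Matrix.smul_mul, ← hE χ, Matrix.map_mul, Matrix.map_mul]
  simp only [h1]
  ext i j
  rw [Matrix.sum_apply]
  simp only [Matrix.smul_apply, Matrix.map_apply, DiagLin.E, smul_eq_mul]
  by_cases hij : i = j
  · subst hij
    simp only [Matrix.diagonal_apply_eq]
    rw [Finset.sum_eq_single (c i)]
    · simp
    · intro b _ hb
      rw [if_neg (Ne.symm hb), map_zero, mul_zero]
    · intro h
      exact absurd (Finset.mem_univ _) h
  · simp only [Matrix.diagonal_apply_ne _ hij, map_zero, mul_zero, Finset.sum_const_zero]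

theorem eq_of_conj_eq {A B C : Matrix (Fin m) (Fin m) R} (Qm Qm' : Matrix (Fin m) (Fin m) R)
    (h1 : Qm * Qm' = 1) (h2 : Qm' * Qm = 1) (h : Qm * A * Qm' = B) : A = Qm' * B * Qm := by
  rw [← h]
  calc A = (Qm' * Qm) * A * (Qm' * Qm) := by rw [h2, Matrix.one_mul, Matrix.mul_one]
    _ = Qm' * (Qm * A * Qm') * Qm := by simp only [Matrix.mul_assoc]

theorem inv_unique {A B C : Matrix (Fin m) (Fin m) R} (h1 : A * B = 1) (h2 : C * A = 1) : B = C := by
  calc B = (C * A) * B := by rw [h2, Matrix.one_mul]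
    _ = C * (A * B) := Matrix.mul_assoc _ _ _
    _ = C := by rw [h1, Matrix.mul_one]

end Mat

section Main

variable (k : Type u) [CommRing k] (K : Type u) [Field K] [Algebra k K] (m : ℕ)
  (M : Type) [AddCommGroup M] [Finite M]

local notation "fK" => Spec.map (CommRingCat.ofHom (algebraMap k K))

/-- the matrix of a rational point of the base change of `GL_m` pulled back to `X`. -/
theorem glMatB_toUnit_comp {X : Over (Spec (CommRingCat.of K))}
    (g : 𝟙_ (Over (Spec (CommRingCat.of K))) ⟶ Red.bc fK (CoactBr.sp k (GLn m k)))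
    (Q : Matrix (Fin m) (Fin m) K)
    (hg : glMatB fK g = Q.map (pb (𝟙_ (Over (Spec (CommRingCat.of K)))).hom)) :
    glMatB fK (toUnit X ≫ g) = Q.map (pb X.hom) := by
  rw [glMatB_comp, hg]
  ext i j
  rw [Matrix.map_apply, Matrix.map_apply, Matrix.map_apply, ← pb_comp]
  have hw : (toUnit X).left ≫ (𝟙_ (Over (Spec (CommRingCat.of K)))).hom = X.hom :=
    Over.w (toUnit X)
  rw [hw]

theorem exists_point (Q Q' : Matrix (Fin m) (Fin m) K) (h : Q * Q' = 1) :
    ∃ g : 𝟙_ (Over (Spec (CommRingCat.of K))) ⟶ Red.bc fK (CoactBr.sp k (GLn m k)),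
      glMatB fK g = Q.map (pb (𝟙_ (Over (Spec (CommRingCat.of K)))).hom) := by
  apply glMatB_surjective
  apply Matrix.isUnit_det_of_right_inverse
    (B := Q'.map (pb (𝟙_ (Over (Spec (CommRingCat.of K)))).hom))
  rw [← Matrix.map_mul, h, Matrix.map_one _ (map_zero _) (map_one _)]

variable {k K m M}

/-- matrix of a conjugate -/
theorem glMatB_conj {X : Over (Spec (CommRingCat.of K))}
    (g : 𝟙_ (Over (Spec (CommRingCat.of K))) ⟶ Red.bc fK (CoactBr.sp k (GLn m k)))
    (Q Q' : Matrix (Fin m) (Fin m) K) (h1 : Q * Q' = 1) (h2 : Q' * Q = 1)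
    (hg : glMatB fK g = Q.map (pb (𝟙_ (Over (Spec (CommRingCat.of K)))).hom))
    (y : X ⟶ Red.bc fK (CoactBr.sp k (GLn m k))) :
    glMatB fK ((toUnit X ≫ g) * y * (toUnit X ≫ g)⁻¹) =
      Q.map (pb X.hom) * glMatB fK y * Q'.map (pb X.hom) := by
  rw [glMatB_mul, glMatB_mul, glMatB_toUnit_comp k K m g Q hg]
  congr 1
  apply inv_unique (A := Q.map (pb X.hom)) (R := Γ(X.left, ⊤))
  · rw [← glMatB_toUnit_comp k K m g Q hg]
    exact glMatB_mul_inv _ _
  · rw [← Matrix.map_mul, h2, Matrix.map_one _ (map_zero _) (map_one _)]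

end Main

end Groth.Agent.H40.MuSubGL
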