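import Groth.Agent.H40.MuSubGL

/-!
# A finite diagonalisable subgroup of `GL_m` over a field `K` is conjugate to a diagonal one
defined over any subring
-/

set_option autoImplicit false
universe u

open CategoryTheory AlgebraicGeometry CategoryTheory.Limits MonoidalCategory
  CartesianMonoidalCategory MonObj
open Groth.Agent.H42 Groth.Agent.H40
open scoped TensorProduct

namespace Groth.Agent.H40.MuSubGL

open Groth.Agent.H82.TorusHom Groth.Agent.H40.DiagRep Groth.Agent.H40.GLnPts CoordGrp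
  Groth.Agent.H40.DiagEmb

section Main

variable {k : Type u} [CommRing k] {K : Type u} [Field K] [Algebra k K] {m : ℕ}
  {M : Type} [AddCommGroup M] [Finite M]

local notation "fK" => Spec.map (CommRingCat.ofHom (algebraMap k K))

/-- the weight data of a representation `ρ : D_K(M) ⟶ GL_{m,K}`. -/
theorem exists_weights
    (ρ : Red.DS (Spec (CommRingCat.of K)) M ⟶ Red.bc fK (CoactBr.sp k (GLn m k))) [IsMonHom ρ] :
    ∃ (_ : Fintype M) (_ : DecidableEq M) (c : Fin m → Multiplicative M)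
      (Q Q' : Matrix (Fin m) (Fin m) K), Q * Q' = 1 ∧ Q' * Q = 1 ∧
      ∀ {X : Over (Spec (CommRingCat.of K))} (x : X ⟶ Red.DS (Spec (CommRingCat.of K)) M),
        Q.map (pb X.hom) * glMatB fK (x ≫ ρ) * Q'.map (pb X.hom) =
          Matrix.diagonal fun j => dsFn x (c j) := by
  classical
  haveI : Fintype M := Fintype.ofFinite M
  let F : ∀ X : Over (Spec (CommRingCat.of K)),
      (X ⟶ Red.DS (Spec (CommRingCat.of K)) M) → Matrix (Fin m) (Fin m) Γ(X.left, ⊤) :=
    fun X x => glMatB fK (x ≫ ρ)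
  obtain ⟨P, hP, hsum, hform⟩ := exists_proj F
    (fun h x => by
      change glMatB fK ((h ≫ x) ≫ ρ) = (glMatB fK (x ≫ ρ)).map _
      rw [Category.assoc, glMatB_comp])
    (fun x y => by
      change glMatB fK ((x * y) ≫ ρ) = glMatB fK (x ≫ ρ) * glMatB fK (y ≫ ρ)
      rw [MonObj.mul_comp, glMatB_mul])
    (by
      intro X
      change glMatB fK ((1 : X ⟶ _) ≫ ρ) = 1
      rw [MonObj.one_comp, glMatB_one])
  obtain ⟨c, Q, Q', hQQ', hQ'Q, hE⟩ := DiagLin.exists_diag P hP hsum
  refine ⟨inferInstance, inferInstance, c, Q, Q', hQQ', hQ'Q, ?_⟩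
  intro X x
  have h1 : glMatB fK (x ≫ ρ) = ∑ χ, dsFn x χ • (P χ).map (pb X.hom) := hform x
  rw [h1]
  exact conj_sum_eq_diagonal (pb X.hom) P c Q Q' hE (fun χ => dsFn x χ)

/-- a faithful representation has generating weights -/
theorem closure_eq_top_of_mono
    (ρ : Red.DS (Spec (CommRingCat.of K)) M ⟶ Red.bc fK (CoactBr.sp k (GLn m k))) [IsMonHom ρ]
    [Mono ρ] (c : Fin m → Multiplicative M) (Q Q' : Matrix (Fin m) (Fin m) K)
    (hQQ' : Q * Q' = 1) (hQ'Q : Q' * Q = 1)
    (hconj : ∀ {X : Over (Spec (CommRingCat.of K))} (x : X ⟶ Red.DS (Spec (CommRingCat.of K)) M),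
        Q.map (pb X.hom) * glMatB fK (x ≫ ρ) * Q'.map (pb X.hom) =
          Matrix.diagonal fun j => dsFn x (c j)) :
    Subgroup.closure (Set.range c) = ⊤ := by
  let Na : AddSubgroup M := Subgroup.toAddSubgroup' (Subgroup.closure (Set.range c))
  have hNa : ∀ j, Multiplicative.toAdd (c j) ∈ Na := fun j =>
    show Multiplicative.ofAdd (Multiplicative.toAdd (c j)) ∈ Subgroup.closure (Set.range c) from
      Subgroup.subset_closure ⟨j, rfl⟩
  let q : M →+ M ⧸ Na := QuotientAddGroup.mk' Na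
  let x : Red.DS (Spec (CommRingCat.of K)) (M ⧸ Na) ⟶ Red.DS (Spec (CommRingCat.of K)) M :=
    Red.DSmap (Spec (CommRingCat.of K)) q
  have hx : ∀ j, dsFn x (c j) = 1 := by
    intro j
    have h1 := dsFn_DSmap q (𝟙 (Red.DS (Spec (CommRingCat.of K)) (M ⧸ Na))) (c j)
    rw [Category.id_comp] at h1
    rw [h1]
    have h2 : AddMonoidHom.toMultiplicative q (c j) = 1 := by
      change Multiplicative.ofAdd (q (Multiplicative.toAdd (c j))) = 1
      rw [show q (Multiplicative.toAdd (c j)) = 0 from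
        (QuotientAddGroup.eq_zero_iff _).mpr (hNa j)]
      rfl
    rw [h2, map_one]
  have h3 := hconj x
  simp only [hx] at h3
  have h4 : glMatB fK (x ≫ ρ) = 1 := by
    have := eq_of_conj_eq (A := glMatB fK (x ≫ ρ)) (B := Matrix.diagonal fun _ => 1)
      (C := 1) _ _ (by rw [← Matrix.map_mul, hQQ', Matrix.map_one _ (map_zero _) (map_one _)])
      (by rw [← Matrix.map_mul, hQ'Q, Matrix.map_one _ (map_zero _) (map_one _)]) h3
    rw [this, Matrix.diagonal_one, Matrix.mul_one, ← Matrix.map_mul, hQ'Q,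
      Matrix.map_one _ (map_zero _) (map_one _)]
  have h5 : x ≫ ρ = (1 : _ ⟶ Red.DS (Spec (CommRingCat.of K)) M) ≫ ρ := by
    apply glMatB_injective fK
    rw [h4, MonObj.one_comp, glMatB_one]
  have h6 : x = 1 := (cancel_mono ρ).mp h5
  have h7 : q = 0 := DSmap_injective K q 0 (h6.trans (DSmap_zero).symm)
  rw [eq_top_iff]
  intro χ _
  have h8 : q (Multiplicative.toAdd χ) = 0 := by rw [h7]; rfl
  exact (QuotientAddGroup.eq_zero_iff _).mp h8

end Main

end Groth.Agent.H40.MuSubGL
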