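import Groth.Agent.H40.MuSubGL2

/-!
# Rational weight data, base change of weights, and intertwiners of diagonal representations
-/

set_option autoImplicit false
universe u

open CategoryTheory AlgebraicGeometry CategoryTheory.Limits MonoidalCategory
  CartesianMonoidalCategory MonObj
open Groth.Agent.H42 Groth.Agent.H40
open scoped TensorProduct

namespace Groth.Agent.H40.MuSubGL

open Groth.Agent.H82.TorusHom Groth.Agent.H40.DiagRep Groth.Agent.H40.GLnPts CoordGrp
  Groth.Agent.H40.DiagEmb

section Rational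

variable {k : Type u} [Field k] {m : ℕ} {M : Type} [AddCommGroup M] [Finite M]

/-- the weight data of a representation `ρ : D_k(M) ⟶ GL_{m,k}`. -/
theorem exists_weights₀
    (ρ : Red.DS (Spec (CommRingCat.of k)) M ⟶ CoactBr.sp k (GLn m k)) [IsMonHom ρ] :
    ∃ (c : Fin m → Multiplicative M)
      (Q Q' : Matrix (Fin m) (Fin m) k), Q * Q' = 1 ∧ Q' * Q = 1 ∧
      ∀ {X : Over (Spec (CommRingCat.of k))} (x : X ⟶ Red.DS (Spec (CommRingCat.of k)) M),
        Q.map (pb X.hom) * glMat (x ≫ ρ) * Q'.map (pb X.hom) =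
          Matrix.diagonal fun j => dsFn x (c j) := by
  classical
  haveI : Fintype M := Fintype.ofFinite M
  let F : ∀ X : Over (Spec (CommRingCat.of k)),
      (X ⟶ Red.DS (Spec (CommRingCat.of k)) M) → Matrix (Fin m) (Fin m) Γ(X.left, ⊤) :=
    fun X x => glMat (x ≫ ρ)
  obtain ⟨P, hP, hsum, hform⟩ := exists_proj F
    (fun h x => by
      change glMat ((h ≫ x) ≫ ρ) = (glMat (x ≫ ρ)).map _
      rw [Category.assoc, glMat_comp])
    (fun x y => by
      change glMat ((x * y) ≫ ρ) = glMat (x ≫ ρ) * glMat (y ≫ ρ)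
      rw [MonObj.mul_comp, glMat_mul])
    (by
      intro X
      change glMat ((1 : X ⟶ _) ≫ ρ) = 1
      rw [MonObj.one_comp, glMat_one])
  obtain ⟨c, Q, Q', hQQ', hQ'Q, hE⟩ := DiagLin.exists_diag P hP hsum
  refine ⟨c, Q, Q', hQQ', hQ'Q, ?_⟩
  intro X x
  have h1 : glMat (x ≫ ρ) = ∑ χ, dsFn x χ • (P χ).map (pb X.hom) := hform x
  rw [h1]
  exact conj_sum_eq_diagonal (pb X.hom) P c Q Q' hE (fun χ => dsFn x χ)

theorem glMat_toUnit_comp {X : Over (Spec (CommRingCat.of k))}
    (g : 𝟙_ (Over (Spec (CommRingCat.of k))) ⟶ CoactBr.sp k (GLn m k))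
    (Q : Matrix (Fin m) (Fin m) k)
    (hg : glMat g = Q.map (pb (𝟙_ (Over (Spec (CommRingCat.of k)))).hom)) :
    glMat (toUnit X ≫ g) = Q.map (pb X.hom) := by
  rw [glMat_comp, hg]
  ext i j
  rw [Matrix.map_apply, Matrix.map_apply, Matrix.map_apply, ← pb_comp]
  have hw : (toUnit X).left ≫ (𝟙_ (Over (Spec (CommRingCat.of k)))).hom = X.hom :=
    Over.w (toUnit X)
  rw [hw]

theorem exists_point₀ (Q Q' : Matrix (Fin m) (Fin m) k) (h : Q * Q' = 1) :
    ∃ g : 𝟙_ (Over (Spec (CommRingCat.of k))) ⟶ CoactBr.sp k (GLn m k),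
      glMat g = Q.map (pb (𝟙_ (Over (Spec (CommRingCat.of k)))).hom) := by
  apply glMat_surjective
  apply Matrix.isUnit_det_of_right_inverse
    (B := Q'.map (pb (𝟙_ (Over (Spec (CommRingCat.of k)))).hom))
  rw [← Matrix.map_mul, h, Matrix.map_one _ (map_zero _) (map_one _)]

theorem glMat_conj {X : Over (Spec (CommRingCat.of k))}
    (g : 𝟙_ (Over (Spec (CommRingCat.of k))) ⟶ CoactBr.sp k (GLn m k))
    (Q Q' : Matrix (Fin m) (Fin m) k) (h2 : Q' * Q = 1)
    (hg : glMat g = Q.map (pb (𝟙_ (Over (Spec (CommRingCat.of k)))).hom))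
    (y : X ⟶ CoactBr.sp k (GLn m k)) :
    glMat ((toUnit X ≫ g) * y * (toUnit X ≫ g)⁻¹) =
      Q.map (pb X.hom) * glMat y * Q'.map (pb X.hom) := by
  rw [glMat_mul, glMat_mul, glMat_toUnit_comp g Q hg]
  congr 1
  apply inv_unique (A := Q.map (pb X.hom)) (R := Γ(X.left, ⊤))
  · rw [← glMat_toUnit_comp g Q hg]
    exact glMat_mul_inv _
  · rw [← Matrix.map_mul, h2, Matrix.map_one _ (map_zero _) (map_one _)]

end Rational

section KPoint

variable {k : Type u} [CommRing k] {K : Type u} [Field K] [Algebra k K] {m : ℕ}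

local notation "fK" => Spec.map (CommRingCat.ofHom (algebraMap k K))

theorem pb_unit_bijective :
    Function.Bijective (pb (𝟙_ (Over (Spec (CommRingCat.of K)))).hom) := by
  have h : ∀ r : K, pb (𝟙_ (Over (Spec (CommRingCat.of K)))).hom r =
      (Scheme.ΓSpecIso (CommRingCat.of K)).inv r := by
    intro r
    change pb (𝟙 (Spec (CommRingCat.of K))) r = _
    rw [pb_apply]
    rfl
  have hb : Function.Bijective (Scheme.ΓSpecIso (CommRingCat.of K)).inv :=
    ConcreteCategory.bijective_of_isIso _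
  constructor
  · intro a b hab
    rw [h, h] at hab
    exact hb.1 hab
  · intro y
    obtain ⟨r, hr⟩ := hb.2 y
    exact ⟨r, by rw [h, hr]⟩

/-- every rational point of the base change of `GL_m` is given by an invertible matrix over `K`. -/
theorem exists_matrix_of_point
    (g : 𝟙_ (Over (Spec (CommRingCat.of K))) ⟶ Red.bc fK (CoactBr.sp k (GLn m k))) :
    ∃ Q Q' : Matrix (Fin m) (Fin m) K, Q * Q' = 1 ∧ Q' * Q = 1 ∧
      glMatB fK g = Q.map (pb (𝟙_ (Over (Spec (CommRingCat.of K)))).hom) := by
  have hb := pb_unit_bijective (K := K)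
  choose s hs using hb.2
  let p := pb (𝟙_ (Over (Spec (CommRingCat.of K)))).hom
  have hmap : ∀ A : Matrix (Fin m) (Fin m) Γ((𝟙_ (Over (Spec (CommRingCat.of K)))).left, ⊤),
      (A.map s).map p = A := by
    intro A
    ext i j
    rw [Matrix.map_apply, Matrix.map_apply]
    exact hs _
  have hinj : Function.Injective
      (fun A : Matrix (Fin m) (Fin m) K => A.map p) := Matrix.map_injective hb.1
  refine ⟨(glMatB fK g).map s, (glMatB fK g⁻¹).map s, ?_, ?_, (hmap _).symm⟩
  · apply hinj
    change ((glMatB fK g).map s * (glMatB fK g⁻¹).map s).map p = (1 : Matrix _ _ K).map p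
    rw [Matrix.map_mul, hmap, hmap, glMatB_mul_inv, Matrix.map_one _ (map_zero _) (map_one _)]
  · apply hinj
    change ((glMatB fK g⁻¹).map s * (glMatB fK g).map s).map p = (1 : Matrix _ _ K).map p
    rw [Matrix.map_mul, hmap, hmap, glMatB_inv_mul, Matrix.map_one _ (map_zero _) (map_one _)]

end KPoint

section Perm

variable {R : Type*} [CommRing R] {m : ℕ}

/-- permutation matrix -/
def pm (R : Type*) [CommRing R] {m : ℕ} (π : Equiv.Perm (Fin m)) : Matrix (Fin m) (Fin m) R :=
  fun i j => if π i = j then 1 else 0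

/-- transposed permutation matrix -/
def pm' (R : Type*) [CommRing R] {m : ℕ} (π : Equiv.Perm (Fin m)) : Matrix (Fin m) (Fin m) R :=
  fun i j => if π j = i then 1 else 0

theorem pm_mul_pm' (π : Equiv.Perm (Fin m)) : pm R π * pm' R π = 1 := by
  ext i j
  rw [Matrix.mul_apply, Matrix.one_apply]
  simp only [pm, pm']
  rw [Finset.sum_eq_single (π i)]
  · by_cases h : i = j
    · subst h; simp
    · have : π j ≠ π i := fun e => h (π.injective e).symm
      simp [h, this]
  · intro b _ hb
    rw [if_neg (Ne.symm hb), zero_mul]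
  · intro h
    exact absurd (Finset.mem_univ _) h

theorem pm'_mul_pm (π : Equiv.Perm (Fin m)) : pm' R π * pm R π = 1 := by
  ext i j
  rw [Matrix.mul_apply, Matrix.one_apply]
  simp only [pm, pm']
  rw [Finset.sum_eq_single (π.symm i)]
  · by_cases h : i = j
    · subst h; simp
    · simp [h]
  · intro b _ hb
    have : π b ≠ i := fun e => hb (by rw [← e, Equiv.symm_apply_apply])
    rw [if_neg this, zero_mul]
  · intro h
    exact absurd (Finset.mem_univ _) h

theorem pm_mul_diagonal_mul_pm' (π : Equiv.Perm (Fin m)) (d : Fin m → R) :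
    pm R π * Matrix.diagonal d * pm' R π = Matrix.diagonal fun j => d (π j) := by
  ext i j
  rw [Matrix.mul_apply]
  simp only [Matrix.mul_diagonal, pm, pm']
  rw [Finset.sum_eq_single (π i)]
  · by_cases h : i = j
    · subst h; simp
    · have : π j ≠ π i := fun e => h (π.injective e).symm
      simp [h, this]
  · intro b _ hb
    rw [if_neg (Ne.symm hb), zero_mul, zero_mul]
  · intro h
    exact absurd (Finset.mem_univ _) h

theorem pm_map {R' : Type*} [CommRing R'] (φ : R →+* R') (π : Equiv.Perm (Fin m)) :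
    (pm R π).map φ = pm R' π := by
  ext i j
  simp only [Matrix.map_apply, pm]
  split_ifs <;> simp

theorem pm'_map {R' : Type*} [CommRing R'] (φ : R →+* R') (π : Equiv.Perm (Fin m)) :
    (pm' R π).map φ = pm' R' π := by
  ext i j
  simp only [Matrix.map_apply, pm']
  split_ifs <;> simp

end Perm

section Intertwiner

variable {K : Type u} [Field K] {m : ℕ} {M : Type} [AddCommGroup M]

/-- an intertwiner between two diagonal representations permutes the weights -/
theorem exists_perm_of_intertwiner (W W' : Matrix (Fin m) (Fin m) K) (hWW' : W * W' = 1)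
    (hW'W : W' * W = 1) (c c' : Fin m → Multiplicative M)
    (h : ∀ {X : Over (Spec (CommRingCat.of K))} (x : X ⟶ Red.DS (Spec (CommRingCat.of K)) M),
      W.map (pb X.hom) * (Matrix.diagonal fun j => dsFn x (c j)) * W'.map (pb X.hom) =
        Matrix.diagonal fun j => dsFn x (c' j)) :
    ∃ π : Equiv.Perm (Fin m), ∀ i, c i = c' (π i) := by
  classical
  obtain ⟨u, hu⟩ := exists_univ K M
  set A := MonoidAlgebra K (Multiplicative M) with hA
  have h1 := h u
  have hW'Wm : W'.map (pb (T K A).hom) * W.map (pb (T K A).hom) = 1 := by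
    rw [← Matrix.map_mul, hW'W, Matrix.map_one _ (map_zero _) (map_one _)]
  have h2 : W.map (pb (T K A).hom) * (Matrix.diagonal fun j => dsFn u (c j)) =
      (Matrix.diagonal fun j => dsFn u (c' j)) * W.map (pb (T K A).hom) := by
    calc W.map (pb (T K A).hom) * (Matrix.diagonal fun j => dsFn u (c j))
        = W.map (pb (T K A).hom) * (Matrix.diagonal fun j => dsFn u (c j)) *
            (W'.map (pb (T K A).hom) * W.map (pb (T K A).hom)) := by
          rw [hW'Wm, Matrix.mul_one]
      _ = (W.map (pb (T K A).hom) * (Matrix.diagonal fun j => dsFn u (c j)) *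
            W'.map (pb (T K A).hom)) * W.map (pb (T K A).hom) := by
          simp only [Matrix.mul_assoc]
      _ = (Matrix.diagonal fun j => dsFn u (c' j)) * W.map (pb (T K A).hom) := by rw [h1]
  have key : ∀ i j, W i j ≠ 0 → c j = c' i := by
    intro i j hne
    have h3 := congrFun (congrFun h2 i) j
    rw [Matrix.mul_diagonal, Matrix.diagonal_mul, Matrix.map_apply, hu, hu, pb_T_hom,
      ← map_mul, ← map_mul] at h3
    have h4 := (gam K A).injective h3
    rw [mul_comm (MonoidAlgebra.of K (Multiplicative M) (c' i)),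
      ← MonoidAlgebra.single_eq_algebraMap_mul_of, ← MonoidAlgebra.single_eq_algebraMap_mul_of] at h4
    exact (MonoidAlgebra.single_left_inj hne).mp h4
  have hdet : W.det ≠ 0 := (Matrix.isUnit_det_of_right_inverse hWW').ne_zero
  rw [Matrix.det_apply] at hdet
  obtain ⟨π, -, hπ⟩ := Finset.exists_ne_zero_of_sum_ne_zero hdet
  have hprod : ∏ i, W (π i) i ≠ 0 := by
    intro h0
    apply hπ
    rw [h0, smul_zero]
  refine ⟨π, fun i => key (π i) i ?_⟩
  intro h0
  exact hprod (Finset.prod_eq_zero (Finset.mem_univ i) h0)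

end Intertwiner

end Groth.Agent.H40.MuSubGL
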