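import Groth.Agent.H40.MuSubGL3

/-!
# Two diagonalisable subgroups of `GL_m` over `k` conjugate over an extension field are conjugate
over `k`
-/

set_option autoImplicit false
universe u

open CategoryTheory AlgebraicGeometry CategoryTheory.Limits MonoidalCategory
  CartesianMonoidalCategory MonObj
open Groth.Agent.H42 Groth.Agent.H40
open scoped TensorProduct

namespace Groth.Agent.H40.MuSubGL

open Groth.Agent.H82.TorusHom Groth.Agent.H40.DiagRep Groth.Agent.H40.GLnPts CoordGrp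
  Groth.Agent.H40.DiagEmb

section MatChain

variable {R : Type*} [CommRing R] {m : ℕ}

theorem conj_chain (Q1 Q1' G G' Q2 Q2' B C D1 D2 : Matrix (Fin m) (Fin m) R)
    (h11 : Q1' * Q1 = 1) (hA : G * B * G' = C) (hB : Q1 * B * Q1' = D1)
    (hC : Q2 * C * Q2' = D2) :
    (Q2 * G * Q1') * D1 * (Q1 * G' * Q2') = D2 := by
  rw [← hC, ← hA, ← hB]
  have e : ∀ Y, Q1' * (Q1 * Y) = Y := fun Y => by rw [← Matrix.mul_assoc, h11, Matrix.one_mul]
  simp only [Matrix.mul_assoc, e]

theorem conj_chain' (Qs Qs' Qt Qt' P P' B C Ds Dt : Matrix (Fin m) (Fin m) R)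
    (hss : Qs * Qs' = 1) (hs's : Qs' * Qs = 1) (htt : Qt * Qt' = 1) (ht't : Qt' * Qt = 1)
    (hP'P : P' * P = 1)
    (hB : Qs * B * Qs' = Ds) (hC : Qt * C * Qt' = Dt) (hP : P * Dt * P' = Ds) :
    (Qt' * P' * Qs) * B * (Qs' * P * Qt) = C := by
  have hB' := eq_of_conj_eq (C := B) Qs Qs' hss hs's hB
  have hC' := eq_of_conj_eq (C := C) Qt Qt' htt ht't hC
  rw [hB', hC', ← hP]
  have e1 : ∀ Y, Qs * (Qs' * Y) = Y := fun Y => by rw [← Matrix.mul_assoc, hss, Matrix.one_mul]
  have e2 : ∀ Y, P' * (P * Y) = Y := fun Y => by rw [← Matrix.mul_assoc, hP'P, Matrix.one_mul]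
  simp only [Matrix.mul_assoc, e1, e2]

end MatChain

section Grp

variable {S : Scheme.{u}} {G : Over S} [GrpObj G]

theorem isMonHom_of_comp_mono' {T T' : Over S} [GrpObj T] [GrpObj T'] (g : T ⟶ T') (j' : T' ⟶ G)
    [IsMonHom j'] [Mono j'] (j : T ⟶ G) [IsMonHom j] (h : g ≫ j' = j) : IsMonHom g := by
  apply isMonHom_of_points
  · rw [← cancel_mono j', Category.assoc, h, MonObj.one_comp, MonObj.one_comp]
  · intro Y a b
    rw [← cancel_mono j', Category.assoc, h, MonObj.mul_comp, MonObj.mul_comp, Category.assoc,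
      Category.assoc, h]

theorem comp_conjBy' {H X : Over S} (g : 𝟙_ (Over S) ⟶ G) (i : H ⟶ G) (x : X ⟶ H) :
    x ≫ AGF.conjBy g i = AGF.conjBy g (x ≫ i) := comp_conjBy g i x

instance isMonHom_conjBy {H : Over S} [GrpObj H] (g : 𝟙_ (Over S) ⟶ G) (ρ : H ⟶ G) [IsMonHom ρ] :
    IsMonHom (AGF.conjBy g ρ) := by
  apply isMonHom_of_points
  · rw [comp_conjBy, MonObj.one_comp, _root_.mul_one, mul_inv_cancel]
  · intro T a b
    rw [comp_conjBy, comp_conjBy, comp_conjBy, MonObj.mul_comp]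
    group

end Grp

section Theta

variable {S' S : Scheme.{u}} (f : S' ⟶ S) (M : Type) [AddCommGroup M]

theorem isMonHom_theta (θ : Red.DS S' M ≅ Red.bc f (Red.DS S M))
    (hθ : ∀ {X : Over S'} (x : X ⟶ Red.DS S' M) (χ : Multiplicative M),
      dsFn (bcPt f (Red.DS S M) (x ≫ θ.hom)) χ = dsFn x χ) : IsMonHom θ.hom := by
  apply isMonHom_of_points
  · apply bcPt_injective f (Red.DS S M)
    apply dsFn_ext
    intro χ
    rw [hθ, bcPt_one', dsFn_one, dsFn_one]
  · intro T a b
    apply bcPt_injective f (Red.DS S M)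
    apply dsFn_ext
    intro χ
    rw [hθ, bcPt_mul, dsFn_mul, dsFn_mul, hθ, hθ]

end Theta

section BC

variable {k : Type u} [Field k] {K : Type u} [Field K] [Algebra k K] {m : ℕ}
  {M : Type} [AddCommGroup M]

local notation "fK" => Spec.map (CommRingCat.ofHom (algebraMap k K))

theorem map_map_pb (Q : Matrix (Fin m) (Fin m) k) (X : Over (Spec (CommRingCat.of K))) :
    (Q.map (algebraMap k K)).map (pb X.hom) = Q.map (pb ((Over.map fK).obj X).hom) := by
  ext i j
  rw [Matrix.map_apply, Matrix.map_apply, Matrix.map_apply]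
  exact (pb_comp_specMap X.hom (algebraMap k K) (Q i j)).symm

/-- base change of weight data -/
theorem weights_baseChange
    (ρ : Red.DS (Spec (CommRingCat.of k)) M ⟶ CoactBr.sp k (GLn m k))
    (c : Fin m → Multiplicative M) (Q Q' : Matrix (Fin m) (Fin m) k)
    (hconj : ∀ {X : Over (Spec (CommRingCat.of k))} (x : X ⟶ Red.DS (Spec (CommRingCat.of k)) M),
        Q.map (pb X.hom) * glMat (x ≫ ρ) * Q'.map (pb X.hom) =
          Matrix.diagonal fun j => dsFn x (c j))
    (θ : Red.DS (Spec (CommRingCat.of K)) M ≅ Red.bc fK (Red.DS (Spec (CommRingCat.of k)) M))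
    (hθ : ∀ {X : Over (Spec (CommRingCat.of K))} (x : X ⟶ Red.DS (Spec (CommRingCat.of K)) M)
      (χ : Multiplicative M),
      dsFn (bcPt fK (Red.DS (Spec (CommRingCat.of k)) M) (x ≫ θ.hom)) χ = dsFn x χ)
    {X : Over (Spec (CommRingCat.of K))} (x : X ⟶ Red.DS (Spec (CommRingCat.of K)) M) :
    (Q.map (algebraMap k K)).map (pb X.hom) *
        glMatB fK (x ≫ θ.hom ≫ (Over.pullback fK).map ρ) *
      (Q'.map (algebraMap k K)).map (pb X.hom) = Matrix.diagonal fun j => dsFn x (c j) := by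
  rw [← Category.assoc, glMatB_map, map_map_pb, map_map_pb]
  have h := hconj (X := (Over.map fK).obj X)
    (bcPt fK (Red.DS (Spec (CommRingCat.of k)) M) (x ≫ θ.hom))
  simp only [hθ] at h
  exact h

end BC

end Groth.Agent.H40.MuSubGL
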