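import Groth.Agent.H40.MuSubGL4

/-!
# Two diagonalisable subgroups of `GL_m` over `k` conjugate over an extension field are conjugate
over `k`: main theorem
-/

set_option autoImplicit false
universe u

open CategoryTheory AlgebraicGeometry CategoryTheory.Limits MonoidalCategory
  CartesianMonoidalCategory MonObj
open Groth.Agent.H42 Groth.Agent.H40
open scoped TensorProduct

namespace Groth.Agent.H40.MuSubGL

open Groth.Agent.H82.TorusHom Groth.Agent.H40.DiagRep Groth.Agent.H40.GLnPts CoordGrp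
  Groth.Agent.H40.DiagEmb

section Main

variable {k : Type u} [Field k] {K : Type u} [Field K] [Algebra k K] {m : ℕ}
  {M : Type} [AddCommGroup M] [Finite M]

local notation "fK" => Spec.map (CommRingCat.ofHom (algebraMap k K))

theorem exists_rational_conj
    (ρσ ρτ : Red.DS (Spec (CommRingCat.of k)) M ⟶ CoactBr.sp k (GLn m k))
    [IsMonHom ρσ] [IsMonHom ρτ] [Mono ρτ]
    (g : 𝟙_ (Over (Spec (CommRingCat.of K))) ⟶ Red.bc fK (CoactBr.sp k (GLn m k)))
    (α₀ : Red.bc fK (Red.DS (Spec (CommRingCat.of k)) M) ≅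
      Red.bc fK (Red.DS (Spec (CommRingCat.of k)) M))
    (h : AGF.conjBy g ((Over.pullback fK).map ρσ) = α₀.hom ≫ (Over.pullback fK).map ρτ) :
    ∃ (g' : 𝟙_ (Over (Spec (CommRingCat.of k))) ⟶ CoactBr.sp k (GLn m k))
      (β : Red.DS (Spec (CommRingCat.of k)) M ≅ Red.DS (Spec (CommRingCat.of k)) M),
      AGF.conjBy g' ρσ = β.hom ≫ ρτ := by
  classical
  obtain ⟨θ, hθ⟩ := exists_theta fK M
  haveI := isMonHom_theta fK M θ hθ
  let ρσK : Red.DS (Spec (CommRingCat.of K)) M ⟶ Red.bc fK (CoactBr.sp k (GLn m k)) :=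
    θ.hom ≫ (Over.pullback fK).map ρσ
  let ρτK : Red.DS (Spec (CommRingCat.of K)) M ⟶ Red.bc fK (CoactBr.sp k (GLn m k)) :=
    θ.hom ≫ (Over.pullback fK).map ρτ
  haveI : IsMonHom ρσK := inferInstance
  haveI : IsMonHom ρτK := inferInstance
  haveI : Mono ρτK := mono_comp _ _
  let αi : Red.DS (Spec (CommRingCat.of K)) M ≅ Red.DS (Spec (CommRingCat.of K)) M :=
    θ ≪≫ α₀ ≪≫ θ.symm
  have hstar : AGF.conjBy g ρσK = αi.hom ≫ ρτK := by
    change AGF.conjBy g (θ.hom ≫ (Over.pullback fK).map ρσ) = _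
    rw [← comp_conjBy', h]
    simp [αi, ρτK]
  haveI : IsMonHom αi.hom := isMonHom_of_comp_mono' αi.hom ρτK (AGF.conjBy g ρσK) hstar.symm
  haveI : IsMonHom αi.inv := inferInstance
  obtain ⟨a₀, ha₀⟩ := exists_DSmap_eq (k := K) αi.hom
  obtain ⟨b₀, hb₀⟩ := exists_DSmap_eq (k := K) αi.inv
  have hab : a₀.comp b₀ = AddMonoidHom.id M := by
    apply DSmap_injective K
    rw [← DSmap_comp, ← ha₀, ← hb₀, Iso.hom_inv_id, DSmap_id]
  have hba : b₀.comp a₀ = AddMonoidHom.id M := by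
    apply DSmap_injective K
    rw [← DSmap_comp, ← ha₀, ← hb₀, Iso.inv_hom_id, DSmap_id]
  -- weights
  obtain ⟨cσ, Qσ, Q'σ, hσ1, hσ2, hσc⟩ := exists_weights₀ ρσ
  obtain ⟨cτ, Qτ, Q'τ, hτ1, hτ2, hτc⟩ := exists_weights₀ ρτ
  have hσK := fun {X : Over (Spec (CommRingCat.of K))}
      (x : X ⟶ Red.DS (Spec (CommRingCat.of K)) M) =>
    weights_baseChange (K := K) ρσ cσ Qσ Q'σ hσc θ hθ x
  have hτK := fun {X : Over (Spec (CommRingCat.of K))}
      (x : X ⟶ Red.DS (Spec (CommRingCat.of K)) M) =>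
    weights_baseChange (K := K) ρτ cτ Qτ Q'τ hτc θ hθ x
  obtain ⟨G₀, G₀', hG1, hG2, hG⟩ := exists_matrix_of_point g
  let al : k →+* K := algebraMap k K
  let W : Matrix (Fin m) (Fin m) K := Qτ.map al * G₀ * Q'σ.map al
  let W' : Matrix (Fin m) (Fin m) K := Qσ.map al * G₀' * Q'τ.map al
  have mapone : ∀ {R₁ R₂ : Type u} [CommRing R₁] [CommRing R₂] (φ : R₁ →+* R₂)
      (A B : Matrix (Fin m) (Fin m) R₁), A * B = 1 → A.map φ * B.map φ = 1 := by
    intro R₁ R₂ _ _ φ A B hAB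
    rw [← Matrix.map_mul, hAB, Matrix.map_one _ (map_zero _) (map_one _)]
  have hWW' : W * W' = 1 := by
    have e1 : ∀ Y, Q'σ.map al * (Qσ.map al * Y) = Y := fun Y => by
      rw [← Matrix.mul_assoc, mapone al _ _ hσ2, Matrix.one_mul]
    have e2 : ∀ Y, G₀ * (G₀' * Y) = Y := fun Y => by
      rw [← Matrix.mul_assoc, hG1, Matrix.one_mul]
    simp only [W, W', Matrix.mul_assoc, e1, e2]
    exact mapone al _ _ hτ1
  have hW'W : W' * W = 1 := by
    have e1 : ∀ Y, Q'τ.map al * (Qτ.map al * Y) = Y := fun Y => by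
      rw [← Matrix.mul_assoc, mapone al _ _ hτ2, Matrix.one_mul]
    have e2 : ∀ Y, G₀' * (G₀ * Y) = Y := fun Y => by
      rw [← Matrix.mul_assoc, hG2, Matrix.one_mul]
    simp only [W, W', Matrix.mul_assoc, e1, e2]
    exact mapone al _ _ hσ1
  have hint : ∀ {X : Over (Spec (CommRingCat.of K))}
      (x : X ⟶ Red.DS (Spec (CommRingCat.of K)) M),
      W.map (pb X.hom) * (Matrix.diagonal fun j => dsFn x (cσ j)) * W'.map (pb X.hom) =
        Matrix.diagonal fun j => dsFn x (AddMonoidHom.toMultiplicative a₀ (cτ j)) := by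
    intro X x
    have hA : G₀.map (pb X.hom) * glMatB fK (x ≫ ρσK) * G₀'.map (pb X.hom) =
        glMatB fK ((x ≫ αi.hom) ≫ ρτK) := by
      rw [← glMatB_conj g G₀ G₀' hG1 hG2 hG, ← comp_conjBy, hstar, Category.assoc]
    have hB := hσK x
    have hC := hτK (x ≫ αi.hom)
    have hd : ∀ j, dsFn (x ≫ αi.hom) (cτ j) = dsFn x (AddMonoidHom.toMultiplicative a₀ (cτ j)) := by
      intro j
      rw [ha₀, dsFn_DSmap]
    simp only [hd] at hC
    have := conj_chain _ _ _ _ _ _ _ _ _ _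
      (mapone (pb X.hom) _ _ (mapone al _ _ hσ2)) hA hB hC
    simp only [W, W', Matrix.map_mul]
    exact this
  obtain ⟨π, hπ⟩ := exists_perm_of_intertwiner W W' hWW' hW'W cσ
    (fun j => AddMonoidHom.toMultiplicative a₀ (cτ j)) hint
  -- the rational point
  let g₀ : Matrix (Fin m) (Fin m) k := Q'τ * pm' k π * Qσ
  let g₀' : Matrix (Fin m) (Fin m) k := Q'σ * pm k π * Qτ
  have hgg' : g₀ * g₀' = 1 := by
    have e1 : ∀ Y, Qσ * (Q'σ * Y) = Y := fun Y => by
      rw [← Matrix.mul_assoc, hσ1, Matrix.one_mul]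
    have e2 : ∀ Y, pm' k π * (pm k π * Y) = Y := fun Y => by
      rw [← Matrix.mul_assoc, pm'_mul_pm, Matrix.one_mul]
    simp only [g₀, g₀', Matrix.mul_assoc, e1, e2]
    exact hτ2
  have hg'g : g₀' * g₀ = 1 := by
    have e1 : ∀ Y, Qτ * (Q'τ * Y) = Y := fun Y => by
      rw [← Matrix.mul_assoc, hτ1, Matrix.one_mul]
    have e2 : ∀ Y, pm k π * (pm' k π * Y) = Y := fun Y => by
      rw [← Matrix.mul_assoc, pm_mul_pm', Matrix.one_mul]
    simp only [g₀, g₀', Matrix.mul_assoc, e1, e2]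
    exact hσ2
  obtain ⟨g', hg'⟩ := exists_point₀ g₀ g₀' hgg'
  let β : Red.DS (Spec (CommRingCat.of k)) M ≅ Red.DS (Spec (CommRingCat.of k)) M :=
    { hom := Red.DSmap (Spec (CommRingCat.of k)) a₀
      inv := Red.DSmap (Spec (CommRingCat.of k)) b₀
      hom_inv_id := by rw [DSmap_comp, hab, DSmap_id]
      inv_hom_id := by rw [DSmap_comp, hba, DSmap_id] }
  refine ⟨g', β, ?_⟩
  have key : ∀ {X : Over (Spec (CommRingCat.of k))}
      (x : X ⟶ Red.DS (Spec (CommRingCat.of k)) M),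
      glMat (x ≫ AGF.conjBy g' ρσ) = glMat (x ≫ β.hom ≫ ρτ) := by
    intro X x
    rw [comp_conjBy, glMat_conj g' g₀ g₀' hg'g hg']
    have hB := hσc x
    have hC := hτc (x ≫ Red.DSmap (Spec (CommRingCat.of k)) a₀)
    have hP : pm Γ(X.left, ⊤) π *
        (Matrix.diagonal fun j => dsFn (x ≫ Red.DSmap (Spec (CommRingCat.of k)) a₀) (cτ j)) *
        pm' Γ(X.left, ⊤) π = Matrix.diagonal fun j => dsFn x (cσ j) := by
      rw [pm_mul_diagonal_mul_pm']
      congr 1
      funext i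
      rw [dsFn_DSmap, hπ i]
    have := conj_chain' _ _ _ _ _ _ _ _ _ _
      (mapone (pb X.hom) _ _ hσ1) (mapone (pb X.hom) _ _ hσ2)
      (mapone (pb X.hom) _ _ hτ1) (mapone (pb X.hom) _ _ hτ2)
      (pm'_mul_pm π) hB hC hP
    simp only [g₀, g₀', Matrix.map_mul, pm_map, pm'_map]
    rw [this, Category.assoc]
  have h1 := key (𝟙 _)
  rw [Category.id_comp, Category.id_comp] at h1
  exact glMat_injective h1

end Main

end Groth.Agent.H40.MuSubGL
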