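import Groth.Prelude.Def_NonAbH1
import Mathlib.CategoryTheory.Sites.Subsheaf

/-!
# The exact sequence of non-abelian cohomology on a site (boundary map)

General lemmas on `NonAbH1.GSheaf`: gluing of invariant maps out of a torsor, images of
monomorphisms of sheaves, and the sheaf of liftings of a section of a quotient `G/F`.
-/

set_option autoImplicit false
universe w v u
open CategoryTheory Opposite

namespace Groth.Agent.H40.NonAbSeq
open NonAbH1 NonAbH1.GSheaf

variable {C : Type u} [Category.{v} C] {J : GrothendieckTopology C}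

theorem isSheafT (P : Sheaf J (Type w)) : Presieve.IsSheaf J P.obj :=
  (isSheaf_iff_isSheaf_of_type J P.obj).1 P.property

section General
variable {F : Sheaf J GrpCat.{w}}

/-- the sieve of morphisms over whose source `T` has a section. -/
def secSieve (T : GSheaf F) (X : C) : Sieve X where
  arrows V _ := Nonempty (T.P.obj.obj (op V))
  downward_closed := by
    rintro Y Z f ⟨t⟩ g
    exact ⟨T.P.obj.map g.op t⟩

theorem secSieve_mem (T : GSheaf F) (hT : T.LocallyNonempty) (X : C) : secSieve T X ∈ J X := by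
  obtain ⟨S, hS, h⟩ := hT X
  exact J.superset_covering (fun V f hf => h f hf) hS

/-- an invariant map from a torsor to a sheaf glues to a global section. -/
theorem exists_section_of_invariant (T : GSheaf F) (hT : T.IsTorsor) (R : Sheaf J (Type w))
    (θ : T.P ⟶ R)
    (hθ : ∀ (U : Cᵒᵖ) (a : F.obj.obj U) (t : T.P.obj.obj U),
      θ.hom.app U (T.smul a t) = θ.hom.app U t) :
    ∃ r : R.obj.sections, ∀ (U : Cᵒᵖ) (t : T.P.obj.obj U), θ.hom.app U t = r.1 U := by
  classical
  have hinv : ∀ (U : Cᵒᵖ) (t t' : T.P.obj.obj U), θ.hom.app U t = θ.hom.app U t' := by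
    intro U t t'
    obtain ⟨a, ha, -⟩ := hT.1 U t t'
    rw [← ha, hθ]
  have hnat : ∀ {U V : Cᵒᵖ} (f : U ⟶ V) (t : T.P.obj.obj U),
      R.obj.map f (θ.hom.app U t) = θ.hom.app V (T.P.obj.map f t) := by
    intro U V f t
    exact (NatTrans.naturality_apply θ.hom f t).symm
  let x : ∀ X : C, Presieve.FamilyOfElements R.obj (secSieve T X).arrows :=
    fun X V f hf => θ.hom.app (op V) (Classical.choice hf)
  have hx : ∀ X : C, (x X).Compatible := by
    intro X Y₁ Y₂ Z g₁ g₂ f₁ f₂ h₁ h₂ e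
    change R.obj.map g₁.op (θ.hom.app _ _) = R.obj.map g₂.op (θ.hom.app _ _)
    rw [hnat, hnat]
    exact hinv _ _ _
  let r : ∀ U : Cᵒᵖ, R.obj.obj U := fun U =>
    ((isSheafT R) _ (secSieve_mem T hT.2 U.unop)).amalgamate (x U.unop) (hx U.unop)
  have hr : ∀ (U : Cᵒᵖ) {V : C} (f : V ⟶ U.unop) (t : T.P.obj.obj (op V)),
      R.obj.map f.op (r U) = θ.hom.app (op V) t := by
    intro U V f t
    have := ((isSheafT R) _ (secSieve_mem T hT.2 U.unop)).valid_glue (hx U.unop) f ⟨t⟩
    rw [this]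
    exact hinv _ _ _
  refine ⟨⟨r, ?_⟩, ?_⟩
  · intro U U' h
    apply ((isSheafT R) _ (secSieve_mem T hT.2 U'.unop)).isSeparatedFor.ext
    rintro V f ⟨t⟩
    rw [hr U' f t]
    have : R.obj.map f.op (R.obj.map h (r U)) = R.obj.map (f ≫ h.unop).op (r U) := by
      rw [op_comp, Functor.map_comp]
      rfl
    rw [this, hr U (f ≫ h.unop) t]
  · intro U t
    have h1 : R.obj.map (𝟙 U.unop).op (r U) = r U := by
      rw [op_id, CategoryTheory.Functor.map_id]
      rfl
    rw [← hr U (𝟙 U.unop) t, h1]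

/-- the image of a monomorphism of sheaves is closed under local membership. -/
theorem exists_preimage_of_locally (P R : Sheaf J (Type w)) (ι : P ⟶ R)
    (hι : ∀ U : Cᵒᵖ, Function.Injective (ι.hom.app U)) (U : Cᵒᵖ) (g : R.obj.obj U)
    (S : Sieve U.unop) (hS : S ∈ J U.unop)
    (h : ∀ ⦃V : C⦄ (f : V ⟶ U.unop), S f →
      ∃ t : P.obj.obj (op V), ι.hom.app (op V) t = R.obj.map f.op g) :
    ∃ t : P.obj.obj U, ι.hom.app U t = g := by
  classical
  have hnat : ∀ {U V : Cᵒᵖ} (f : U ⟶ V) (t : P.obj.obj U),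
      R.obj.map f (ι.hom.app U t) = ι.hom.app V (P.obj.map f t) := by
    intro U V f t
    exact (NatTrans.naturality_apply ι.hom f t).symm
  let x : Presieve.FamilyOfElements P.obj S.arrows := fun V f hf => (h f hf).choose
  have hxs : ∀ {V : C} (f : V ⟶ U.unop) (hf : S f), ι.hom.app (op V) (x f hf) = R.obj.map f.op g :=
    fun f hf => (h f hf).choose_spec
  have hx : x.Compatible := by
    intro Y₁ Y₂ Z g₁ g₂ f₁ f₂ h₁ h₂ e
    apply hι
    rw [← hnat, ← hnat, hxs f₁ h₁, hxs f₂ h₂]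
    have e1 : R.obj.map g₁.op (R.obj.map f₁.op g) = R.obj.map (g₁ ≫ f₁).op g := by
      rw [op_comp, Functor.map_comp]; rfl
    have e2 : R.obj.map g₂.op (R.obj.map f₂.op g) = R.obj.map (g₂ ≫ f₂).op g := by
      rw [op_comp, Functor.map_comp]; rfl
    rw [e1, e2, e]
  refine ⟨((isSheafT P) _ hS).amalgamate x hx, ?_⟩
  apply ((isSheafT R) _ hS).isSeparatedFor.ext
  intro V f hf
  rw [hnat, ((isSheafT P) _ hS).valid_glue hx f hf, hxs f hf]

end General

section Iso
variable {F : Sheaf J GrpCat.{w}}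

/-- an equivariant morphism which is bijective on sections is an isomorphism. -/
theorem iso_of_bijective {P P' : GSheaf F} (f : P ⟶ P')
    (hf : ∀ U : Cᵒᵖ, Function.Bijective (f.hom.hom.app U)) : Nonempty (P ≅ P') := by
  have hnat : ∀ {U V : Cᵒᵖ} (h : U ⟶ V) (t : P.P.obj.obj U),
      P'.P.obj.map h (f.hom.hom.app U t) = f.hom.hom.app V (P.P.obj.map h t) := by
    intro U V h t
    exact (NatTrans.naturality_apply f.hom.hom h t).symm
  let e : ∀ U : Cᵒᵖ, P.P.obj.obj U ≃ P'.P.obj.obj U := fun U => Equiv.ofBijective _ (hf U)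
  have he : ∀ (U : Cᵒᵖ) (t : P.P.obj.obj U), e U t = f.hom.hom.app U t := fun U t => rfl
  let invNat : P'.P.obj ⟶ P.P.obj :=
    { app := fun U => ↾fun p' => (e U).symm p'
      naturality := by
        intro U V h
        ext p'
        change (e V).symm (P'.P.obj.map h p') = P.P.obj.map h ((e U).symm p')
        apply (e V).injective
        rw [Equiv.apply_symm_apply, he, ← hnat, ← he, Equiv.apply_symm_apply] }
  let g : P' ⟶ P :=
    { hom := ⟨invNat⟩
      map_smul := by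
        intro U a p'
        change (e U).symm (P'.smul a p') = P.smul a ((e U).symm p')
        apply (e U).injective
        rw [Equiv.apply_symm_apply, he, f.map_smul, ← he, Equiv.apply_symm_apply] }
  refine ⟨⟨f, g, ?_, ?_⟩⟩
  · apply GSheaf.hom_ext
    apply Sheaf.hom_ext
    ext U t
    change (e U).symm (f.hom.hom.app U t) = t
    rw [← he, Equiv.symm_apply_apply]
  · apply GSheaf.hom_ext
    apply Sheaf.hom_ext
    ext U t
    change f.hom.hom.app U ((e U).symm t) = t
    rw [← he, Equiv.apply_symm_apply]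

variable [J.HasSheafCompose (forget GrpCat.{w})]

theorem uSh_map {G : Sheaf J GrpCat.{w}} {U V : Cᵒᵖ} (h : U ⟶ V) (g : G.obj.obj U) :
    (uSh G).obj.map h (ofGrp g) = ofGrp (G.obj.map h g) := rfl

/-- a pseudo-torsor with a global section is trivial. -/
theorem isTrivial_of_section (T : GSheaf F) (hT : T.IsPseudoTorsor) (s : T.P.obj.sections) :
    Nonempty (GSheaf.trivial F ≅ T) := by
  let f : GSheaf.trivial F ⟶ T :=
    { hom := ⟨{ app := fun U => ↾fun g => T.smul (toGrp g) (s.1 U)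
                naturality := by
                  intro U V h
                  ext g
                  change T.smul (toGrp ((uSh F).obj.map h g)) (s.1 V) =
                    T.P.obj.map h (T.smul (toGrp g) (s.1 U))
                  rw [T.map_smul, s.2 h]
                  rfl }⟩
      map_smul := by
        intro U a g
        change T.smul (a * toGrp g) (s.1 U) = T.smul a (T.smul (toGrp g) (s.1 U))
        rw [T.mul_smul] }
  apply iso_of_bijective f
  intro U
  constructor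
  · intro g g' hgg
    obtain ⟨a, -, hau⟩ := hT U (s.1 U) (T.smul (toGrp g) (s.1 U))
    exact (hau (toGrp g) rfl).trans (hau (toGrp g') hgg.symm).symm
  · intro t
    obtain ⟨a, ha, -⟩ := hT U (s.1 U) t
    exact ⟨ofGrp a, ha⟩

/-- a trivial `F`-sheaf has a global section. -/
theorem section_of_hom (T : GSheaf F) (f : GSheaf.trivial F ⟶ T) :
    ∃ s : T.P.obj.sections, ∀ U : Cᵒᵖ, s.1 U = f.hom.hom.app U (ofGrp 1) := by
  refine ⟨⟨fun U => f.hom.hom.app U (ofGrp 1), ?_⟩, fun U => rfl⟩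
  intro U V h
  have := (NatTrans.naturality_apply f.hom.hom h (ofGrp (1 : F.obj.obj U))).symm
  refine this.trans ?_
  change f.hom.hom.app V (ofGrp (F.obj.map h 1)) = f.hom.hom.app V (ofGrp 1)
  rw [map_one]

theorem cl_eq_one_iff (T : Torsor F) : T.cl = 1 ↔ Nonempty (GSheaf.trivial F ≅ T.toGSheaf) := by
  have hequiv : Equivalence (fun P Q : Torsor F => Nonempty (P.toGSheaf ≅ Q.toGSheaf)) :=
    ⟨fun P => ⟨Iso.refl _⟩, fun ⟨e⟩ => ⟨e.symm⟩, fun ⟨e⟩ ⟨e'⟩ => ⟨e.trans e'⟩⟩
  constructor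
  · intro h
    have h' : Quot.mk _ T = Quot.mk _ (trivialTorsor F) := h
    obtain ⟨e⟩ := hequiv.eqvGen_iff.1 (Quot.eqvGen_exact h')
    exact ⟨e.symm⟩
  · rintro ⟨e⟩
    exact Quot.sound ⟨e.symm⟩

end Iso

section Quot
variable [J.HasSheafCompose (forget GrpCat.{w})] {F G : Sheaf J GrpCat.{w}} (u : F ⟶ G)
  {Q : GSheaf G} (π : GSheaf.trivial G ⟶ Q)

theorem u_nat {U V : Cᵒᵖ} (f : U ⟶ V) (a : F.obj.obj U) :
    G.obj.map f (u.hom.app U a) = u.hom.app V (F.obj.map f a) :=
  (NatTrans.naturality_apply u.hom f a).symm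

theorem π_nat {U V : Cᵒᵖ} (f : U ⟶ V) (g : (uSh G).obj.obj U) :
    Q.P.obj.map f (π.hom.hom.app U g) = π.hom.hom.app V ((uSh G).obj.map f g) :=
  (NatTrans.naturality_apply π.hom.hom f g).symm

theorem π_mul {U : Cᵒᵖ} (g h : G.obj.obj U) :
    π.hom.hom.app U (ofGrp (g * h)) = Q.smul g (π.hom.hom.app U (ofGrp h)) :=
  π.map_smul g (ofGrp h)

variable {u π}

theorem π_mul_u (hQ : GSheaf.IsQuotientBy u π) {U : Cᵒᵖ} (g : G.obj.obj U) (a : F.obj.obj U) :
    π.hom.hom.app U (ofGrp (g * u.hom.app U a)) = π.hom.hom.app U (ofGrp g) :=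
  ((hQ.1 U g (g * u.hom.app U a)).2 ⟨a, rfl⟩).symm

theorem π_mul_u_inv (hQ : GSheaf.IsQuotientBy u π) {U : Cᵒᵖ} (g : G.obj.obj U) (a : F.obj.obj U) :
    π.hom.hom.app U (ofGrp (g * (u.hom.app U a)⁻¹)) = π.hom.hom.app U (ofGrp g) := by
  have := π_mul_u hQ g a⁻¹
  rwa [map_inv] at this

theorem isTorsor_of_isFibreOver (hu : ∀ U : Cᵒᵖ, Function.Injective (u.hom.app U))
    (hQ : GSheaf.IsQuotientBy u π) (c : Q.P.obj.sections) (T : GSheaf F)
    (hT : GSheaf.IsFibreOver u π c T) : T.IsTorsor := by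
  obtain ⟨ι, hinj, himg, heq⟩ := hT
  refine ⟨?_, ?_⟩
  · intro U t t'
    have h1 : π.hom.hom.app U (ofGrp (toGrp (ι.hom.app U t))) = c.1 U := (himg U _).1 ⟨t, rfl⟩
    have h2 : π.hom.hom.app U (ofGrp (toGrp (ι.hom.app U t'))) = c.1 U := (himg U _).1 ⟨t', rfl⟩
    obtain ⟨f, hf⟩ := (hQ.1 U _ _).1 (h1.trans h2.symm)
    refine ⟨f⁻¹, ?_, ?_⟩
    · apply hinj U
      change toGrp (ι.hom.app U (T.smul f⁻¹ t)) = toGrp (ι.hom.app U t')
      rw [heq, hf, map_inv, inv_inv]
    · intro a ha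
      have h3 : toGrp (ι.hom.app U (T.smul a t)) = toGrp (ι.hom.app U t') := by rw [ha]
      rw [heq, hf] at h3
      have h4 : (u.hom.app U a)⁻¹ = u.hom.app U f := mul_left_cancel h3
      apply hu U
      rw [map_inv, ← h4, inv_inv]
  · intro X
    obtain ⟨S, hS, h⟩ := hQ.2 X (c.1 (op X))
    refine ⟨S, hS, fun V a ha => ?_⟩
    obtain ⟨g, hg⟩ := h a ha
    have hc : Q.P.obj.map a.op (c.1 (op X)) = c.1 (op V) := c.2 a.op
    rw [hc] at hg
    obtain ⟨t, -⟩ := (himg (op V) g).2 hg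
    exact ⟨t⟩

theorem ι_nat {T : GSheaf F} (ι : T.P ⟶ uSh G) {U V : Cᵒᵖ} (h : U ⟶ V) (t : T.P.obj.obj U) :
    (uSh G).obj.map h (ι.hom.app U t) = ι.hom.app V (T.P.obj.map h t) :=
  (NatTrans.naturality_apply ι.hom h t).symm

/-- exactness at the global sections of the quotient. -/
theorem cl_eq_one_iff_lifts (c : Q.P.obj.sections) (T : Torsor F)
    (hT : GSheaf.IsFibreOver u π c T.toGSheaf) :
    T.cl = 1 ↔ ∃ g : (uSh G).obj.sections, ∀ U : Cᵒᵖ, π.hom.hom.app U (g.1 U) = c.1 U := by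
  obtain ⟨ι, hinj, himg, heq⟩ := hT
  rw [cl_eq_one_iff]
  constructor
  · rintro ⟨e⟩
    obtain ⟨s, -⟩ := section_of_hom T.toGSheaf e.hom
    refine ⟨⟨fun U => ι.hom.app U (s.1 U), ?_⟩, ?_⟩
    · intro U V h
      change (uSh G).obj.map h (ι.hom.app U (s.1 U)) = ι.hom.app V (s.1 V)
      rw [ι_nat, s.2 h]
    · intro U
      exact (himg U _).1 ⟨s.1 U, rfl⟩
  · rintro ⟨g, hg⟩
    have hex : ∀ U : Cᵒᵖ, ∃ t : T.P.obj.obj U, ι.hom.app U t = g.1 U := by
      intro U
      obtain ⟨t, ht⟩ := (himg U (toGrp (g.1 U))).2 (hg U)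
      exact ⟨t, ht⟩
    choose t ht using hex
    refine isTrivial_of_section T.toGSheaf T.isTorsor.1 ⟨t, ?_⟩
    intro U V h
    apply hinj V
    rw [← ι_nat, ht, ht, g.2 h]

/-- translation by a global section of `G` carrying `c` to `c'` identifies the fibres. -/
theorem iso_of_translate (c c' : Q.P.obj.sections) (T T' : GSheaf F)
    (hT : GSheaf.IsFibreOver u π c T) (hT' : GSheaf.IsFibreOver u π c' T')
    (g : (uSh G).obj.sections)
    (hg : ∀ U : Cᵒᵖ, Q.smul (toGrp (g.1 U)) (c.1 U) = c'.1 U) : Nonempty (T ≅ T') := by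
  obtain ⟨ι, hinj, himg, heq⟩ := hT
  obtain ⟨ι', hinj', himg', heq'⟩ := hT'
  have hex : ∀ (U : Cᵒᵖ) (t : T.P.obj.obj U), ∃ t' : T'.P.obj.obj U,
      toGrp (ι'.hom.app U t') = toGrp (g.1 U) * toGrp (ι.hom.app U t) := by
    intro U t
    apply (himg' U _).2
    rw [π_mul, (himg U _).1 ⟨t, rfl⟩, hg]
  choose φ hφ using hex
  let f : T ⟶ T' :=
    { hom := ⟨{ app := fun U => ↾(φ U)
                naturality := by
                  intro U V h
                  ext t
                  change φ V (T.P.obj.map h t) = T'.P.obj.map h (φ U t)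
                  apply hinj' V
                  change toGrp (ι'.hom.app V (φ V (T.P.obj.map h t))) =
                    toGrp (ι'.hom.app V (T'.P.obj.map h (φ U t)))
                  rw [hφ, ← ι_nat ι' h, ← ι_nat ι h, ← g.2 h]
                  change _ = G.obj.map h (toGrp (ι'.hom.app U (φ U t)))
                  rw [hφ, map_mul]
                  rfl }⟩
      map_smul := by
        intro U a t
        change φ U (T.smul a t) = T'.smul a (φ U t)
        apply hinj' U
        change toGrp (ι'.hom.app U (φ U (T.smul a t))) = toGrp (ι'.hom.app U (T'.smul a (φ U t)))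
        rw [hφ, heq, heq', hφ, mul_assoc] }
  apply iso_of_bijective f
  intro U
  constructor
  · intro t₁ t₂ h12
    have h12' : φ U t₁ = φ U t₂ := h12
    apply hinj U
    have : toGrp (g.1 U) * toGrp (ι.hom.app U t₁) = toGrp (g.1 U) * toGrp (ι.hom.app U t₂) := by
      rw [← hφ, ← hφ, h12']
    have h3 : toGrp (ι.hom.app U t₁) = toGrp (ι.hom.app U t₂) := mul_left_cancel this
    exact h3
  · intro t'
    have h1 : π.hom.hom.app U (ofGrp ((toGrp (g.1 U))⁻¹ * toGrp (ι'.hom.app U t'))) = c.1 U := by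
      rw [π_mul, (himg' U _).1 ⟨t', rfl⟩, ← hg, ← Q.mul_smul, inv_mul_cancel, Q.one_smul]
    obtain ⟨t, ht⟩ := (himg U _).2 h1
    refine ⟨t, ?_⟩
    apply hinj' U
    change toGrp (ι'.hom.app U (φ U t)) = toGrp (ι'.hom.app U t')
    rw [hφ, ht, mul_inv_cancel_left]

/-- isomorphic fibres are translates of each other. -/
theorem exists_translate_of_iso (hu : ∀ U : Cᵒᵖ, Function.Injective (u.hom.app U))
    (hQ : GSheaf.IsQuotientBy u π) (c c' : Q.P.obj.sections) (T T' : GSheaf F)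
    (hT : GSheaf.IsFibreOver u π c T) (hT' : GSheaf.IsFibreOver u π c' T') (e : T ≅ T') :
    ∃ g : (uSh G).obj.sections,
      ∀ U : Cᵒᵖ, Q.smul (toGrp (g.1 U)) (c.1 U) = c'.1 U := by
  have hTors : T.IsTorsor := isTorsor_of_isFibreOver hu hQ c T hT
  obtain ⟨ι, hinj, himg, heq⟩ := hT
  obtain ⟨ι', hinj', himg', heq'⟩ := hT'
  have enat : ∀ {U V : Cᵒᵖ} (h : U ⟶ V) (t : T.P.obj.obj U),
      T'.P.obj.map h (e.hom.hom.hom.app U t) = e.hom.hom.hom.app V (T.P.obj.map h t) := by
    intro U V h t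
    exact (NatTrans.naturality_apply e.hom.hom.hom h t).symm
  let θ : T.P ⟶ uSh G :=
    ⟨{ app := fun U => ↾fun t =>
          ofGrp (toGrp (ι'.hom.app U (e.hom.hom.hom.app U t)) * (toGrp (ι.hom.app U t))⁻¹)
       naturality := by
        intro U V h
        ext t
        change ofGrp (toGrp (ι'.hom.app V (e.hom.hom.hom.app V (T.P.obj.map h t))) *
            (toGrp (ι.hom.app V (T.P.obj.map h t)))⁻¹) =
          ofGrp (G.obj.map h (toGrp (ι'.hom.app U (e.hom.hom.hom.app U t)) *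
            (toGrp (ι.hom.app U t))⁻¹))
        rw [map_mul, map_inv, ← ι_nat ι h, ← enat, ← ι_nat ι' h]
        rfl }⟩
  have hθ : ∀ (U : Cᵒᵖ) (a : F.obj.obj U) (t : T.P.obj.obj U),
      θ.hom.app U (T.smul a t) = θ.hom.app U t := by
    intro U a t
    change ofGrp (toGrp (ι'.hom.app U (e.hom.hom.hom.app U (T.smul a t))) *
        (toGrp (ι.hom.app U (T.smul a t)))⁻¹) =
      ofGrp (toGrp (ι'.hom.app U (e.hom.hom.hom.app U t)) * (toGrp (ι.hom.app U t))⁻¹)
    rw [e.hom.map_smul, heq, heq', mul_inv_rev, inv_inv, mul_assoc, inv_mul_cancel_left]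
  obtain ⟨g, hg⟩ := exists_section_of_invariant T hTors (uSh G) θ hθ
  refine ⟨g, fun U => ?_⟩
  apply ((isSheafT Q.P) _ (secSieve_mem T hTors.2 U.unop)).isSeparatedFor.ext
  rintro V f ⟨t⟩
  rw [Q.map_smul, c.2 f.op, c'.2 f.op]
  have h1 : G.obj.map f.op (toGrp (g.1 U)) = toGrp (g.1 (op V)) := g.2 f.op
  rw [h1, ← hg (op V) t, ← (himg (op V) _).1 ⟨t, rfl⟩, ← π_mul]
  change π.hom.hom.app (op V) (ofGrp (toGrp (ι'.hom.app (op V) (e.hom.hom.hom.app (op V) t)) *
      (toGrp (ι.hom.app (op V) t))⁻¹ * toGrp (ι.hom.app (op V) t))) = _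
  rw [inv_mul_cancel_right]
  exact (himg' (op V) _).1 ⟨_, rfl⟩

variable (G) in
/-- inversion, as a morphism of sheaves of sets. -/
def invMap : uSh G ⟶ uSh G :=
  ⟨{ app := fun U => ↾fun g => ofGrp (toGrp g)⁻¹
     naturality := by
      intro U V h
      ext g
      change ofGrp (toGrp ((uSh G).obj.map h g))⁻¹ = ofGrp (G.obj.map h (toGrp g)⁻¹)
      rw [map_inv]
      rfl }⟩

theorem invMap_app {U : Cᵒᵖ} (g : (uSh G).obj.obj U) :
    (invMap G).hom.app U g = ofGrp (toGrp g)⁻¹ := rfl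

/-- exactness at `H¹(F)`. -/
theorem pushforward_trivial_iff (hu : ∀ U : Cᵒᵖ, Function.Injective (u.hom.app U))
    (hQ : GSheaf.IsQuotientBy u π) (T : Torsor F) :
    GSheaf.IsPushforwardAlong u T.toGSheaf (GSheaf.trivial G) ↔
      ∃ c : Q.P.obj.sections, GSheaf.IsFibreOver u π c T.toGSheaf := by
  constructor
  · rintro ⟨f, hf⟩
    have hf' : ∀ (U : Cᵒᵖ) (a : F.obj.obj U) (t : T.P.obj.obj U),
        toGrp (f.hom.app U (T.smul a t)) = u.hom.app U a * toGrp (f.hom.app U t) :=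
      fun U a t => hf U a t
    let ι : T.P ⟶ uSh G := f ≫ invMap G
    have hι : ∀ (U : Cᵒᵖ) (t : T.P.obj.obj U),
        toGrp (ι.hom.app U t) = (toGrp (f.hom.app U t))⁻¹ := fun U t => rfl
    have heq : ∀ (U : Cᵒᵖ) (a : F.obj.obj U) (t : T.P.obj.obj U),
        toGrp (ι.hom.app U (T.smul a t)) = toGrp (ι.hom.app U t) * (u.hom.app U a)⁻¹ := by
      intro U a t
      rw [hι, hι, hf', mul_inv_rev]
    have hinj : ∀ U : Cᵒᵖ, Function.Injective (ι.hom.app U) := by
      intro U t t' htt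
      have h1 : (toGrp (f.hom.app U t))⁻¹ = (toGrp (f.hom.app U t'))⁻¹ := htt
      have h2 : toGrp (f.hom.app U t) = toGrp (f.hom.app U t') := inv_injective h1
      obtain ⟨a, ha, -⟩ := T.isTorsor.1 U t t'
      rw [← ha, hf'] at h2
      have h3 : u.hom.app U a = 1 := by
        have := mul_right_cancel (h2.symm.trans (one_mul _).symm)
        exact this
      have h4 : a = 1 := hu U (h3.trans (map_one _).symm)
      rw [← ha, h4, T.one_smul]
    let θ : T.P ⟶ Q.P := ι ≫ π.hom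
    have hθ : ∀ (U : Cᵒᵖ) (a : F.obj.obj U) (t : T.P.obj.obj U),
        θ.hom.app U (T.smul a t) = θ.hom.app U t := by
      intro U a t
      change π.hom.hom.app U (ofGrp (toGrp (ι.hom.app U (T.smul a t)))) =
        π.hom.hom.app U (ofGrp (toGrp (ι.hom.app U t)))
      rw [heq, π_mul_u_inv hQ]
    obtain ⟨c, hc⟩ := exists_section_of_invariant T.toGSheaf T.isTorsor Q.P θ hθ
    have hc' : ∀ (U : Cᵒᵖ) (t : T.P.obj.obj U),
        π.hom.hom.app U (ofGrp (toGrp (ι.hom.app U t))) = c.1 U := fun U t => hc U t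
    refine ⟨c, ι, hinj, ?_, heq⟩
    intro U g
    constructor
    · rintro ⟨t, ht⟩
      rw [← ht, hc']
    · intro hg
      have key := exists_preimage_of_locally T.P (uSh G) ι hinj U (ofGrp g)
        (secSieve T.toGSheaf U.unop) (secSieve_mem T.toGSheaf T.isTorsor.2 U.unop) (by
          rintro V f ⟨t⟩
          have h1 : π.hom.hom.app (op V) (ofGrp (toGrp (ι.hom.app (op V) t))) =
              π.hom.hom.app (op V) (ofGrp (G.obj.map f.op g)) := by
            rw [hc']
            have := π_nat π f.op (ofGrp g)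
            rw [hg, c.2 f.op] at this
            exact this
          obtain ⟨a, ha⟩ := (hQ.1 (op V) _ _).1 h1
          refine ⟨T.smul a⁻¹ t, ?_⟩
          change ofGrp (toGrp (ι.hom.app (op V) (T.smul a⁻¹ t))) = ofGrp (G.obj.map f.op g)
          rw [heq, ha, map_inv, inv_inv])
      obtain ⟨t, ht⟩ := key
      exact ⟨t, ht⟩
  · rintro ⟨c, ι, hinj, himg, heq⟩
    refine ⟨ι ≫ invMap G, ?_⟩
    intro U a t
    change ofGrp (toGrp (ι.hom.app U (T.smul a t)))⁻¹ =
      ofGrp (u.hom.app U a * (toGrp (ι.hom.app U t))⁻¹)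
    rw [heq, mul_inv_rev, inv_inv]

/-- the subfunctor of liftings of a global section of the quotient. -/
def fibreSub (π : GSheaf.trivial G ⟶ Q) (c : Q.P.obj.sections) : Subfunctor (uSh G).obj where
  obj U := {g | π.hom.hom.app U g = c.1 U}
  map := by
    intro U V h g hg
    change π.hom.hom.app V ((uSh G).obj.map h g) = c.1 V
    have hg' : π.hom.hom.app U g = c.1 U := hg
    rw [← π_nat, hg', c.2 h]

theorem fibreSub_isSheaf (c : Q.P.obj.sections) :
    Presieve.IsSheaf J (fibreSub π c).toFunctor := by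
  rw [Subfunctor.isSheaf_iff _ (isSheafT (uSh G))]
  intro U g hg
  change π.hom.hom.app U g = c.1 U
  apply ((isSheafT Q.P) _ hg).isSeparatedFor.ext
  intro V f hf
  have hf' : π.hom.hom.app (op V) ((uSh G).obj.map f.op g) = c.1 (op V) := hf
  rw [π_nat, hf', c.2 f.op]

/-- the sheaf of liftings of a global section of the quotient, with `F` acting by
`f • g = g * u(f)⁻¹`. -/
def fibre (hQ : GSheaf.IsQuotientBy u π) (c : Q.P.obj.sections) : GSheaf F where
  P := ⟨(fibreSub π c).toFunctor, (isSheaf_iff_isSheaf_of_type J _).2 (fibreSub_isSheaf c)⟩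
  smul {U} a t := ⟨ofGrp (toGrp t.1 * (u.hom.app U a)⁻¹), by
    have ht : π.hom.hom.app U (ofGrp (toGrp t.1)) = c.1 U := t.2
    change π.hom.hom.app U (ofGrp (toGrp t.1 * (u.hom.app U a)⁻¹)) = c.1 U
    rw [π_mul_u_inv hQ, ht]⟩
  one_smul {U} t := by
    apply Subtype.ext
    change ofGrp (toGrp t.1 * (u.hom.app U 1)⁻¹) = t.1
    rw [map_one, inv_one, mul_one]
  mul_smul {U} a b t := by
    apply Subtype.ext
    change ofGrp (toGrp t.1 * (u.hom.app U (a * b))⁻¹) =
      ofGrp (toGrp t.1 * (u.hom.app U b)⁻¹ * (u.hom.app U a)⁻¹)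
    rw [map_mul, mul_inv_rev, mul_assoc]
  map_smul {U V} h a t := by
    apply Subtype.ext
    change ofGrp (G.obj.map h (toGrp t.1 * (u.hom.app U a)⁻¹)) =
      ofGrp (G.obj.map h (toGrp t.1) * (u.hom.app V (F.obj.map h a))⁻¹)
    rw [map_mul, map_inv, u_nat]

theorem isFibreOver_fibre (hQ : GSheaf.IsQuotientBy u π) (c : Q.P.obj.sections) :
    GSheaf.IsFibreOver u π c (fibre hQ c) := by
  refine ⟨⟨(fibreSub π c).ι⟩, ?_, ?_, ?_⟩
  · intro U t t' h
    exact Subtype.ext h
  · intro U g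
    constructor
    · rintro ⟨t, ht⟩
      have := t.2
      rw [← ht]
      exact this
    · intro hg
      exact ⟨⟨ofGrp g, hg⟩, rfl⟩
  · intro U a t
    rfl

/-- the boundary of a section of the quotient is well defined. -/
theorem boundary_fibre (hu : ∀ U : Cᵒᵖ, Function.Injective (u.hom.app U))
    (hQ : GSheaf.IsQuotientBy u π) (c : Q.P.obj.sections) :
    (∃ T : Torsor F, GSheaf.IsFibreOver u π c T.toGSheaf) ∧
      (∀ T : GSheaf F, GSheaf.IsFibreOver u π c T → T.IsTorsor) ∧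
      ∀ T T' : GSheaf F, GSheaf.IsFibreOver u π c T →
        GSheaf.IsFibreOver u π c T' → Nonempty (T ≅ T') := by
  refine ⟨⟨⟨fibre hQ c, isTorsor_of_isFibreOver hu hQ c _ (isFibreOver_fibre hQ c)⟩,
    isFibreOver_fibre hQ c⟩, fun T hT => isTorsor_of_isFibreOver hu hQ c T hT, ?_⟩
  intro T T' hT hT'
  refine iso_of_translate c c T T' hT hT' ⟨fun U => ofGrp 1, ?_⟩ ?_
  · intro U V h
    change ofGrp (G.obj.map h 1) = ofGrp 1
    rw [map_one]
  · intro U
    exact Q.one_smul _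

end Quot

end Groth.Agent.H40.NonAbSeq
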