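import Mathlib
import Groth.Agent.H22.ExtendValPoints

/-!
# A rational section of a finite morphism to a normal integral scheme extends to a section
-/

set_option autoImplicit false
set_option backward.isDefEq.respectTransparency.types false
universe u
open CategoryTheory CategoryTheory.Limits AlgebraicGeometry

namespace Groth.Agent.H40

/-- local extension of a rational section of a finite morphism at a point with integrally closed
local ring. -/
theorem exists_extension_of_isFinite_of_isIntegrallyClosed {X Y : Scheme.{u}} [IsIntegral X]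
    (q : Y ⟶ X) [IsFinite q] (U : X.Opens) (hne : (U : Set X).Nonempty)
    (h : U.toScheme ⟶ Y) (hh : h ≫ q = U.ι) (x : X)
    (hx : IsIntegrallyClosed (X.presheaf.stalk x)) :
    ∃ (V' : X.Opens) (_ : x ∈ V') (v : V'.toScheme ⟶ Y), v ≫ q = V'.ι ∧
      X.homOfLE (inf_le_right : U ⊓ V' ≤ V') ≫ v = X.homOfLE (inf_le_left : U ⊓ V' ≤ U) ≫ h := by
  classical
  obtain ⟨W₀, hW₀, hxW₀⟩ : ∃ W₀ : X.Opens, IsAffineOpen W₀ ∧ x ∈ W₀ := by
    obtain ⟨W, hW, hxW, -⟩ := X.isBasis_affineOpens.exists_subset_of_mem_open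
      (Set.mem_univ x) isOpen_univ
    obtain ⟨W', hW', rfl⟩ := hW
    exact ⟨W', hW', hxW⟩
  have hinj : Function.Injective (X.presheaf.germ W₀ x hxW₀) :=
    germ_injective_of_isIntegral X x hxW₀
  have hK : Function.Injective (algebraMap (X.presheaf.stalk x)
      (FractionRing (X.presheaf.stalk x))) := IsFractionRing.injective _ _
  have hne' : ∃ w, w ∈ W₀ ∧ w ∈ U :=
    nonempty_preirreducible_inter W₀.2 U.2 ⟨x, hxW₀⟩ hne
  obtain ⟨ub, hub⟩ := H22.exists_lift_generic_of_nonempty U x hW₀ hxW₀ hinj hne'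
    (FractionRing (X.presheaf.stalk x)) hK
  have hV : IsAffineOpen (q ⁻¹ᵁ W₀) := hW₀.preimage q
  have hrange : Set.range (ub ≫ h) ⊆ ((q ⁻¹ᵁ W₀ : Y.Opens) : Set Y) := by
    rintro _ ⟨pt, rfl⟩
    change q ((ub ≫ h) pt) ∈ W₀
    rw [← Scheme.Hom.comp_apply, Category.assoc, hh, hub, Scheme.Hom.comp_apply]
    have h1 : X.fromSpecStalk x (Spec.map (CommRingCat.ofHom (algebraMap (X.presheaf.stalk x)
        (FractionRing (X.presheaf.stalk x)))) pt) ∈ Set.range (X.fromSpecStalk x) := ⟨_, rfl⟩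
    rw [Scheme.range_fromSpecStalk] at h1
    exact h1.mem_open W₀.2 hxW₀
  obtain ⟨c, hc⟩ := H22.exists_specMap_fromSpec_eq hV (ub ≫ h) hrange
  have hcomp : q.appLE W₀ (q ⁻¹ᵁ W₀) le_rfl ≫ c = X.presheaf.germ W₀ x hxW₀ ≫
      CommRingCat.ofHom (algebraMap (X.presheaf.stalk x)
        (FractionRing (X.presheaf.stalk x))) := by
    apply Spec.map_injective
    rw [← cancel_mono hW₀.fromSpec, Spec.map_comp, Category.assoc,
      IsAffineOpen.SpecMap_appLE_fromSpec q hW₀ hV le_rfl, ← Category.assoc, hc, Category.assoc,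
      hh, hub, Spec.map_comp, Category.assoc]
    congr 1
    rw [← hW₀.fromSpecStalk_eq_fromSpecStalk hxW₀, IsAffineOpen.fromSpecStalk]
  have hfin : (q.appLE W₀ (q ⁻¹ᵁ W₀) le_rfl).hom.Finite := by
    rw [Scheme.Hom.appLE, show (homOfLE (le_refl (q ⁻¹ᵁ W₀))).op = 𝟙 _ from rfl,
      CategoryTheory.Functor.map_id, Category.comp_id]
    exact IsFinite.finite_app q W₀ hW₀
  have hcmem : ∀ t, c.hom t ∈ (algebraMap (X.presheaf.stalk x)
      (FractionRing (X.presheaf.stalk x))).range := by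
    intro t
    obtain ⟨p, hp, hpe⟩ := hfin.to_isIntegral t
    have h2 : IsIntegral (X.presheaf.stalk x) (c.hom t) := by
      refine ⟨p.map (X.presheaf.germ W₀ x hxW₀).hom, hp.map _, ?_⟩
      rw [Polynomial.eval₂_map]
      have e : (algebraMap (X.presheaf.stalk x) (FractionRing (X.presheaf.stalk x))).comp
          (X.presheaf.germ W₀ x hxW₀).hom = c.hom.comp (q.appLE W₀ (q ⁻¹ᵁ W₀) le_rfl).hom := by
        have := congr(($hcomp).hom)
        exact this.symm
      rw [e, ← Polynomial.hom_eval₂, hpe, map_zero]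
    obtain ⟨y, hy⟩ := IsIntegrallyClosed.algebraMap_eq_of_integral h2
    exact ⟨y, hy⟩
  obtain ⟨ρ, hρ⟩ := H22.exists_ringHom_of_forall_mem_range hK c.hom hcmem
  obtain ⟨V', hxV', v, hv, hvh, -⟩ := H22.exists_extension_of_chart q U h hh x W₀ hW₀ hxW₀ hinj
    (FractionRing (X.presheaf.stalk x)) hK ub hub (q ⁻¹ᵁ W₀) hV le_rfl (CommRingCat.ofHom ρ) (by
      rw [← hc]
      congr 2
      ext t
      exact congr($hρ t))
  exact ⟨V', hxV', v, hv, hvh⟩

/-- a rational section of a finite morphism to a normal integral scheme extends to a section. -/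
theorem exists_section_of_isFinite_of_normal {X Y : Scheme.{u}} [IsIntegral X] (q : Y ⟶ X)
    [IsFinite q] (hX : ∀ x : X, IsIntegrallyClosed (X.presheaf.stalk x))
    (V : X.Opens) (hV : (V : Set X).Nonempty) (g : V.toScheme ⟶ Y) (hg : g ≫ q = V.ι) :
    ∃ s : X ⟶ Y, s ≫ q = 𝟙 X ∧ V.ι ≫ s = g := by
  classical
  have hVd : Dense (V : Set X) := V.2.dense hV
  have hg' : g ≫ q = V.ι ≫ 𝟙 X := by rw [hg, Category.comp_id]
  have step : ∀ y : X, ∃ (Uy : X.Opens) (hle : V ≤ Uy) (k : Uy.toScheme ⟶ Y), y ∈ Uy ∧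
      k ≫ q = Uy.ι ≫ 𝟙 X ∧ X.homOfLE hle ≫ k = g := by
    intro y
    obtain ⟨Vy, hyVy, v, hv, hvg⟩ :=
      exists_extension_of_isFinite_of_isIntegrallyClosed q V hV g hg y (hX y)
    obtain ⟨k, hk1, hk2⟩ := H22.exists_glue_sup V Vy g v hvg.symm
    refine ⟨V ⊔ Vy, le_sup_left, k, Or.inr hyVy, ?_, hk1⟩
    apply H22.hom_ext_sup
    · rw [← Category.assoc, hk1, hg, Category.comp_id, Scheme.homOfLE_ι]
    · rw [← Category.assoc, hk2, hv, Category.comp_id, Scheme.homOfLE_ι]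
  choose Uj hle k hk0 hk1 hk2 using step
  obtain ⟨G, hG⟩ := H22.exists_glue_iSup Uj k (fun i j =>
    H22.homOfLE_comp_eq_of_dense (𝟙 X) q V hVd g (Uj i) (Uj j) (hle i) (hle j) (k i) (k j) (hk1 i)
      (hk1 j) (hk2 i) (hk2 j))
  have htop : (⨆ j, Uj j) = ⊤ := by
    rw [eq_top_iff]
    rintro y -
    exact le_iSup Uj y (hk0 y)
  have hGq : G ≫ q = (⨆ j, Uj j).ι := by
    apply H22.hom_ext_iSup
    intro j
    rw [← Category.assoc, hG j, hk1 j, Category.comp_id, Scheme.homOfLE_ι]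
  have hiso : IsIso (⨆ j, Uj j).ι := by
    rw [htop]
    exact ⟨X.topIso.inv, X.topIso.hom_inv_id, X.topIso.inv_hom_id⟩
  refine ⟨inv (⨆ j, Uj j).ι ≫ G, ?_, ?_⟩
  · rw [Category.assoc, hGq, IsIso.inv_hom_id]
  · obtain ⟨y⟩ : Nonempty X := ⟨hV.some⟩
    have e : V.ι = X.homOfLE ((hle y).trans (le_iSup Uj y)) ≫ (⨆ j, Uj j).ι := by
      rw [Scheme.homOfLE_ι]
    rw [e, Category.assoc, IsIso.hom_inv_id_assoc,
      ← Scheme.homOfLE_homOfLE X (hle y) (le_iSup Uj y), Category.assoc, hG y, hk2 y]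

end Groth.Agent.H40
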