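import Groth.Agent.H40.DescOpen

/-!
# fpqc-locally open subfunctors are open subschemes
-/

set_option autoImplicit false
set_option backward.isDefEq.respectTransparency.types false
universe u
open CategoryTheory Limits AlgebraicGeometry

namespace Groth.Agent.H40

/-- a subfunctor of `X` which satisfies fpqc descent and which is an open subscheme on each member
of an fpqc covering family is an open subscheme. -/
theorem open_core {X : Scheme.{u}} (F : ∀ ⦃T : Scheme.{u}⦄, (T ⟶ X) → Prop)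
    (hF1 : ∀ ⦃T T' : Scheme.{u}⦄ (h : T' ⟶ T) (g : T ⟶ X), F g → F (h ≫ g))
    (hFp : ∀ ⦃T : Scheme.{u}⦄ (g : T ⟶ X) (Rc : Presieve T), Rc ∈ Scheme.fpqcPrecoverage T →
      (∀ ⦃Z : Scheme.{u}⦄ (a : Z ⟶ T), Rc a → F (a ≫ g)) → F g)
    {ι : Type u} {Xi : ι → Scheme.{u}} (p : ∀ i, Xi i ⟶ X)
    (hp : Presieve.ofArrows Xi p ∈ Scheme.fpqcPrecoverage X)
    (W : ∀ i, (Xi i).Opens)
    (hW : ∀ (i : ι) ⦃T' : Scheme.{u}⦄ (x : T' ⟶ Xi i), F (x ≫ p i) ↔ Set.range x ⊆ W i) :
    ∃ Z : X.Opens, ∀ ⦃T' : Scheme.{u}⦄ (g : T' ⟶ X), F g ↔ Set.range g ⊆ Z := by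
  let E : PreZeroHypercover.{u} X := ⟨ι, Xi, p⟩
  have hE2 := (Scheme.presieve₀_mem_precoverage_iff E).mp hp.2
  have hsurj : ∀ x : X, ∃ i, x ∈ Set.range (p i) := hE2.1
  set Z₀ : Set X := ⋃ i, p i '' (W i) with hZ₀
  have key : ∀ i, (p i) ⁻¹' Z₀ = W i := by
    intro i
    apply Set.Subset.antisymm
    · intro y hy
      obtain ⟨j, y', hy'W, hy'⟩ := Set.mem_iUnion.mp hy
      obtain ⟨z, hz1, hz2⟩ := Scheme.Pullback.exists_preimage_pullback (f := p i) (g := p j) y y'
        hy'.symm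
      let Ω : (pullback (p i) (p j)).Opens := (pullback.snd (p i) (p j)) ⁻¹ᵁ (W j)
      have h1 : F ((Ω.ι ≫ pullback.snd (p i) (p j)) ≫ p j) := by
        rw [hW]
        rintro _ ⟨w, rfl⟩
        exact w.2
      rw [Category.assoc, ← pullback.condition, ← Category.assoc, hW] at h1
      have hzΩ : z ∈ Ω := by
        change pullback.snd (p i) (p j) z ∈ W j
        rw [hz2]; exact hy'W
      have := h1 ⟨⟨z, hzΩ⟩, rfl⟩
      rw [Scheme.Hom.comp_apply] at this
      change pullback.fst (p i) (p j) z ∈ W i at this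
      rwa [hz1] at this
    · intro y hy
      exact Set.mem_iUnion.mpr ⟨i, y, hy, rfl⟩
  have hopen : IsOpen Z₀ := isOpen_of_fpqc_family p hp Z₀ (fun i => by
    rw [key]; exact (W i).2)
  refine ⟨⟨Z₀, hopen⟩, fun T' g => ?_⟩
  constructor
  · intro hg
    rintro _ ⟨x, rfl⟩
    obtain ⟨i, y, hy⟩ := hsurj (g x)
    obtain ⟨z, hz1, hz2⟩ := Scheme.Pullback.exists_preimage_pullback (f := g) (g := p i) x y
      hy.symm
    have h1 : F (pullback.fst g (p i) ≫ g) := hF1 _ _ hg
    rw [pullback.condition, hW] at h1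
    have : y ∈ W i := by
      rw [← hz2]
      exact h1 ⟨z, rfl⟩
    change g x ∈ Z₀
    rw [← hy]
    exact Set.mem_iUnion.mpr ⟨i, y, this, rfl⟩
  · intro hg
    have hcov : Presieve.ofArrows (fun i => pullback g (p i)) (fun i => pullback.fst g (p i)) ∈
        Scheme.fpqcPrecoverage T' :=
      Scheme.fpqcPrecoverage.mem_coverings_of_isPullback p hp g _
        (fun i => pullback.snd g (p i)) (fun i => IsPullback.of_hasPullback g (p i))
    apply hFp g _ hcov
    rintro Z' a ⟨i⟩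
    rw [pullback.condition, hW]
    rintro _ ⟨z, rfl⟩
    have h1 : p i (pullback.snd g (p i) z) ∈ Z₀ := by
      rw [← Scheme.Hom.comp_apply, ← pullback.condition, Scheme.Hom.comp_apply]
      exact hg ⟨_, rfl⟩
    have : pullback.snd g (p i) z ∈ (p i) ⁻¹' Z₀ := h1
    rwa [key] at this

end Groth.Agent.H40
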