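import Mathlib.CategoryTheory.Sites.Hypercover.Subcanonical
import Mathlib.AlgebraicGeometry.Sites.Fpqc
import Groth.Prelude.Def_DescFam

/-!
# Pullback of descent data for schemes along a refinement of families is fully faithful

`Groth.Agent.H40.PullDD.full_faithful`: if every member `V j` of the family `b` admits an fpqc
covering whose members map to members of the family `a` over `S`, then `Desc.pullDDFam` from descent
data relative to `b` to descent data relative to `a` (along any morphism of families `a → b`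
over `S`) is full and faithful.
-/

set_option autoImplicit false
set_option backward.isDefEq.respectTransparency false
set_option backward.isDefEq.respectTransparency.types false

universe u
open CategoryTheory CategoryTheory.Limits AlgebraicGeometry

namespace Groth.Agent.H40.PullDD

open Desc

variable {S : Scheme.{u}} {ι κ : Type u} {U : ι → Scheme.{u}} {V : κ → Scheme.{u}}
  {a : ∀ i, U i ⟶ S} {b : ∀ j, V j ⟶ S} {α : ι → κ} {g : ∀ i, U i ⟶ V (α i)}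
  (w : ∀ i, g i ≫ b (α i) = a i ≫ 𝟙 S)

theorem φ_eq (D : SchDDFam b) {T : Scheme.{u}} {j : κ} (x₀ x₁ : T ⟶ V j) (e : x₀ = x₁)
    (h : x₀ ≫ b j = x₁ ≫ b j) (p : Lifts (D.obj j) x₀) : (D.φ x₀ x₁ h p).1 = p.1 := by
  subst e
  rw [D.φ_self]

theorem φ_symm (D : SchDDFam b) {T : Scheme.{u}} {j j' : κ} (x₀ : T ⟶ V j) (x₁ : T ⟶ V j')
    (h : x₀ ≫ b j = x₁ ≫ b j') (p : Lifts (D.obj j) x₀) :
    D.φ x₁ x₀ h.symm (D.φ x₀ x₁ h p) = p := by
  rw [D.φ_comp, D.φ_self]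

include w in
theorem compat {T : Scheme.{u}} {j : κ} {i : ι} (x₀ : T ⟶ V j) (x₁ : T ⟶ U i)
    (h : x₀ ≫ b j = x₁ ≫ a i) : x₀ ≫ b j = (x₁ ≫ g i) ≫ b (α i) := by
  rw [Category.assoc, w, Category.comp_id, h]

/-- The pullback functor. -/
noncomputable abbrev F : SchDDFam b ⥤ SchDDFam a :=
  pullDDFam (f := b) (f' := a) (α := α) (p := 𝟙 S) (p' := g) w

variable {D D' : SchDDFam b}

/-- Transport of points through a morphism of pulled back descent data. -/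
noncomputable def Θ (c : (F w).obj D ⟶ (F w).obj D') {T : Scheme.{u}} {j : κ} {i : ι}
    (x₀ : T ⟶ V j) (x₁ : T ⟶ U i) (h : x₀ ≫ b j = x₁ ≫ a i) (p : Lifts (D.obj j) x₀) :
    Lifts (D'.obj j) x₀ :=
  D'.φ (x₁ ≫ g i) x₀ (compat w x₀ x₁ h).symm
    (liftsPullbackEquiv (D'.obj (α i)) (g i) x₁
      (c.push ((liftsPullbackEquiv (D.obj (α i)) (g i) x₁).symm
        (D.φ x₀ (x₁ ≫ g i) (compat w x₀ x₁ h) p))))

theorem pull_φ (D : SchDDFam b) {T : Scheme.{u}} {i i' : ι} (x₁ : T ⟶ U i) (x₁' : T ⟶ U i')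
    (hh : x₁ ≫ a i = x₁' ≫ a i') (z : Lifts (((F w).obj D).obj i) x₁) :
    ((F w).obj D).φ x₁ x₁' hh z =
      (liftsPullbackEquiv (D.obj (α i')) (g i') x₁').symm
        (D.φ (x₁ ≫ g i) (x₁' ≫ g i') (pull_compat w x₁ x₁' hh)
          (liftsPullbackEquiv (D.obj (α i)) (g i) x₁ z)) := rfl

theorem Θ_indep (c : (F w).obj D ⟶ (F w).obj D') {T : Scheme.{u}} {j : κ} {i i' : ι}
    (x₀ : T ⟶ V j) (x₁ : T ⟶ U i) (x₁' : T ⟶ U i') (h : x₀ ≫ b j = x₁ ≫ a i)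
    (h' : x₀ ≫ b j = x₁' ≫ a i') (p : Lifts (D.obj j) x₀) :
    Θ w c x₀ x₁ h p = Θ w c x₀ x₁' h' p := by
  have hh : x₁ ≫ a i = x₁' ≫ a i' := h.symm.trans h'
  set z := (liftsPullbackEquiv (D.obj (α i)) (g i) x₁).symm
        (D.φ x₀ (x₁ ≫ g i) (compat w x₀ x₁ h) p) with hz
  have hc := c.comm x₁ x₁' hh z (c.push z) rfl
  have hc' : ((F w).obj D').φ x₁ x₁' hh (c.push z) = c.push (((F w).obj D).φ x₁ x₁' hh z) :=
    Subtype.ext hc
  rw [pull_φ, pull_φ] at hc'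
  have hz' : liftsPullbackEquiv (D.obj (α i)) (g i) x₁ z = D.φ x₀ (x₁ ≫ g i) (compat w x₀ x₁ h) p := by
    rw [hz, Equiv.apply_symm_apply]
  rw [hz', D.φ_comp] at hc'
  have hc'' := congrArg (liftsPullbackEquiv (D'.obj (α i')) (g i') x₁') hc'
  rw [Equiv.apply_symm_apply] at hc''
  unfold Θ
  rw [← hc'', D'.φ_comp]

theorem Θ_indep' (c : (F w).obj D ⟶ (F w).obj D') {T : Scheme.{u}} {j : κ} {i i' : ι}
    (x₀ x₀' : T ⟶ V j) (e : x₀ = x₀') (x₁ : T ⟶ U i) (x₁' : T ⟶ U i') (h : x₀ ≫ b j = x₁ ≫ a i)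
    (h' : x₀' ≫ b j = x₁' ≫ a i') (p : Lifts (D.obj j) x₀) (p' : Lifts (D.obj j) x₀')
    (hp : p.1 = p'.1) :
    (Θ w c x₀ x₁ h p).1 = (Θ w c x₀' x₁' h' p').1 := by
  subst e
  have : p = p' := Subtype.ext hp
  subst this
  rw [Θ_indep]

theorem Θ_natural (c : (F w).obj D ⟶ (F w).obj D') {T T' : Scheme.{u}} (t : T' ⟶ T) {j : κ} {i : ι}
    (x₀ : T ⟶ V j) (x₁ : T ⟶ U i) (h : x₀ ≫ b j = x₁ ≫ a i) (p : Lifts (D.obj j) x₀)
    (h' : (t ≫ x₀) ≫ b j = (t ≫ x₁) ≫ a i) (p' : Lifts (D.obj j) (t ≫ x₀)) (hp : p'.1 = t ≫ p.1) :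
    (Θ w c (t ≫ x₀) (t ≫ x₁) h' p').1 = t ≫ (Θ w c x₀ x₁ h p).1 := by
  unfold Θ
  apply D'.φ_natural t (x₁ ≫ g i) x₀ _ ((t ≫ x₁) ≫ g i) (t ≫ x₀) (Category.assoc _ _ _).symm rfl
  have h1 : (D.φ (t ≫ x₀) ((t ≫ x₁) ≫ g i) (compat w (t ≫ x₀) (t ≫ x₁) h') p').1 =
      t ≫ (D.φ x₀ (x₁ ≫ g i) (compat w x₀ x₁ h) p).1 :=
    D.φ_natural t x₀ (x₁ ≫ g i) _ (t ≫ x₀) ((t ≫ x₁) ≫ g i) rfl (Category.assoc _ _ _).symm _ _ _ hp
  simp only [liftsPullbackEquiv, Equiv.coe_fn_mk, Equiv.coe_fn_symm_mk, SchDDFam.Hom.push]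
  rw [← Category.assoc, ← Category.assoc]
  congr 2
  apply pullback.hom_ext
  · refine (pullback.lift_fst _ _ _).trans (h1.trans ?_)
    rw [Category.assoc, pullback.lift_fst]
  · refine (pullback.lift_snd _ _ _).trans ?_
    rw [Category.assoc, pullback.lift_snd]

theorem φ_Θ (c : (F w).obj D ⟶ (F w).obj D') {T : Scheme.{u}} {j j' : κ} {i : ι}
    (x₀ : T ⟶ V j) (x₀' : T ⟶ V j') (x₁ : T ⟶ U i) (h : x₀ ≫ b j = x₁ ≫ a i)
    (h₀ : x₀ ≫ b j = x₀' ≫ b j') (h' : x₀' ≫ b j' = x₁ ≫ a i) (p : Lifts (D.obj j) x₀) :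
    D'.φ x₀ x₀' h₀ (Θ w c x₀ x₁ h p) = Θ w c x₀' x₁ h' (D.φ x₀ x₀' h₀ p) := by
  unfold Θ
  rw [D'.φ_comp, D.φ_comp]

theorem comp_compat {T T' : Scheme.{u}} (t : T' ⟶ T) {j : κ} {i : ι} {x₀ : T ⟶ V j} {x₁ : T ⟶ U i}
    (h : x₀ ≫ b j = x₁ ≫ a i) : (t ≫ x₀) ≫ b j = (t ≫ x₁) ≫ a i := by
  rw [Category.assoc, Category.assoc, h]

/-- the glued morphism `D.obj j ⟶ D'.obj j`. -/
theorem exists_hom (c : (F w).obj D ⟶ (F w).obj D') (j : κ)
    (𝒲 : Scheme.fpqcPrecoverage.ZeroHypercover.{u} (V j)) (β : 𝒲.I₀ → ι)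
    (y : ∀ k, 𝒲.X k ⟶ U (β k)) (hy : ∀ k, y k ≫ a (β k) = 𝒲.f k ≫ b j) :
    ∃ m : (D.obj j).left ⟶ (D'.obj j).left,
      ∀ {T : Scheme.{u}} {i : ι} (x₀ : T ⟶ V j) (x₁ : T ⟶ U i) (h : x₀ ≫ b j = x₁ ≫ a i)
        (p : Lifts (D.obj j) x₀), p.1 ≫ m = (Θ w c x₀ x₁ h p).1 := by
  let 𝒬 := 𝒲.pullback₁ (D.obj j).hom
  have hk : ∀ k : 𝒲.I₀, (pullback.fst (D.obj j).hom (𝒲.f k) ≫ (D.obj j).hom) ≫ b j =
      (pullback.snd (D.obj j).hom (𝒲.f k) ≫ y k) ≫ a (β k) := by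
    intro k
    rw [pullback.condition, Category.assoc, Category.assoc, hy]
  let mk : ∀ k : 𝒲.I₀, pullback (D.obj j).hom (𝒲.f k) ⟶ (D'.obj j).left := fun k =>
    (Θ w c (pullback.fst (D.obj j).hom (𝒲.f k) ≫ (D.obj j).hom)
      (pullback.snd (D.obj j).hom (𝒲.f k) ≫ y k) (hk k) ⟨pullback.fst _ _, rfl⟩).1
  have hglue : ∀ k l : 𝒲.I₀, pullback.fst (𝒬.f k) (𝒬.f l) ≫ mk k =
      pullback.snd (𝒬.f k) (𝒬.f l) ≫ mk l := by
    intro k l
    have hcond : pullback.fst (𝒬.f k) (𝒬.f l) ≫ pullback.fst (D.obj j).hom (𝒲.f k) =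
        pullback.snd (𝒬.f k) (𝒬.f l) ≫ pullback.fst (D.obj j).hom (𝒲.f l) := pullback.condition
    have e1 := Θ_natural w c (pullback.fst (𝒬.f k) (𝒬.f l))
      (pullback.fst (D.obj j).hom (𝒲.f k) ≫ (D.obj j).hom)
      (pullback.snd (D.obj j).hom (𝒲.f k) ≫ y k) (hk k) ⟨pullback.fst _ _, rfl⟩
      (comp_compat _ (hk k))
      ⟨pullback.fst (𝒬.f k) (𝒬.f l) ≫ pullback.fst (D.obj j).hom (𝒲.f k), by
        rw [Category.assoc]⟩ rfl
    have e2 := Θ_natural w c (pullback.snd (𝒬.f k) (𝒬.f l))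
      (pullback.fst (D.obj j).hom (𝒲.f l) ≫ (D.obj j).hom)
      (pullback.snd (D.obj j).hom (𝒲.f l) ≫ y l) (hk l) ⟨pullback.fst _ _, rfl⟩
      (comp_compat _ (hk l))
      ⟨pullback.snd (𝒬.f k) (𝒬.f l) ≫ pullback.fst (D.obj j).hom (𝒲.f l), by
        rw [Category.assoc]⟩ rfl
    refine e1.symm.trans (Eq.trans ?_ e2)
    apply Θ_indep'
    · rw [← Category.assoc, hcond, Category.assoc]
    · exact hcond
  let m : (D.obj j).left ⟶ (D'.obj j).left := 𝒬.glueMorphisms mk hglue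
  have hm : ∀ k, pullback.fst (D.obj j).hom (𝒲.f k) ≫ m = mk k :=
    fun k => 𝒬.f_glueMorphisms mk hglue k
  refine ⟨m, ?_⟩
  intro T i x₀ x₁ h p
  let 𝒵 := 𝒬.pullback₁ p.1
  apply 𝒵.hom_ext
  intro k
  change pullback.fst p.1 (𝒬.f k) ≫ p.1 ≫ m = pullback.fst p.1 (𝒬.f k) ≫ (Θ w c x₀ x₁ h p).1
  have hcond : pullback.fst p.1 (𝒬.f k) ≫ p.1 =
      pullback.snd p.1 (𝒬.f k) ≫ pullback.fst (D.obj j).hom (𝒲.f k) := pullback.condition
  have hp2 : p.1 ≫ (D.obj j).hom = x₀ := p.2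
  have e1 := Θ_natural w c (pullback.snd p.1 (𝒬.f k))
    (pullback.fst (D.obj j).hom (𝒲.f k) ≫ (D.obj j).hom)
    (pullback.snd (D.obj j).hom (𝒲.f k) ≫ y k) (hk k) ⟨pullback.fst _ _, rfl⟩
    (comp_compat _ (hk k))
    ⟨pullback.snd p.1 (𝒬.f k) ≫ pullback.fst (D.obj j).hom (𝒲.f k), by
      rw [Category.assoc]⟩ rfl
  have e2 := Θ_natural w c (pullback.fst p.1 (𝒬.f k)) x₀ x₁ h p
    (comp_compat _ h)
    ⟨pullback.fst p.1 (𝒬.f k) ≫ p.1, by rw [Category.assoc, hp2]⟩ rfl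
  rw [← Category.assoc, hcond, Category.assoc, hm]
  refine e1.symm.trans (Eq.trans ?_ e2)
  apply Θ_indep'
  · rw [← Category.assoc, ← hcond, Category.assoc, hp2]
  · exact hcond.symm

variable (hloc : ∀ j : κ, ∃ (𝒲 : Scheme.fpqcPrecoverage.ZeroHypercover.{u} (V j)) (β : 𝒲.I₀ → ι)
      (y : ∀ k, 𝒲.X k ⟶ U (β k)), ∀ k, y k ≫ a (β k) = 𝒲.f k ≫ b j)

include hloc in
theorem full : (F w).Full := by
  choose 𝒲 β y hy using hloc
  refine ⟨fun {D D'} c => ?_⟩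
  choose m hm using fun j => exists_hom w c j (𝒲 j) (β j) (y j) (hy j)
  have hk : ∀ (j : κ) (k : (𝒲 j).I₀),
      (pullback.fst (D.obj j).hom ((𝒲 j).f k) ≫ (D.obj j).hom) ≫ b j =
      (pullback.snd (D.obj j).hom ((𝒲 j).f k) ≫ y j k) ≫ a (β j k) := by
    intro j k
    rw [pullback.condition, Category.assoc, Category.assoc, hy]
  have hover : ∀ j, m j ≫ (D'.obj j).hom = (D.obj j).hom := by
    intro j
    apply ((𝒲 j).pullback₁ (D.obj j).hom).hom_ext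
    intro k
    change pullback.fst (D.obj j).hom ((𝒲 j).f k) ≫ m j ≫ (D'.obj j).hom =
      pullback.fst (D.obj j).hom ((𝒲 j).f k) ≫ (D.obj j).hom
    have e := hm j (pullback.fst (D.obj j).hom ((𝒲 j).f k) ≫ (D.obj j).hom)
      (pullback.snd (D.obj j).hom ((𝒲 j).f k) ≫ y j k) (hk j k) ⟨pullback.fst _ _, rfl⟩
    have e' : pullback.fst (D.obj j).hom ((𝒲 j).f k) ≫ m j = _ := e
    rw [← Category.assoc, e']
    exact (Θ w c _ _ (hk j k) ⟨pullback.fst _ _, rfl⟩).2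
  have hcomm : ∀ ⦃T : Scheme.{u}⦄ ⦃j j' : κ⦄ (x₀ : T ⟶ V j) (x₀' : T ⟶ V j')
      (h : x₀ ≫ b j = x₀' ≫ b j') (p : Lifts (D.obj j) x₀) (q : Lifts (D'.obj j) x₀),
      q.1 = p.1 ≫ m j → (D'.φ x₀ x₀' h q).1 = (D.φ x₀ x₀' h p).1 ≫ m j' := by
    intro T j j' x₀ x₀' h p q hq
    apply ((𝒲 j).pullback₁ x₀).hom_ext
    intro k
    change pullback.fst x₀ ((𝒲 j).f k) ≫ (D'.φ x₀ x₀' h q).1 =
      pullback.fst x₀ ((𝒲 j).f k) ≫ (D.φ x₀ x₀' h p).1 ≫ m j'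
    set r := pullback.fst x₀ ((𝒲 j).f k) with hr
    have hx : (r ≫ x₀) ≫ b j = (pullback.snd x₀ ((𝒲 j).f k) ≫ y j k) ≫ a (β j k) := by
      rw [hr, pullback.condition, Category.assoc, Category.assoc, hy]
    have hx' : (r ≫ x₀') ≫ b j' = (pullback.snd x₀ ((𝒲 j).f k) ≫ y j k) ≫ a (β j k) := by
      rw [← hx, Category.assoc, Category.assoc, h]
    have hrr : (r ≫ x₀) ≫ b j = (r ≫ x₀') ≫ b j' := by
      rw [Category.assoc, Category.assoc, h]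
    let pr : Lifts (D.obj j) (r ≫ x₀) := ⟨r ≫ p.1, by rw [Category.assoc, p.2]⟩
    let qr : Lifts (D'.obj j) (r ≫ x₀) := ⟨r ≫ q.1, by rw [Category.assoc, q.2]⟩
    have n1 : (D'.φ (r ≫ x₀) (r ≫ x₀') hrr qr).1 = r ≫ (D'.φ x₀ x₀' h q).1 :=
      D'.φ_natural r x₀ x₀' h (r ≫ x₀) (r ≫ x₀') rfl rfl hrr q qr rfl
    have n2 : (D.φ (r ≫ x₀) (r ≫ x₀') hrr pr).1 = r ≫ (D.φ x₀ x₀' h p).1 :=
      D.φ_natural r x₀ x₀' h (r ≫ x₀) (r ≫ x₀') rfl rfl hrr p pr rfl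
    have hqr : qr = Θ w c (r ≫ x₀) (pullback.snd x₀ ((𝒲 j).f k) ≫ y j k) hx pr := by
      apply Subtype.ext
      change r ≫ q.1 = _
      rw [hq, ← Category.assoc]
      exact hm j _ _ hx pr
    rw [← n1, ← Category.assoc, ← n2, hqr, φ_Θ w c (r ≫ x₀) (r ≫ x₀') _ hx hrr hx']
    exact (hm j' _ _ hx' _).symm
  let f : D ⟶ D' := ⟨fun j => Over.homMk (m j) (hover j), fun T j j' x₀ x₀' h p q hq => by
    exact hcomm x₀ x₀' h p q hq⟩
  refine ⟨f, ?_⟩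
  apply SchDDFam.hom_ext
  funext i
  ext
  have hcw : (c.hom i).left ≫ pullback.snd (D'.obj (α i)).hom (g i) =
      pullback.snd (D.obj (α i)).hom (g i) := Over.w (c.hom i)
  have e1 : (((F w).map f).hom i).left ≫ pullback.fst (D'.obj (α i)).hom (g i) =
      pullback.fst (D.obj (α i)).hom (g i) ≫ m (α i) := by
    exact pullback.lift_fst _ _ _
  have e2 : (((F w).map f).hom i).left ≫ pullback.snd (D'.obj (α i)).hom (g i) =
      pullback.snd (D.obj (α i)).hom (g i) := by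
    exact (pullback.lift_snd _ _ _).trans (Category.comp_id _)
  apply pullback.hom_ext
  · refine e1.trans ?_
    have hx : (pullback.fst (D.obj (α i)).hom (g i) ≫ (D.obj (α i)).hom) ≫ b (α i) =
        pullback.snd (D.obj (α i)).hom (g i) ≫ a i := by
      rw [pullback.condition, Category.assoc, w, Category.comp_id]
    have e := hm (α i) (pullback.fst (D.obj (α i)).hom (g i) ≫ (D.obj (α i)).hom)
      (pullback.snd (D.obj (α i)).hom (g i)) hx ⟨pullback.fst _ _, rfl⟩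
    have e' : pullback.fst (D.obj (α i)).hom (g i) ≫ m (α i) = _ := e
    rw [e']
    unfold Θ
    rw [φ_eq D' _ _ pullback.condition.symm]
    simp only [liftsPullbackEquiv, Equiv.coe_fn_mk, Equiv.coe_fn_symm_mk, SchDDFam.Hom.push]
    have hid : pullback.lift (D.φ (pullback.fst (D.obj (α i)).hom (g i) ≫ (D.obj (α i)).hom)
        (pullback.snd (D.obj (α i)).hom (g i) ≫ g i) (compat w _ _ hx) ⟨pullback.fst _ _, rfl⟩).1
        (pullback.snd (D.obj (α i)).hom (g i))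
        (D.φ (pullback.fst (D.obj (α i)).hom (g i) ≫ (D.obj (α i)).hom)
        (pullback.snd (D.obj (α i)).hom (g i) ≫ g i) (compat w _ _ hx) ⟨pullback.fst _ _, rfl⟩).2 =
        𝟙 _ := by
      apply pullback.hom_ext
      · rw [pullback.lift_fst, Category.id_comp, φ_eq D _ _ pullback.condition]
      · rw [pullback.lift_snd, Category.id_comp]
    rw [hid, Category.id_comp]
  · exact e2.trans hcw.symm

include hloc in
theorem faithful : (F w).Faithful := by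
  choose 𝒲 β y hy using hloc
  refine ⟨fun {D D'} a₁ a₂ h12 => ?_⟩
  apply SchDDFam.hom_ext
  funext j
  ext
  apply ((𝒲 j).pullback₁ (D.obj j).hom).hom_ext
  intro k
  change pullback.fst (D.obj j).hom ((𝒲 j).f k) ≫ (a₁.hom j).left =
    pullback.fst (D.obj j).hom ((𝒲 j).f k) ≫ (a₂.hom j).left
  have hx : (pullback.fst (D.obj j).hom ((𝒲 j).f k) ≫ (D.obj j).hom) ≫ b j =
      (pullback.snd (D.obj j).hom ((𝒲 j).f k) ≫ y j k) ≫ a (β j k) := by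
    rw [pullback.condition, Category.assoc, Category.assoc, hy]
  obtain ⟨x₀, hx₀⟩ : ∃ x₀, x₀ = pullback.fst (D.obj j).hom ((𝒲 j).f k) ≫ (D.obj j).hom := ⟨_, rfl⟩
  obtain ⟨x₁, hx₁⟩ : ∃ x₁, x₁ = pullback.snd (D.obj j).hom ((𝒲 j).f k) ≫ y j k := ⟨_, rfl⟩
  obtain ⟨i, hi⟩ : ∃ i, i = β j k := ⟨_, rfl⟩
  subst hi
  rw [← hx₀, ← hx₁] at hx
  let p : Lifts (D.obj j) x₀ := ⟨pullback.fst _ _, hx₀.symm⟩
  have hx' := compat w x₀ x₁ hx
  have c1 := a₁.comm x₀ (x₁ ≫ g _) hx' p (a₁.push p) rfl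
  have c2 := a₂.comm x₀ (x₁ ≫ g _) hx' p (a₂.push p) rfl
  have key : ∀ q : Lifts (D.obj (α (β j k))) (x₁ ≫ g (β j k)),
      q.1 ≫ (a₁.hom (α (β j k))).left = q.1 ≫ (a₂.hom (α (β j k))).left := by
    intro q
    have h1 : (((F w).map a₁).hom (β j k)).left ≫ pullback.fst (D'.obj (α (β j k))).hom (g (β j k)) =
        pullback.fst (D.obj (α (β j k))).hom (g (β j k)) ≫ (a₁.hom (α (β j k))).left :=
      pullback.lift_fst _ _ _
    have h2 : (((F w).map a₂).hom (β j k)).left ≫ pullback.fst (D'.obj (α (β j k))).hom (g (β j k)) =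
        pullback.fst (D.obj (α (β j k))).hom (g (β j k)) ≫ (a₂.hom (α (β j k))).left :=
      pullback.lift_fst _ _ _
    have h3 : pullback.fst (D.obj (α (β j k))).hom (g (β j k)) ≫ (a₁.hom (α (β j k))).left =
        pullback.fst (D.obj (α (β j k))).hom (g (β j k)) ≫ (a₂.hom (α (β j k))).left := by
      rw [← h1, ← h2, h12]
    have h4 : pullback.lift q.1 x₁ q.2 ≫ pullback.fst (D.obj (α (β j k))).hom (g (β j k)) = q.1 :=
      pullback.lift_fst _ _ _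
    rw [← h4, Category.assoc, Category.assoc, h3]
  have e : D'.φ x₀ (x₁ ≫ g _) hx' (a₁.push p) = D'.φ x₀ (x₁ ≫ g _) hx' (a₂.push p) :=
    Subtype.ext (c1.trans ((key _).trans c2.symm))
  exact congrArg Subtype.val ((D'.φ x₀ (x₁ ≫ g _) hx').injective e)

include hloc in
theorem full_faithful : (F w).Full ∧ (F w).Faithful := ⟨full w hloc, faithful w hloc⟩

end Groth.Agent.H40.PullDD
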