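import Groth.Agent.H40.RedStruct

/-!
# Uniqueness of the push forward of a torsor along a homomorphism
-/

set_option autoImplicit false
set_option backward.isDefEq.respectTransparency.types false
universe u
open CategoryTheory CategoryTheory.Limits MonoidalCategory CartesianMonoidalCategory MonObj GrpObj
  AlgebraicGeometry

namespace Groth.Agent.H40

variable {S : Scheme.{u}}

/-- local triviality of the projection `T ⊗ E ⟶ T`. -/
lemma isLocallyTrivialFor_fst {K : Precoverage Scheme.{u}} [K.IsStableUnderBaseChange]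
    (T : Over S) {E : Over S} (hloc : NonAbH1.IsLocallyTrivialFor K E) :
    NonAbH1.IsLocallyTrivialFor K (Over.mk (fst T E).left : Over T.left) := by
  have hpbT : IsPullback (snd T E).left (fst T E).left (toUnit E).left (toUnit T).left := by
    have : IsPullback (snd T E) (fst T E) (toUnit E) (toUnit T) := by
      apply isPullback_of_points (toUnit_unique _ _)
      · intro T' a b _
        exact ⟨lift b a, lift_snd _ _, lift_fst _ _⟩
      · intro T' p p' h1 h2
        apply CartesianMonoidalCategory.hom_ext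
        · exact h2
        · exact h1
    exact this.map (Over.forget S)
  exact isLocallyTrivialFor_of_isPullback hpbT (isLocallyTrivialFor_toUnit hloc)

section
variable {J J' J'' P P' P'' : Over S} [GrpObj J] [GrpObj J'] [GrpObj J'']

/-- semi-linear equivariance on points. -/
lemma psmul_comp_of_semilinear (u : J ⟶ J') (a : AlgGrp.Action J P) (a' : AlgGrp.Action J' P')
    (q' : P ⟶ P') (hq' : a.act ≫ q' = lift (fst J P ≫ u) (snd J P ≫ q') ≫ a'.act)
    {T : Over S} (g : T ⟶ J) (p : T ⟶ P) :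
    psmul a g p ≫ q' = psmul a' (g ≫ u) (p ≫ q') := by
  rw [psmul_def, psmul_def, Category.assoc, hq', ← Category.assoc, comp_lift, ← Category.assoc,
    ← Category.assoc, lift_fst, lift_snd]

lemma semilinear_of_psmul (u : J ⟶ J') (a : AlgGrp.Action J P) (a' : AlgGrp.Action J' P')
    (q' : P ⟶ P')
    (h : ∀ {T : Over S} (g : T ⟶ J) (p : T ⟶ P), psmul a g p ≫ q' = psmul a' (g ≫ u) (p ≫ q')) :
    a.act ≫ q' = lift (fst J P ≫ u) (snd J P ≫ q') ≫ a'.act := by
  have := h (fst J P) (snd J P)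
  rw [psmul_def, psmul_def, lift_fst_snd, Category.id_comp] at this
  exact this

theorem existsUnique_hom_of_pushforward
    (u : J ⟶ J') [IsMonHom u] (v : J' ⟶ J'') [IsMonHom v]
    (a : AlgGrp.Action J P) (a' : AlgGrp.Action J' P') (a'' : AlgGrp.Action J'' P'')
    (hP : NonAbH1.IsTorsorFor Scheme.fpqcPrecoverage a)
    (hP' : NonAbH1.IsPseudoTorsorSch a')
    (q' : P ⟶ P') (hq' : a.act ≫ q' = lift (fst J P ≫ u) (snd J P ≫ q') ≫ a'.act)
    (q'' : P ⟶ P'') (hq'' : a.act ≫ q'' = lift (fst J P ≫ u ≫ v) (snd J P ≫ q'') ≫ a''.act) :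
    ∃! r : P' ⟶ P'', a'.act ≫ r = lift (fst J' P' ≫ v) (snd J' P' ≫ r) ≫ a''.act ∧
      q' ≫ r = q'' := by
  obtain ⟨hps, hloc⟩ := hP
  have hpb := isPullback_toUnit_of_isPseudoTorsor a hps
  have hpb' := isPullback_toUnit_of_isPseudoTorsor a' hP'
  have E' : ∀ {T : Over S} (g : T ⟶ J) (p : T ⟶ P),
      psmul a g p ≫ q' = psmul a' (g ≫ u) (p ≫ q') :=
    fun g p => psmul_comp_of_semilinear u a a' q' hq' g p
  have E'' : ∀ {T : Over S} (g : T ⟶ J) (p : T ⟶ P),
      psmul a g p ≫ q'' = psmul a'' (g ≫ u ≫ v) (p ≫ q'') :=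
    fun g p => psmul_comp_of_semilinear (u ≫ v) a a'' q'' hq'' g p
  have huniq' : ∀ {T : Over S} (g g' : T ⟶ J') (x : T ⟶ P'),
      psmul a' g x = psmul a' g' x → g = g' :=
    fun g g' x h => eq_of_psmul_eq_of_isPullback a' (toUnit P') hpb' g g' x h
  -- the difference map
  obtain ⟨δ, hδ⟩ := exists_psmul_of_isPullback a' (toUnit P') hpb' (fst P' P) (snd P' P ≫ q')
    (toUnit_unique _ _)
  -- the candidate on `P' ⊗ P`
  set m : P' ⊗ P ⟶ P'' := psmul a'' (δ ≫ v) (snd P' P ≫ q'') with hm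
  have hlocT := isLocallyTrivialFor_fst P' hloc
  have hepi : Epi (fst P' P) := epi_of_locallyTrivial _ hlocT
  -- value of `δ` on points
  have hδ' : ∀ {T : Over S} (p' : T ⟶ P') (p : T ⟶ P) (d : T ⟶ J'),
      psmul a' d (p ≫ q') = p' → lift p' p ≫ δ = d := by
    intro T p' p d hd
    apply huniq' _ _ (p ≫ q')
    have := congr(lift p' p ≫ $hδ)
    rw [comp_psmul, lift_fst, ← Category.assoc, lift_snd] at this
    rw [this, hd]
  have hm' : ∀ {T : Over S} (p' : T ⟶ P') (p : T ⟶ P) (d : T ⟶ J'),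
      psmul a' d (p ≫ q') = p' → lift p' p ≫ m = psmul a'' (d ≫ v) (p ≫ q'') := by
    intro T p' p d hd
    rw [hm, comp_psmul, ← Category.assoc, hδ' p' p d hd, ← Category.assoc, lift_snd]
  obtain ⟨r, hr, hru⟩ := existsUnique_desc_over_of_locallyTrivial (fst P' P) hlocT m (by
    intro Z z₁ z₂ h12
    obtain ⟨j, hj⟩ := exists_psmul_of_isPullback a (toUnit P) hpb (z₂ ≫ snd P' P) (z₁ ≫ snd P' P)
      (toUnit_unique _ _)
    have e1 : z₁ = lift (z₁ ≫ fst P' P) (z₁ ≫ snd P' P) := eq_lift_fst_snd z₁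
    have e2 : z₂ = lift (z₁ ≫ fst P' P) (z₂ ≫ snd P' P) := by
      rw [h12]
      exact eq_lift_fst_snd z₂
    have hd1 : psmul a' (z₁ ≫ δ) ((z₁ ≫ snd P' P) ≫ q') = z₁ ≫ fst P' P := by
      have := congr(z₁ ≫ $hδ)
      rw [comp_psmul, ← Category.assoc] at this
      exact this
    have hd2 : psmul a' ((z₁ ≫ δ) * (j ≫ u)⁻¹) ((z₂ ≫ snd P' P) ≫ q') = z₁ ≫ fst P' P := by
      rw [← hj, E', mul_psmul, inv_psmul_psmul, hd1]
    rw [e1, hm' _ _ _ hd1, e2, hm' _ _ _ hd2, ← hj, E'', MonObj.mul_comp, mul_psmul,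
      GrpObj.inv_comp]
    simp only [Category.assoc]
    rw [inv_psmul_psmul])
  -- key formula for `r`
  have hkey : ∀ {T : Over S} (p' : T ⟶ P') (p : T ⟶ P) (d : T ⟶ J'),
      psmul a' d (p ≫ q') = p' → p' ≫ r = psmul a'' (d ≫ v) (p ≫ q'') := by
    intro T p' p d hd
    rw [← hm' p' p d hd, ← hr, ← Category.assoc, lift_fst]
  have hA : q' ≫ r = q'' := by
    rw [hkey q' (𝟙 P) 1 (by rw [one_psmul, Category.id_comp]), MonObj.one_comp, one_psmul,
      Category.id_comp]
  have hB : a'.act ≫ r = lift (fst J' P' ≫ v) (snd J' P' ≫ r) ≫ a''.act := by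
    apply semilinear_of_psmul v a' a'' r
    intro T g p'
    have hlocT' := isLocallyTrivialFor_fst T hloc
    have hepi' : Epi (fst T P) := epi_of_locallyTrivial _ hlocT'
    obtain ⟨d, hd⟩ := exists_psmul_of_isPullback a' (toUnit P') hpb' (fst T P ≫ p')
      (snd T P ≫ q') (toUnit_unique _ _)
    have h1 := hkey (fst T P ≫ p') (snd T P) d hd
    have h2 := hkey (psmul a' (fst T P ≫ g) (fst T P ≫ p')) (snd T P) ((fst T P ≫ g) * d)
      (by rw [mul_psmul, hd])
    have : fst T P ≫ (psmul a' g p' ≫ r) = fst T P ≫ psmul a'' (g ≫ v) (p' ≫ r) :=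
      calc fst T P ≫ (psmul a' g p' ≫ r)
          = psmul a' (fst T P ≫ g) (fst T P ≫ p') ≫ r := by rw [← Category.assoc, comp_psmul]
        _ = psmul a'' (((fst T P ≫ g) * d) ≫ v) (snd T P ≫ q'') := h2
        _ = psmul a'' ((fst T P ≫ g) ≫ v) (psmul a'' (d ≫ v) (snd T P ≫ q'')) := by
            rw [MonObj.mul_comp, mul_psmul]
        _ = psmul a'' ((fst T P ≫ g) ≫ v) ((fst T P ≫ p') ≫ r) := by rw [h1]
        _ = fst T P ≫ psmul a'' (g ≫ v) (p' ≫ r) := by
            rw [comp_psmul, Category.assoc, Category.assoc]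
    exact (cancel_epi _).1 this
  refine ⟨r, ⟨hB, hA⟩, ?_⟩
  rintro r₁ ⟨hB₁, hA₁⟩
  apply hru
  have E₁ : ∀ {T : Over S} (g : T ⟶ J') (p' : T ⟶ P'),
      psmul a' g p' ≫ r₁ = psmul a'' (g ≫ v) (p' ≫ r₁) :=
    fun g p' => psmul_comp_of_semilinear v a' a'' r₁ hB₁ g p'
  rw [← hδ, E₁, Category.assoc, hA₁]

end

end Groth.Agent.H40
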