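import Groth.Agent.H40.CoverGen
import Groth.Agent.H40.QuotShDesc
import Groth.Agent.H40.ThirdIso
import Groth.Agent.H53.EtaleFppfSource
import Groth.Agent.H21.UnramFibre

/-!
# Finiteness properties of a quotient `G ⟶ G/G'` (SGA 3 VI_B 9.2 (xii), (xiii))
-/

set_option autoImplicit false
universe u
open CategoryTheory CategoryTheory.Limits MonoidalCategory CartesianMonoidalCategory MonObj GrpObj
  AlgebraicGeometry

namespace Groth.Agent.H40.QuotFP

open Groth.Agent.H40

section General

/-- if `f` is surjective and `f ≫ g` is quasi-compact then `g` is quasi-compact. -/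
lemma quasiCompact_of_surjective_comp {X Y Z : Scheme.{u}} (f : X ⟶ Y) (g : Y ⟶ Z) [Surjective f]
    [QuasiCompact (f ≫ g)] : QuasiCompact g := by
  refine ⟨fun U hU hUc => ?_⟩
  have e1 : g ⁻¹' U = f '' (f ⁻¹' (g ⁻¹' U)) := (Set.image_preimage_eq _ f.surjective).symm
  have e2 : f ⁻¹' (g ⁻¹' U) = (f ≫ g) ⁻¹' U := by
    ext x
    simp
  rw [e1, e2]
  exact ((inferInstance : QuasiCompact (f ≫ g)).isCompact_preimage U hU hUc).image f.continuous

/-- a formally unramified morphism locally of finite presentation to the spectrum of a field is
étale. -/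
lemma etale_of_formallyUnramified_of_isField {K : CommRingCat.{u}} (hK : IsField K) {X : Scheme.{u}}
    (g : X ⟶ Spec K) [LocallyOfFinitePresentation g] [FormallyUnramified g] : Etale g := by
  rw [HasRingHomProperty.iff_of_source_openCover (P := @Etale) X.affineCover]
  intro i
  have h1 : ((X.affineCover.f i ≫ g).appTop).hom.FormallyUnramified :=
    (HasRingHomProperty.iff_of_source_openCover (P := @FormallyUnramified) X.affineCover).1
      inferInstance i
  have h2 : ((X.affineCover.f i ≫ g).appTop).hom.FinitePresentation :=
    (HasRingHomProperty.iff_of_source_openCover (P := @LocallyOfFinitePresentation)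
      X.affineCover).1 inferInstance i
  have hF : IsField Γ(Spec K, ⊤) :=
    (Scheme.ΓSpecIso K).commRingCatIsoToRingEquiv.toMulEquiv.isField hK
  let _ := hF.toField
  generalize ((X.affineCover.f i ≫ g).appTop).hom = φ at h1 h2
  algebraize [φ]
  have : Algebra.FormallyEtale Γ(Spec K, ⊤) Γ(X.affineCover.X i, ⊤) :=
    Algebra.FormallyEtale.of_formallyUnramified_of_field _ _
  exact ⟨this, inferInstance⟩

/-- being formally unramified is fppf local on the source, for morphisms locally of finite
presentation. -/
theorem formallyUnramified_of_fppf_comp {X Y T : Scheme.{u}} (f : X ⟶ Y) (q : Y ⟶ T)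
    [Surjective f] [Flat f] [LocallyOfFinitePresentation f] [LocallyOfFiniteType q]
    [FormallyUnramified (f ≫ q)] [LocallyOfFinitePresentation (f ≫ q)] :
    FormallyUnramified q := by
  apply Groth.Agent.H21.UnramFibre.formallyUnramified_of_fiberToSpecResidueField
  intro t
  have sq1 := IsPullback.of_hasPullback f (q.fiberι t)
  have sq2 : IsPullback (q.fiberι t) (q.fiberToSpecResidueField t) q
      (T.fromSpecResidueField t) := IsPullback.of_hasPullback q (T.fromSpecResidueField t)
  have sq := sq1.paste_vert sq2
  have hf'1 : Surjective (pullback.snd f (q.fiberι t)) := inferInstance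
  have hf'2 : Flat (pullback.snd f (q.fiberι t)) := inferInstance
  have hf'3 : LocallyOfFinitePresentation (pullback.snd f (q.fiberι t)) := inferInstance
  have h1 : FormallyUnramified (pullback.snd f (q.fiberι t) ≫ q.fiberToSpecResidueField t) :=
    MorphismProperty.of_isPullback (P := @FormallyUnramified) sq inferInstance
  have h2 : LocallyOfFinitePresentation
      (pullback.snd f (q.fiberι t) ≫ q.fiberToSpecResidueField t) :=
    MorphismProperty.of_isPullback (P := @LocallyOfFinitePresentation) sq inferInstance
  have h3 : Etale (pullback.snd f (q.fiberι t) ≫ q.fiberToSpecResidueField t) :=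
    etale_of_formallyUnramified_of_isField (Field.toIsField _) _
  have h4 : Etale (q.fiberToSpecResidueField t) :=
    Groth.Agent.H53.etale_of_fppf_comp (pullback.snd f (q.fiberι t)) _
  infer_instance

end General

end Groth.Agent.H40.QuotFP
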