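import Groth.Agent.H40.TorsCart
import Groth.Agent.H40.PrincBundle

/-!
# Descending properties of equivariant morphisms to the quotients of principal bundles
-/

set_option autoImplicit false
set_option backward.isDefEq.respectTransparency.types false
universe u
open CategoryTheory CategoryTheory.Limits MonoidalCategory CartesianMonoidalCategory MonObj GrpObj
  AlgebraicGeometry

namespace Groth.Agent.H40

variable {S : Scheme.{u}} {G X Y X' Y' : Over S} [GrpObj G]

/-- a property which descends along fpqc morphisms passes from an equivariant morphism of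
principal bundles to the induced morphism of the quotients. -/
theorem prop_quot_of_equivariant_of_torsors (P : MorphismProperty Scheme.{u})
    (hP : P.DescendsAlong (@Surjective ⊓ @Flat ⊓ @QuasiCompact : MorphismProperty Scheme.{u}))
    (a : AlgGrp.Action G X) (q : X ⟶ Y) (hsq : IsPullback a.act (snd G X) q q)
    [Flat q.left] [Surjective q.left] [QuasiCompact q.left]
    (a' : AlgGrp.Action G X') (q' : X' ⟶ Y') (hsq' : IsPullback a'.act (snd G X') q' q')
    [Flat q'.left] [Surjective q'.left] [QuasiCompact q'.left]
    (f : X ⟶ X') (hf : AlgGrp.Action.IsEquivariant a a' f) (fbar : Y ⟶ Y')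
    (hw : f ≫ q' = q ≫ fbar) (hPf : P f.left) : P fbar.left := by
  have hpb := isPullback_left_of_equivariant_of_torsors a q hsq (isLocallyTrivialFor_of_fpqc q.left)
    a' q' hsq' f hf fbar hw
  exact MorphismProperty.DescendsAlong.of_isPullback (P := P)
    (Q := (@Surjective ⊓ @Flat ⊓ @QuasiCompact : MorphismProperty Scheme.{u})) hpb
    ⟨⟨inferInstance, inferInstance⟩, inferInstance⟩ hPf

/-- quasi-compactness of a morphism of `S`-schemes with quasi-compact source and quasi-separated
target. -/
lemma quasiCompact_left_of_over {X Y : Over S} (q : X ⟶ Y) [QuasiCompact X.hom]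
    [QuasiSeparated Y.hom] : QuasiCompact q.left := by
  have : QuasiCompact (q.left ≫ Y.hom) := by
    rw [Over.w q]
    infer_instance
  exact QuasiCompact.of_comp q.left Y.hom

instance quasiCompact_tensorObj_hom {X Y : Over S} [QuasiCompact X.hom] [QuasiCompact Y.hom] :
    QuasiCompact (X ⊗ Y).hom := by
  change QuasiCompact (pullback.fst X.hom Y.hom ≫ X.hom)
  infer_instance

/-- `f ▷ U` is equivariant for the diagonal actions. -/
lemma isEquivariant_whiskerRight_prod {U : Over S} (a : AlgGrp.Action G X) (a' : AlgGrp.Action G X')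
    (b : AlgGrp.Action G U) (f : X ⟶ X') (hf : AlgGrp.Action.IsEquivariant a a' f) :
    AlgGrp.Action.IsEquivariant (a.prod b) (a'.prod b) (f ▷ U) := by
  change (a.prod b).act ≫ (f ▷ U) = (G ◁ (f ▷ U)) ≫ (a'.prod b).act
  apply AlgGrp.Action.hom_ext_lift₂
  intro T g p
  have hp : p = lift (p ≫ fst X U) (p ≫ snd X U) := eq_lift_fst_snd p
  have hf' : a.act ≫ f = (G ◁ f) ≫ a'.act := hf
  rw [hp, ← Category.assoc, AlgGrp.Action.lift_prod_act, ← Category.assoc, lift_whiskerLeft,
    lift_whiskerRight, lift_whiskerRight, AlgGrp.Action.lift_prod_act, Category.assoc, hf',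
    ← Category.assoc, lift_whiskerLeft]

/-- `(f ▷ U).left` is a base change of `f.left`. -/
lemma prop_whiskerRight_left (P : MorphismProperty Scheme.{u}) [P.IsStableUnderBaseChange]
    {U : Over S} (f : X ⟶ X') (hPf : P f.left) : P (f ▷ U).left := by
  have hpb : IsPullback (f ▷ U).left (fst X U).left (fst X' U).left f.left :=
    (isPullback_whiskerRight_fst f U).map (Over.forget S)
  exact P.of_isPullback hpb.flip hPf

end Groth.Agent.H40

namespace Groth.Agent.H40

variable {S : Scheme.{u}} {X X' : Over S}

/-- `(U ◁ f).left` is a base change of `f.left`. -/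
lemma prop_whiskerLeft_left (P : MorphismProperty Scheme.{u}) [P.IsStableUnderBaseChange]
    {U : Over S} (f : X ⟶ X') (hPf : P f.left) : P (U ◁ f).left := by
  have hpb : IsPullback (U ◁ f).left (snd U X).left (snd U X').left f.left :=
    (isPullback_whiskerLeft_snd f U).map (Over.forget S)
  exact P.of_isPullback hpb.flip hPf

end Groth.Agent.H40
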