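import Groth.Agent.H40.QuotFP
import Groth.Agent.H40.TorsProp
import Groth.Agent.H1.Descent

/-!
# Finiteness properties of a quotient `G ⟶ G/G'`: the group-specific lemmas
-/

set_option autoImplicit false
universe u
open CategoryTheory CategoryTheory.Limits MonoidalCategory CartesianMonoidalCategory MonObj GrpObj
  AlgebraicGeometry

namespace Groth.Agent.H40.QuotFP

open Groth.Agent.H40

variable {S : Scheme.{u}} {G G' G'' : Over S} [GrpObj G] [GrpObj G'] (u : G' ⟶ G) (p : G ⟶ G'')
  (hsq : IsPullback ((G ◁ u) ≫ μ[G]) (fst G G') p p)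

include hsq in
/-- descent of a property from `G' ⟶ S` to `p`. -/
lemma prop_p (hc : IsFpqcCov p) (P : MorphismProperty Scheme.{u}) [IsZariskiLocalAtTarget P]
    [P.IsStableUnderBaseChange]
    (hP : P.DescendsAlong (@Surjective ⊓ @Flat ⊓ @QuasiCompact : MorphismProperty Scheme.{u}))
    (h : P G'.hom) : P p.left := by
  obtain ⟨Z, q, r, hr, hq⟩ := hc
  refine Groth.Agent.H40.QuotShLoc.prop_of_isKernelPair_of_local_sections (fst G G')
    ((G ◁ u) ≫ μ[G]) P hP p hsq.flip hq ?_ ?_
  · rintro Z' g ⟨⟩
    exact ⟨r, hr⟩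
  · change P (pullback.fst G.hom G'.hom)
    exact P.pullback_fst _ _ h

include hsq in
/-- `G'` is the fibre of `p` over the unit section. -/
lemma isPullback_kernel [Mono u] : IsPullback u (toUnit G') p (η[G] ≫ p) := by
  have hm : ∀ {T : Over S} (z : T ⟶ G ⊗ G'),
      z ≫ (G ◁ u) ≫ μ[G] = (z ≫ fst G G') * ((z ≫ snd G G') ≫ u) := by
    intro T z
    have := lift_whiskerLeft_mul u (z ≫ fst G G') (z ≫ snd G G')
    rwa [← eq_lift_fst_snd] at this
  apply isPullback_of_points
  · have h1 := hm (lift (toUnit G' ≫ η[G]) (𝟙 G'))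
    rw [lift_fst, lift_snd, Category.id_comp] at h1
    have h2 : (toUnit G' ≫ η[G]) = (1 : G' ⟶ G) := by rw [Hom.one_def]
    rw [h2, _root_.one_mul] at h1
    have e1 : u ≫ p = (lift (1 : G' ⟶ G) (𝟙 G') ≫ ((G ◁ u) ≫ μ[G])) ≫ p := by rw [h1]
    rw [e1, Category.assoc, hsq.w, ← Category.assoc, lift_fst, Hom.one_def, Category.assoc]
  · intro T g t hgt
    have h2 : t ≫ η[G] = (1 : T ⟶ G) := by rw [Hom.one_def, toUnit_unique t (toUnit T)]
    have hw : g ≫ p = (1 : T ⟶ G) ≫ p := by rw [hgt, ← Category.assoc, h2]
    refine ⟨hsq.lift g 1 hw ≫ snd G G', ?_, toUnit_unique _ _⟩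
    have h1 := hm (hsq.lift g 1 hw)
    rw [hsq.lift_fst, hsq.lift_snd, _root_.one_mul] at h1
    exact h1.symm
  · intro T a b hab _
    exact (cancel_mono u).1 hab

include hsq in
/-- a property of `p` stable under base change holds for `G' ⟶ S`. -/
lemma prop_hom_of_p [Mono u] (P : MorphismProperty Scheme.{u}) [P.IsStableUnderBaseChange]
    (h : P p.left) : P G'.hom := by
  have sq := (isPullback_kernel u p hsq).map (Over.forget S)
  have h1 : P (toUnit G').left := P.of_isPullback sq h
  have h2 : (toUnit G').left = G'.hom := by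
    have := Over.w (toUnit G')
    simpa using this
  rwa [h2] at h1

instance quasiSeparated_tensorObj_hom {X Y : Over S} [QuasiSeparated X.hom] [QuasiSeparated Y.hom] :
    QuasiSeparated (X ⊗ Y).hom := by
  change QuasiSeparated (pullback.fst X.hom Y.hom ≫ X.hom)
  infer_instance

include hsq in
/-- the quotient of a quasi-separated group by a quasi-compact subgroup is quasi-separated. -/
lemma quasiSeparated_quot [Flat p.left] [Surjective p.left] [QuasiCompact p.left]
    [QuasiCompact G.hom] [QuasiCompact G'.hom] [QuasiSeparated G.hom] :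
    QuasiSeparated G''.hom := by
  have sq : IsPullback (lift ((G ◁ u) ≫ μ[G]) (fst G G')) (fst G G' ≫ p) (p ⊗ₘ p)
      (lift (𝟙 G'') (𝟙 G'')) := by
    apply isPullback_of_points
    · apply CartesianMonoidalCategory.hom_ext
      · have := hsq.w
        simp only [Category.assoc] at this
        simp only [Category.assoc, tensorHom_fst, lift_fst_assoc, lift_fst, Category.comp_id]
        exact this
      · simp only [Category.assoc, tensorHom_snd, lift_snd_assoc, lift_snd, Category.comp_id]
    · intro T x y hxy
      have h1 : (x ≫ fst G G) ≫ p = y := by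
        have := congr($hxy ≫ fst G'' G'')
        simpa using this
      have h2 : (x ≫ snd G G) ≫ p = y := by
        have := congr($hxy ≫ snd G'' G'')
        simpa using this
      refine ⟨hsq.lift (x ≫ fst G G) (x ≫ snd G G) (by rw [h1, h2]), ?_, ?_⟩
      · apply CartesianMonoidalCategory.hom_ext
        · rw [Category.assoc, lift_fst, hsq.lift_fst]
        · rw [Category.assoc, lift_snd, hsq.lift_snd]
      · rw [← Category.assoc, hsq.lift_snd, h2]
    · intro T a b h1 _
      apply hsq.hom_ext
      · have := congr($h1 ≫ fst G G)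
        simpa using this
      · have := congr($h1 ≫ snd G G)
        simpa using this
  have sqL := sq.map (Over.forget S)
  have hd : (lift (𝟙 G'') (𝟙 G'')).left = pullback.diagonal G''.hom := by
    apply pullback.hom_ext
    · have h := congr(($(lift_fst (𝟙 G'') (𝟙 G''))).left)
      rw [Over.comp_left] at h
      rw [pullback.diagonal_fst]
      exact h
    · have h := congr(($(lift_snd (𝟙 G'') (𝟙 G''))).left)
      rw [Over.comp_left] at h
      rw [pullback.diagonal_snd]
      exact h
  have hcov : (@Surjective ⊓ @Flat ⊓ @QuasiCompact : MorphismProperty Scheme.{u}) (p ⊗ₘ p).left := by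
    have e : (p ⊗ₘ p) = (p ▷ G) ≫ (G'' ◁ p) := MonoidalCategory.tensorHom_def p p
    rw [e, Over.comp_left]
    refine ⟨⟨?_, ?_⟩, ?_⟩
    · have h1 : Surjective (p ▷ G).left := prop_whiskerRight_left @Surjective p inferInstance
      have h2 : Surjective (G'' ◁ p).left := prop_whiskerLeft_left @Surjective p inferInstance
      exact MorphismProperty.comp_mem _ _ _ h1 h2
    · have h1 : Flat (p ▷ G).left := prop_whiskerRight_left @Flat p inferInstance
      have h2 : Flat (G'' ◁ p).left := prop_whiskerLeft_left @Flat p inferInstance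
      exact MorphismProperty.comp_mem _ _ _ h1 h2
    · have h1 : QuasiCompact (p ▷ G).left := prop_whiskerRight_left @QuasiCompact p inferInstance
      have h2 : QuasiCompact (G'' ◁ p).left := prop_whiskerLeft_left @QuasiCompact p inferInstance
      exact MorphismProperty.comp_mem _ _ _ h1 h2
  have hqc : QuasiCompact (lift ((G ◁ u) ≫ μ[G]) (fst G G')).left := quasiCompact_left_of_over _
  have := MorphismProperty.DescendsAlong.of_isPullback (P := @QuasiCompact)
    (Q := (@Surjective ⊓ @Flat ⊓ @QuasiCompact : MorphismProperty Scheme.{u}))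
    (self := Groth.Agent.H1.quasiCompact_descendsAlong_fpqc) sqL hcov hqc
  have this' : QuasiCompact (lift (𝟙 G'') (𝟙 G'')).left := this
  rw [hd] at this'
  exact ⟨this'⟩

end Groth.Agent.H40.QuotFP
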