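import Groth.Agent.H40.CoverGen
import Groth.Prelude.Def_AlgGrp

set_option autoImplicit false
universe u

open CategoryTheory MonoidalCategory CartesianMonoidalCategory MonObj AlgebraicGeometry

namespace Groth.Agent.H40

variable {S : Scheme.{u}}

/-- the multiplication of `G` descends to the quotient by a normal subgroup. -/
lemma exists_mul_of_fpqcQuotient {G H Q : Over S} [GrpObj G] [GrpObj H] (i : H ⟶ G) [IsMonHom i]
    (hn : AlgGrp.IsNormalHom i) (q : G ⟶ Q) (hq : IsFpqcCov q)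
    (sq : IsPullback (fst G H) ((G ◁ i) ≫ μ[G]) q q) :
    ∃ m : Q ⊗ Q ⟶ Q, (q ⊗ₘ q) ≫ m = μ[G] ≫ q := by
  refine (hq.tensorHom hq).exists_desc (μ[G] ≫ q) ?_
  intro Z z₁ z₂ h12
  have ha : (z₁ ≫ fst G G) ≫ q = (z₂ ≫ fst G G) ≫ q := by
    have := congrArg (· ≫ fst Q Q) h12
    simpa using this
  have hb : (z₁ ≫ snd G G) ≫ q = (z₂ ≫ snd G G) ≫ q := by
    have := congrArg (· ≫ snd Q Q) h12
    simpa using this
  obtain ⟨h, hh⟩ := exists_mul_of_comp_eq i q sq _ _ ha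
  obtain ⟨h', hh'⟩ := exists_mul_of_comp_eq i q sq _ _ hb
  obtain ⟨n', hn'⟩ := hn Z (z₁ ≫ snd G G)⁻¹ h
  have e1 : ∀ z : Z ⟶ G ⊗ G, z ≫ μ[G] = (z ≫ fst G G) * (z ≫ snd G G) := by
    intro z
    rw [Hom.mul_def]
    congr 1
    apply CartesianMonoidalCategory.hom_ext <;> simp
  have e2 : (z₂ ≫ fst G G) * (z₂ ≫ snd G G) =
      ((z₁ ≫ fst G G) * (z₁ ≫ snd G G)) * ((n' * h') ≫ i) := by
    rw [hh, hh', MonObj.mul_comp, ← hn']
    group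
  rw [← Category.assoc, ← Category.assoc, e1, e1, e2, mul_comp_quot i q sq]

/-- the inverse of `G` descends to the quotient by a normal subgroup. -/
lemma exists_inv_of_fpqcQuotient {G H Q : Over S} [GrpObj G] [GrpObj H] (i : H ⟶ G) [IsMonHom i]
    (hn : AlgGrp.IsNormalHom i) (q : G ⟶ Q) (hq : IsFpqcCov q)
    (sq : IsPullback (fst G H) ((G ◁ i) ≫ μ[G]) q q) :
    ∃ iv : Q ⟶ Q, q ≫ iv = ι[G] ≫ q := by
  refine hq.exists_desc (ι[G] ≫ q) ?_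
  intro Z g₁ g₂ h12
  obtain ⟨h, hh⟩ := exists_mul_of_comp_eq i q sq _ _ h12
  obtain ⟨n', hn'⟩ := hn Z g₁ h⁻¹
  have e2 : g₂⁻¹ = g₁⁻¹ * (n' ≫ i) := by
    rw [hh, ← hn', GrpObj.inv_comp]
    group
  rw [← Category.assoc, ← Category.assoc, ← Hom.inv_def, ← Hom.inv_def, e2, mul_comp_quot i q sq]

/-- the quotient of a group scheme by a normal subgroup is a group scheme and the quotient map
is a homomorphism. -/
theorem exists_grpObj_of_fpqcQuotient {G H Q : Over S} [hG : GrpObj G] [GrpObj H] (i : H ⟶ G)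
    [IsMonHom i] (hn : AlgGrp.IsNormalHom i) (q : G ⟶ Q) (hq : IsFpqcCov q)
    (sq : IsPullback (fst G H) ((G ◁ i) ≫ μ[G]) q q) :
    ∃ s : GrpObj Q, @IsMonHom (Over S) _ _ G Q hG.toMonObj s.toMonObj q := by
  obtain ⟨m, hm⟩ := exists_mul_of_fpqcQuotient i hn q hq sq
  obtain ⟨iv, hiv⟩ := exists_inv_of_fpqcQuotient i hn q hq sq
  have hepi := hq.epi
  have hepiL : Epi (𝟙_ (Over S) ◁ q) := (hq.whiskerLeft _).epi
  have hepiR : Epi (q ▷ 𝟙_ (Over S)) := (hq.whiskerRight _).epi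
  have hepi3 : Epi ((q ⊗ₘ q) ⊗ₘ q) := ((hq.tensorHom hq).tensorHom hq).epi
  have hqm : ∀ {A B : Over S} (a : A ⟶ G) (b : B ⟶ G),
      ((a ≫ q) ⊗ₘ (b ≫ q)) ≫ m = (a ⊗ₘ b) ≫ μ[G] ≫ q := by
    intro A B a b
    rw [← hm, ← Category.assoc, MonoidalCategory.tensorHom_comp_tensorHom]
  have ax1 : (η[G] ≫ q) ▷ Q ≫ m = (λ_ Q).hom := by
    rw [← cancel_epi (𝟙_ (Over S) ◁ q)]
    have h1 : 𝟙_ (Over S) ◁ q ≫ (η[G] ≫ q) ▷ Q = (η[G] ≫ q) ⊗ₘ (𝟙 G ≫ q) := by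
      rw [Category.id_comp, MonoidalCategory.tensorHom_def']
    rw [← Category.assoc, h1, hqm, leftUnitor_naturality, tensorHom_id, ← Category.assoc,
      MonObj.one_mul]
  have ax2 : Q ◁ (η[G] ≫ q) ≫ m = (ρ_ Q).hom := by
    rw [← cancel_epi (q ▷ 𝟙_ (Over S))]
    have h1 : q ▷ 𝟙_ (Over S) ≫ Q ◁ (η[G] ≫ q) = (𝟙 G ≫ q) ⊗ₘ (η[G] ≫ q) := by
      rw [Category.id_comp, MonoidalCategory.tensorHom_def]
    rw [← Category.assoc, h1, hqm, rightUnitor_naturality, id_tensorHom, ← Category.assoc,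
      MonObj.mul_one]
  have ax3 : (m ▷ Q) ≫ m = (α_ Q Q Q).hom ≫ (Q ◁ m) ≫ m := by
    rw [← cancel_epi ((q ⊗ₘ q) ⊗ₘ q)]
    have h1 : ((q ⊗ₘ q) ⊗ₘ q) ≫ m ▷ Q = (μ[G] ≫ q) ⊗ₘ (𝟙 G ≫ q) := by
      rw [Category.id_comp, ← tensorHom_id, MonoidalCategory.tensorHom_comp_tensorHom, hm,
        Category.comp_id]
    have h2 : ((q ⊗ₘ q) ⊗ₘ q) ≫ (α_ Q Q Q).hom ≫ Q ◁ m =
        (α_ G G G).hom ≫ ((𝟙 G ≫ q) ⊗ₘ (μ[G] ≫ q)) := by
      rw [← Category.assoc, associator_naturality, Category.assoc, ← id_tensorHom,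
        MonoidalCategory.tensorHom_comp_tensorHom, hm, Category.comp_id, Category.id_comp]
    have L : ((q ⊗ₘ q) ⊗ₘ q) ≫ m ▷ Q ≫ m = (μ[G] ▷ G) ≫ μ[G] ≫ q := by
      rw [← Category.assoc, h1, hqm, tensorHom_id]
    have R : ((q ⊗ₘ q) ⊗ₘ q) ≫ (α_ Q Q Q).hom ≫ Q ◁ m ≫ m =
        (α_ G G G).hom ≫ (G ◁ μ[G]) ≫ μ[G] ≫ q := by
      rw [← Category.assoc (α_ Q Q Q).hom, ← Category.assoc ((q ⊗ₘ q) ⊗ₘ q), h2, Category.assoc,
        hqm, id_tensorHom]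
    rw [L, R, ← Category.assoc, MonObj.mul_assoc]
    simp only [Category.assoc]
  let M : MonObj Q :=
    { one := η[G] ≫ q, mul := m, one_mul := ax1, mul_one := ax2, mul_assoc := ax3 }
  have ax4 : lift iv (𝟙 Q) ≫ m = toUnit Q ≫ η[G] ≫ q := by
    rw [← cancel_epi q]
    have h1 : q ≫ lift iv (𝟙 Q) = lift ι[G] (𝟙 G) ≫ (q ⊗ₘ q) := by
      apply CartesianMonoidalCategory.hom_ext <;> simp [hiv]
    rw [← Category.assoc, h1, Category.assoc, hm, ← Category.assoc, GrpObj.left_inv,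
      Category.assoc, ← Category.assoc q, toUnit_unique (q ≫ toUnit Q) (toUnit G)]
  have ax5 : lift (𝟙 Q) iv ≫ m = toUnit Q ≫ η[G] ≫ q := by
    rw [← cancel_epi q]
    have h1 : q ≫ lift (𝟙 Q) iv = lift (𝟙 G) ι[G] ≫ (q ⊗ₘ q) := by
      apply CartesianMonoidalCategory.hom_ext <;> simp [hiv]
    rw [← Category.assoc, h1, Category.assoc, hm, ← Category.assoc, GrpObj.right_inv,
      Category.assoc, ← Category.assoc q, toUnit_unique (q ≫ toUnit Q) (toUnit G)]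
  exact ⟨{ toMonObj := M, inv := iv, left_inv := ax4, right_inv := ax5 }, ⟨rfl, hm.symm⟩⟩

end Groth.Agent.H40
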