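import Groth.Agent.H40.QuotShDesc

/-!
# Points of the quotient sheaf `U/R`: sections, local lifting and relatedness
-/

set_option autoImplicit false
universe u
open CategoryTheory Limits Opposite AlgebraicGeometry

namespace Groth.Agent.H40.QuotPts

open Groth.Agent.H40.QuotShLoc

variable (K : Precoverage Scheme.{u}) {S : Scheme.{u}}

/-- the section of `F` over `T` attached to a map `h_T ⟶ F`. -/
noncomputable def sec {T : Over S} {F : QuotSh.Sh K S} (α : QuotSh.rep K T ⟶ F) :
    F.obj.obj (op T) :=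
  (toSheafify (QuotSh.J K S) (P T) ≫ α.hom).app (op T) (ULift.up (𝟙 T))

lemma nat_apply {T : Over S} {G : (Over S)ᵒᵖ ⥤ Type (u + 1)} (γ : P T ⟶ G) {X : Over S}
    (f : X ⟶ T) : γ.app (op X) (ULift.up f) = G.map f.op (γ.app (op T) (ULift.up (𝟙 T))) := by
  have := NatTrans.naturality_apply γ f.op (ULift.up (𝟙 T) : (P T).obj (op T))
  rw [← this]
  congr 1

lemma sec_injective {T : Over S} {F : QuotSh.Sh K S} {α β : QuotSh.rep K T ⟶ F}
    (h : sec K α = sec K β) : α = β := by
  apply Sheaf.hom_ext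
  apply sheafify_hom_ext _ _ _ F.property
  apply NatTrans.ext
  funext X
  induction X using Opposite.rec with
  | _ X =>
    ext x
    obtain ⟨f⟩ := x
    refine (nat_apply (toSheafify (QuotSh.J K S) (P T) ≫ α.hom) f).trans ?_
    refine Eq.trans ?_ (nat_apply (toSheafify (QuotSh.J K S) (P T) ≫ β.hom) f).symm
    exact congrArg _ h

lemma sec_repMap_comp {T T' : Over S} {F : QuotSh.Sh K S} (f : T' ⟶ T)
    (α : QuotSh.rep K T ⟶ F) :
    sec K (QuotSh.repMap K f ≫ α) = F.obj.map f.op (sec K α) := by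
  unfold sec
  have e : toSheafify (QuotSh.J K S) (P T') ≫ (QuotSh.repMap K f ≫ α).hom =
      Pmap f ≫ toSheafify (QuotSh.J K S) (P T) ≫ α.hom := by
    change toSheafify (QuotSh.J K S) (P T') ≫ sheafifyMap (QuotSh.J K S) (Pmap f) ≫ α.hom = _
    rw [← Category.assoc, ← toSheafify_naturality, Category.assoc]
  rw [e]
  change (toSheafify (QuotSh.J K S) (P T) ≫ α.hom).app (op T') (ULift.up (𝟙 T' ≫ f)) = _
  rw [Category.id_comp, nat_apply]

lemma sec_repMap_map {T' V : Over S} {G : (Over S)ᵒᵖ ⥤ Type (u + 1)} (a : T' ⟶ V)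
    (η : P V ⟶ G) :
    sec K (QuotSh.repMap K a ≫ (presheafToSheaf (QuotSh.J K S) (Type (u + 1))).map η) =
      (toSheafify (QuotSh.J K S) G).app (op T') (η.app (op T') (ULift.up a)) := by
  unfold sec
  have e : toSheafify (QuotSh.J K S) (P T') ≫
      (QuotSh.repMap K a ≫ (presheafToSheaf (QuotSh.J K S) (Type (u + 1))).map η).hom =
      Pmap a ≫ η ≫ toSheafify (QuotSh.J K S) G := by
    change toSheafify (QuotSh.J K S) (P T') ≫ sheafifyMap (QuotSh.J K S) (Pmap a) ≫
      sheafifyMap (QuotSh.J K S) η = _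
    rw [← Category.assoc, ← toSheafify_naturality, Category.assoc, ← toSheafify_naturality]
  rw [e]
  change (toSheafify (QuotSh.J K S) G).app (op T') (η.app (op T') (ULift.up (𝟙 T' ≫ a))) = _
  rw [Category.id_comp]

/-- two maps `h_T ⟶ F` agreeing on a covering sieve are equal. -/
theorem hom_ext_of_mem {T : Over S} {F : QuotSh.Sh K S} (α β : QuotSh.rep K T ⟶ F)
    (R : Sieve T) (hR : R ∈ QuotSh.J K S T)
    (h : ∀ ⦃T' : Over S⦄ (f : T' ⟶ T), R f → QuotSh.repMap K f ≫ α = QuotSh.repMap K f ≫ β) :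
    α = β := by
  apply sec_injective
  have hF : Presieve.IsSheaf (QuotSh.J K S) F.obj := (isSheaf_iff_isSheaf_of_type _ _).mp F.property
  apply (hF R hR).isSeparatedFor.ext
  intro T' f hf
  rw [← sec_repMap_comp, ← sec_repMap_comp, h f hf]

variable {R U : Over S} (s t : R ⟶ U)

/-- the comparison of `U/R` with the sheafification of the presheaf quotient. -/
noncomputable def quotIso : QuotSh.quot K s t ≅
    (presheafToSheaf (QuotSh.J K S) (Type (u + 1))).obj (ShCoeq.Q (Pmap s) (Pmap t)) :=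
  ShCoeq.coeqIso (QuotSh.J K S) (Pmap s) (Pmap t)

lemma quotπ_quotIso : QuotSh.quotπ K s t ≫ (quotIso K s t).hom =
    (presheafToSheaf (QuotSh.J K S) (Type (u + 1))).map (ShCoeq.π (Pmap s) (Pmap t)) :=
  ShCoeq.π_coeqIso_hom (QuotSh.J K S) (f := Pmap s) (g := Pmap t)

/-- the sieve along which a section of `U/R` lifts to `U`. -/
def liftSieve {T : Over S} (σ : QuotSh.rep K T ⟶ QuotSh.quot K s t) : Sieve T where
  arrows T' f := ∃ a : T' ⟶ U, QuotSh.repMap K a ≫ QuotSh.quotπ K s t = QuotSh.repMap K f ≫ σ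
  downward_closed := by
    rintro Y Z f ⟨a, ha⟩ g
    exact ⟨g ≫ a, by rw [repMap_comp, repMap_comp, Category.assoc, ha, Category.assoc]⟩

/-- sections of `U/R` lift locally to `U`. -/
theorem liftSieve_mem {T : Over S} (σ : QuotSh.rep K T ⟶ QuotSh.quot K s t) :
    liftSieve K s t σ ∈ QuotSh.J K S T := by
  set x := sec K (σ ≫ (quotIso K s t).hom) with hx
  have hmem := Presheaf.imageSieve_mem (QuotSh.J K S)
    (toSheafify (QuotSh.J K S) (ShCoeq.Q (Pmap s) (Pmap t))) x
  refine GrothendieckTopology.superset_covering _ ?_ hmem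
  rintro T' f ⟨q, hq⟩
  induction q using Quot.ind with
  | _ b =>
    obtain ⟨a⟩ := b
    refine ⟨a, ?_⟩
    rw [← cancel_mono (quotIso K s t).hom, Category.assoc, Category.assoc, quotπ_quotIso]
    apply sec_injective
    rw [sec_repMap_map, sec_repMap_comp]
    exact hq

variable [IsEquivalenceRelation s t] [(QuotSh.J K S).Subcanonical]

/-- two points of `U` with the same class in `U/R` are related. -/
theorem rel_of_quotπ_eq {T : Over S} (a b : T ⟶ U)
    (h : QuotSh.repMap K a ≫ QuotSh.quotπ K s t = QuotSh.repMap K b ≫ QuotSh.quotπ K s t) :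
    PRel s t T a b := by
  apply exists_rel_of_relSieve_mem K s t a b
  have h' := congrArg (fun m => sec K (m ≫ (quotIso K s t).hom)) h
  simp only [Category.assoc, quotπ_quotIso, sec_repMap_map] at h'
  have hmem : Presheaf.equalizerSieve (F := ShCoeq.Q (Pmap s) (Pmap t)) (X := op T)
      (Quot.mk _ (show (P U).obj (op T) from ULift.up a))
      (Quot.mk _ (show (P U).obj (op T) from ULift.up b)) ∈ QuotSh.J K S T :=
    Presheaf.equalizerSieve_mem (QuotSh.J K S)
      (toSheafify (QuotSh.J K S) (ShCoeq.Q (Pmap s) (Pmap t))) _ _ h'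
  convert hmem using 1
  ext T' f
  rw [ShCoeq.equalizerSieve_mk_apply, eqvGen_iff]
  rfl

omit [IsEquivalenceRelation s t] [(QuotSh.J K S).Subcanonical] in
theorem quotπ_eq_of_rel {T : Over S} (a b : T ⟶ U) (h : PRel s t T a b) :
    QuotSh.repMap K a ≫ QuotSh.quotπ K s t = QuotSh.repMap K b ≫ QuotSh.quotπ K s t := by
  obtain ⟨r, rfl, rfl⟩ := h
  rw [repMap_comp, repMap_comp, Category.assoc, Category.assoc, QuotSh.quot_condition]

omit [(QuotSh.J K S).Subcanonical] in
theorem pRel_symm {T : Over S} {a b : T ⟶ U} (h : PRel s t T a b) : PRel s t T b a :=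
  pRel_of_eqvGen s t (.symm _ _ (.rel _ _ h))

end Groth.Agent.H40.QuotPts
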