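import Mathlib.CategoryTheory.Sites.LocallyBijective
import Mathlib.CategoryTheory.Sites.Sheafification
import Mathlib.CategoryTheory.Limits.Shapes.Equalizers
import Mathlib.CategoryTheory.Limits.Preserves.Shapes.Equalizers
import Mathlib.CategoryTheory.Adjunction.Limits

/-!
# Coequalizers of sheafified presheaves of types

For presheaves of types `A ⇉ B` on a site, the coequalizer of the sheafified pair is the
sheafification of the explicit presheaf quotient `Q`.  A cofork `L B ⟶ L D` induced by `h : B ⟶ D`
is a coequalizer iff `Q ⟶ D` is locally injective and locally surjective.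
-/

set_option autoImplicit false
universe w v u
open CategoryTheory Limits Opposite

namespace Groth.Agent.H40.ShCoeq

variable {C : Type u} [Category.{v} C]

section Presheaf
variable {A B D : Cᵒᵖ ⥤ Type w} (f g : A ⟶ B)

/-- the relation on sections of `B` given by the pair `f, g`. -/
def rel (X : Cᵒᵖ) (b b' : B.obj X) : Prop := ∃ a : A.obj X, f.app X a = b ∧ g.app X a = b'

lemma rel_map {X Y : Cᵒᵖ} (φ : X ⟶ Y) {b b' : B.obj X} (h : rel f g X b b') :
    rel f g Y (B.map φ b) (B.map φ b') := by
  obtain ⟨a, rfl, rfl⟩ := h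
  exact ⟨A.map φ a, NatTrans.naturality_apply f φ a, NatTrans.naturality_apply g φ a⟩

/-- the presheaf quotient. -/
def Q : Cᵒᵖ ⥤ Type w where
  obj X := Quot (rel f g X)
  map φ := ↾(Quot.map (B.map φ) (fun _ _ h => rel_map f g φ h))
  map_id X := by
    ext x
    induction x using Quot.ind with
    | _ b => simp [Quot.map]
  map_comp φ ψ := by
    ext x
    induction x using Quot.ind with
    | _ b => simp [Quot.map]

/-- the projection. -/
def π : B ⟶ Q f g where
  app X := ↾(Quot.mk _)
  naturality X Y φ := by
    ext b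
    rfl

lemma π_condition : f ≫ π f g = g ≫ π f g := by
  ext X a
  exact Quot.sound ⟨a, rfl, rfl⟩

variable {f g}

/-- descent of a coequalizing map to the presheaf quotient. -/
def desc (h : B ⟶ D) (w : f ≫ h = g ≫ h) : Q f g ⟶ D where
  app X := ↾(Quot.lift (h.app X) (by
    rintro b b' ⟨a, rfl, rfl⟩
    exact congr($(w).app X a)))
  naturality X Y φ := by
    ext x
    induction x using Quot.ind with
    | _ b => exact NatTrans.naturality_apply h φ b

@[simp]
lemma desc_mk (h : B ⟶ D) (w : f ≫ h = g ≫ h) (X : Cᵒᵖ) (b : B.obj X) :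
    (desc h w).app X (Quot.mk _ b) = h.app X b := rfl

@[reassoc (attr := simp)]
lemma π_desc (h : B ⟶ D) (w : f ≫ h = g ≫ h) : π f g ≫ desc h w = h := by
  ext X b
  rfl

variable (f g)

/-- the presheaf quotient is the coequalizer. -/
def isColimit : IsColimit (Cofork.ofπ (π f g) (π_condition f g)) :=
  Cofork.IsColimit.mk _ (fun s => desc s.π s.condition) (fun s => π_desc _ _) (by
    intro s m hm
    ext X x
    induction x using Quot.ind with
    | _ b => exact congr($(hm).app X b))

end Presheaf

section Sheaf
variable (J : GrothendieckTopology C) [HasSheafify J (Type w)] [J.WEqualsLocallyBijective (Type w)]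
variable {A B D : Cᵒᵖ ⥤ Type w} {f g : A ⟶ B}

lemma map_condition (h : B ⟶ D) (w : f ≫ h = g ≫ h) :
    (presheafToSheaf J (Type w)).map f ≫ (presheafToSheaf J (Type w)).map h =
      (presheafToSheaf J (Type w)).map g ≫ (presheafToSheaf J (Type w)).map h := by
  rw [← Functor.map_comp, ← Functor.map_comp, w]

variable (f g) in
/-- the sheafified cofork is a coequalizer. -/
noncomputable def isColimitSheaf :
    IsColimit (Cofork.ofπ ((presheafToSheaf J (Type w)).map (π f g))
      (map_condition J (π f g) (π_condition f g))) :=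
  isColimitMapCoconeCoforkEquiv _ _
    (isColimitOfPreserves (presheafToSheaf J (Type w)) (isColimit f g))

variable (f g) in
/-- the comparison isomorphism. -/
noncomputable def coeqIso :
    coequalizer ((presheafToSheaf J (Type w)).map f) ((presheafToSheaf J (Type w)).map g) ≅
      (presheafToSheaf J (Type w)).obj (Q f g) :=
  (coequalizerIsCoequalizer _ _).coconePointUniqueUpToIso (isColimitSheaf J f g)

@[reassoc]
lemma π_coeqIso_hom :
    coequalizer.π ((presheafToSheaf J (Type w)).map f) ((presheafToSheaf J (Type w)).map g) ≫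
      (coeqIso J f g).hom = (presheafToSheaf J (Type w)).map (π f g) :=
  (coequalizerIsCoequalizer _ _).comp_coconePointUniqueUpToIso_hom (isColimitSheaf J f g)
    WalkingParallelPair.one

lemma coequalizer_desc_eq (h : B ⟶ D) (w : f ≫ h = g ≫ h) :
    coequalizer.desc ((presheafToSheaf J (Type w)).map h) (map_condition J h w) =
      (coeqIso J f g).hom ≫ (presheafToSheaf J (Type w)).map (desc h w) := by
  apply coequalizer.hom_ext
  rw [coequalizer.π_desc, π_coeqIso_hom_assoc, ← Functor.map_comp, π_desc]

/-- the main criterion. -/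
theorem isIso_coequalizer_desc_iff (h : B ⟶ D) (w : f ≫ h = g ≫ h) :
    IsIso (coequalizer.desc ((presheafToSheaf J (Type w)).map h) (map_condition J h w)) ↔
      Presheaf.IsLocallyInjective J (desc h w) ∧ Presheaf.IsLocallySurjective J (desc h w) := by
  rw [coequalizer_desc_eq J h w, ← J.W_iff_isLocallyBijective, GrothendieckTopology.W_iff]
  constructor
  · intro _
    exact IsIso.of_isIso_comp_left (coeqIso J f g).hom _
  · intro _
    infer_instance

omit [HasSheafify J (Type w)] [J.WEqualsLocallyBijective (Type w)] in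
theorem isLocallySurjective_desc_iff (h : B ⟶ D) (w : f ≫ h = g ≫ h) :
    Presheaf.IsLocallySurjective J (desc h w) ↔
      ∀ (X : Cᵒᵖ) (d : D.obj X), Presheaf.imageSieve h d ∈ J X.unop := by
  have key : ∀ (X : Cᵒᵖ) (d : D.obj X),
      Presheaf.imageSieve (desc h w) d = Presheaf.imageSieve h d := by
    intro X d
    ext Y φ
    constructor
    · rintro ⟨x, hx⟩
      induction x using Quot.ind with
      | _ b => exact ⟨b, hx⟩
    · rintro ⟨b, hb⟩
      exact ⟨Quot.mk _ b, hb⟩
  constructor
  · intro hs X d
    rw [← key]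
    exact Presheaf.imageSieve_mem J (desc h w) d
  · intro hs
    refine ⟨fun {X} d => ?_⟩
    rw [key]
    exact hs (op X) d

omit [HasSheafify J (Type w)] [J.WEqualsLocallyBijective (Type w)] in
theorem isLocallyInjective_desc_iff (h : B ⟶ D) (w : f ≫ h = g ≫ h) :
    Presheaf.IsLocallyInjective J (desc h w) ↔
      ∀ (X : Cᵒᵖ) (b b' : B.obj X), h.app X b = h.app X b' →
        Presheaf.equalizerSieve (F := Q f g) (X := X) (Quot.mk _ b) (Quot.mk _ b') ∈ J X.unop := by
  constructor
  · intro hs X b b' hbb
    exact Presheaf.equalizerSieve_mem J (desc h w) _ _ hbb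
  · intro hs
    refine ⟨fun {X} x y hxy => ?_⟩
    induction x using Quot.ind with
    | _ b =>
      induction y using Quot.ind with
      | _ b' => exact hs X b b' hxy

omit [HasSheafify J (Type w)] [J.WEqualsLocallyBijective (Type w)] in
lemma equalizerSieve_mk_apply {X : Cᵒᵖ} (b b' : B.obj X) {Y : C} (φ : Y ⟶ X.unop) :
    Presheaf.equalizerSieve (F := Q f g) (X := X) (Quot.mk _ b) (Quot.mk _ b') φ ↔
      Relation.EqvGen (rel f g (op Y)) (B.map φ.op b) (B.map φ.op b') := by
  rw [← Quot.eq]
  rfl

end Sheaf

end Groth.Agent.H40.ShCoeq
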