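import Groth.Prelude.Def_QuotSh
import Groth.Agent.H40.ShCoeq
import Mathlib.CategoryTheory.Sites.LocallySurjective

/-!
# `QuotSh.IsQuotient` in terms of local lifting and local relatedness of points
-/

set_option autoImplicit false
universe u
open CategoryTheory Limits Opposite AlgebraicGeometry

namespace Groth.Agent.H40.QuotShLoc

variable (K : Precoverage Scheme.{u}) {S : Scheme.{u}}

/-- presheaf of points (lifted). -/
abbrev P (V : Over S) : (Over S)ᵒᵖ ⥤ Type (u + 1) := yoneda.obj V ⋙ uliftFunctor.{u + 1, u}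

/-- the map on presheaves of points. -/
abbrev Pmap {V W : Over S} (g : V ⟶ W) : P V ⟶ P W :=
  Functor.whiskerRight (yoneda.map g) uliftFunctor.{u + 1, u}

lemma Pmap_comp {V W X : Over S} (g : V ⟶ W) (h : W ⟶ X) : Pmap (g ≫ h) = Pmap g ≫ Pmap h := by
  simp [Pmap]

variable {R U M : Over S} (s t : R ⟶ U)

lemma Pmap_w {q : U ⟶ M} (w : s ≫ q = t ≫ q) : Pmap s ≫ Pmap q = Pmap t ≫ Pmap q := by
  rw [← Pmap_comp, ← Pmap_comp, w]

/-- sieve of maps along which `y` lifts through `q`. -/
def liftSieve (q : U ⟶ M) {T : Over S} (y : T ⟶ M) : Sieve T where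
  arrows T' f := ∃ a : T' ⟶ U, a ≫ q = f ≫ y
  downward_closed := by
    rintro Y Z f ⟨a, ha⟩ g
    exact ⟨g ≫ a, by rw [Category.assoc, ha, Category.assoc]⟩

/-- the relation on points of `U` given by `s, t`. -/
def PRel (T : Over S) (a b : T ⟶ U) : Prop := ∃ r : T ⟶ R, r ≫ s = a ∧ r ≫ t = b

/-- sieve of maps along which `a, b` become equivalent. -/
def relSieve {T : Over S} (a b : T ⟶ U) : Sieve T where
  arrows T' f := Relation.EqvGen (PRel s t T') (f ≫ a) (f ≫ b)
  downward_closed := by
    rintro Y Z f h g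
    have : ∀ x y : Y ⟶ U, Relation.EqvGen (PRel s t Y) x y →
        Relation.EqvGen (PRel s t Z) (g ≫ x) (g ≫ y) := by
      intro x y hxy
      induction hxy with
      | rel x y hxy =>
        obtain ⟨r, rfl, rfl⟩ := hxy
        exact .rel _ _ ⟨g ≫ r, Category.assoc _ _ _, Category.assoc _ _ _⟩
      | refl x => exact .refl _
      | symm x y _ ih => exact .symm _ _ ih
      | trans x y z _ _ ih1 ih2 => exact .trans _ _ _ ih1 ih2
    simpa only [Category.assoc] using this _ _ h

lemma eqvGen_iff {Y : Over S} (b b' : ULift.{u + 1} (Y ⟶ U)) :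
    Relation.EqvGen (ShCoeq.rel (Pmap s) (Pmap t) (op Y)) b b' ↔
      Relation.EqvGen (PRel s t Y) b.down b'.down := by
  constructor
  · intro h
    induction h with
    | rel x y hxy =>
      obtain ⟨a, rfl, rfl⟩ := hxy
      exact .rel _ _ ⟨a.down, rfl, rfl⟩
    | refl x => exact .refl _
    | symm x y _ ih => exact .symm _ _ ih
    | trans x y z _ _ ih1 ih2 => exact .trans _ _ _ ih1 ih2
  · intro h
    have : ∀ x y : Y ⟶ U, Relation.EqvGen (PRel s t Y) x y →
        Relation.EqvGen (ShCoeq.rel (Pmap s) (Pmap t) (op Y)) (ULift.up x) (ULift.up y) := by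
      intro x y hxy
      induction hxy with
      | rel x y hxy =>
        obtain ⟨r, rfl, rfl⟩ := hxy
        exact .rel _ _ ⟨ULift.up r, rfl, rfl⟩
      | refl x => exact .refl _
      | symm x y _ ih => exact .symm _ _ ih
      | trans x y z _ _ ih1 ih2 => exact .trans _ _ _ ih1 ih2
    exact this _ _ h

/-- `IsQuotient` in terms of local lifting and local relatedness. -/
theorem isQuotient_iff (q : U ⟶ M) :
    QuotSh.IsQuotient K s t q ↔ s ≫ q = t ≫ q ∧
      (∀ (T : Over S) (y : T ⟶ M), liftSieve q y ∈ QuotSh.J K S T) ∧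
      (∀ (T : Over S) (a b : T ⟶ U), a ≫ q = b ≫ q → relSieve s t a b ∈ QuotSh.J K S T) := by
  have key : ∀ w : s ≫ q = t ≫ q, IsIso (QuotSh.quotDesc K q w) ↔
      (∀ (T : Over S) (y : T ⟶ M), liftSieve q y ∈ QuotSh.J K S T) ∧
      (∀ (T : Over S) (a b : T ⟶ U), a ≫ q = b ≫ q → relSieve s t a b ∈ QuotSh.J K S T) := by
    intro w
    have h0 : IsIso (QuotSh.quotDesc K q w) ↔ _ :=
      ShCoeq.isIso_coequalizer_desc_iff (QuotSh.J K S) (Pmap q) (Pmap_w s t w)
    rw [h0, ShCoeq.isLocallySurjective_desc_iff, ShCoeq.isLocallyInjective_desc_iff, and_comm]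
    refine and_congr ?_ ?_
    · constructor
      · intro h T y
        convert h (op T) (ULift.up y) using 1
        ext T' f
        constructor
        · rintro ⟨a, ha⟩
          exact ⟨ULift.up a, congrArg ULift.up ha⟩
        · rintro ⟨a, ha⟩
          exact ⟨a.down, congrArg ULift.down ha⟩
      · intro h X d
        convert h X.unop d.down using 1
        ext T' f
        constructor
        · rintro ⟨a, ha⟩
          exact ⟨a.down, congrArg ULift.down ha⟩
        · rintro ⟨a, ha⟩
          exact ⟨ULift.up a, congrArg ULift.up ha⟩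
    · constructor
      · intro h T a b hab
        convert h (op T) (ULift.up a) (ULift.up b) (congrArg ULift.up hab) using 1
        ext T' f
        rw [ShCoeq.equalizerSieve_mk_apply, eqvGen_iff]
        rfl
      · intro h X b b' hbb
        convert h X.unop b.down b'.down (congrArg ULift.down hbb) using 1
        ext T' f
        rw [ShCoeq.equalizerSieve_mk_apply, eqvGen_iff]
        rfl
  constructor
  · rintro ⟨w, hw⟩
    exact ⟨w, (key w).1 hw⟩
  · rintro ⟨w, hw⟩
    exact ⟨w, (key w).2 hw⟩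

omit s t in
lemma imageSieve_Pmap (q : U ⟶ M) {T : Over S} (y : T ⟶ M) :
    Presheaf.imageSieve (F := P U) (G := P M) (Pmap q) (U := T) (ULift.up y : ULift.{u + 1} (T ⟶ M)) =
      liftSieve q y := by
  ext T' f
  constructor
  · rintro ⟨a, ha⟩
    exact ⟨a.down, congrArg ULift.down ha⟩
  · rintro ⟨a, ha⟩
    exact ⟨ULift.up a, congrArg ULift.up ha⟩

omit s t in
/-- `h_U ⟶ h_M` is an epimorphism of sheaves iff points of `M` lift locally. -/
theorem epi_repMap_iff (q : U ⟶ M) :
    Epi (QuotSh.repMap K q) ↔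
      ∀ (T : Over S) (y : T ⟶ M), liftSieve q y ∈ QuotSh.J K S T := by
  rw [← Sheaf.isLocallySurjective_iff_epi, Presheaf.isLocallySurjective_presheafToSheaf_map_iff]
  constructor
  · intro h T y
    rw [← imageSieve_Pmap]
    exact Presheaf.imageSieve_mem (QuotSh.J K S) (Pmap q) _
  · intro h
    refine ⟨fun {T} d => ?_⟩
    have := h T d.down
    rw [← imageSieve_Pmap] at this
    exact this

end Groth.Agent.H40.QuotShLoc
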