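import Groth.Agent.H40.QuotPts
import Groth.Agent.H40.FpqcTors
import Groth.Agent.H40.GrpTranslate
import Groth.Prelude.Def_CGrpSh

/-!
# Sections of the fpqc quotient sheaf `U/R` and stable subschemes of `U ×_S T`
-/

set_option autoImplicit false
set_option backward.isDefEq.respectTransparency.types false
universe u
open CategoryTheory Limits Opposite AlgebraicGeometry MonoidalCategory CartesianMonoidalCategory

namespace Groth.Agent.H40.QuotStable

open Groth.Agent.H40.QuotShLoc Groth.Agent.H40.QuotPts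

variable {S : Scheme.{u}}

/-- a sieve of `Y : Over S` containing (the canonical lifts of) a covering presieve of `Y.left`
is covering. -/
lemma mem_J_of_presieve (K : Precoverage Scheme.{u}) {Y : Over S} (Rc : Presieve Y.left)
    (hRc : Rc ∈ K Y.left) (Sv : Sieve Y)
    (h : ∀ ⦃Z : Scheme.{u}⦄ (g : Z ⟶ Y.left), Rc g →
      Sv (Over.homMk g rfl : Over.mk (g ≫ Y.hom) ⟶ Y)) : Sv ∈ QuotSh.J K S Y := by
  rw [GrothendieckTopology.mem_over_iff]
  refine GrothendieckTopology.superset_covering _ ?_ (Precoverage.generate_mem_toGrothendieck hRc)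
  rintro Z f ⟨W, a, p, hp, rfl⟩
  rw [Sieve.overEquiv_iff]
  have := Sv.downward_closed (h p hp)
    (Over.homMk a (by simp) : Over.mk ((a ≫ p) ≫ Y.hom) ⟶ Over.mk (p ≫ Y.hom))
  convert this using 1
  apply Over.OverMorphism.ext
  simp

/-- factorisation in `Over S` is factorisation of the underlying morphisms. -/
lemma over_factor_iff {Y A B : Over S} (ρ : A ⟶ B) (n : Y ⟶ B) :
    (∃ r : Y ⟶ A, r ≫ ρ = n) ↔ ∃ r' : Y.left ⟶ A.left, r' ≫ ρ.left = n.left := by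
  constructor
  · rintro ⟨r, rfl⟩
    exact ⟨r.left, rfl⟩
  · rintro ⟨r', hr'⟩
    refine ⟨Over.homMk r' ?_, ?_⟩
    · rw [← Over.w ρ, ← Category.assoc, hr', Over.w n]
    · apply Over.OverMorphism.ext
      simpa using hr'

section

variable {R U : Over S} (s t : R ⟶ U) (T : Over S)
  (σ : QuotSh.rep Scheme.fpqcPrecoverage T ⟶ QuotSh.quot Scheme.fpqcPrecoverage s t)

/-- the point `m` of `U ×_S T` has class `σ`. -/
def EqCl {Y : Over S} (m : Y ⟶ U ⊗ T) : Prop :=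
  QuotSh.repMap Scheme.fpqcPrecoverage (m ≫ fst U T) ≫ QuotSh.quotπ Scheme.fpqcPrecoverage s t =
    QuotSh.repMap Scheme.fpqcPrecoverage (m ≫ snd U T) ≫ σ

variable {s t T σ}

lemma eqCl_precomp {Y Y' : Over S} (h : Y' ⟶ Y) {m : Y ⟶ U ⊗ T} (hm : EqCl s t T σ m) :
    EqCl s t T σ (h ≫ m) := by
  unfold EqCl at hm ⊢
  rw [Category.assoc, Category.assoc, repMap_comp, repMap_comp _ h, Category.assoc, Category.assoc,
    hm]

lemma eqCl_of_mem {Y : Over S} (m : Y ⟶ U ⊗ T) (Sv : Sieve Y)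
    (hSv : Sv ∈ QuotSh.J Scheme.fpqcPrecoverage S Y)
    (h : ∀ ⦃Y' : Over S⦄ (f : Y' ⟶ Y), Sv f → EqCl s t T σ (f ≫ m)) : EqCl s t T σ m := by
  apply hom_ext_of_mem _ _ _ Sv hSv
  intro Y' f hf
  have := h f hf
  unfold EqCl at this
  rw [Category.assoc, Category.assoc, repMap_comp, repMap_comp _ f, Category.assoc,
    Category.assoc] at this
  exact this

lemma eqCl_of_presieve {Y : Over S} (m : Y ⟶ U ⊗ T) (Rc : Presieve Y.left)
    (hRc : Rc ∈ Scheme.fpqcPrecoverage Y.left)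
    (h : ∀ ⦃Z : Scheme.{u}⦄ (g : Z ⟶ Y.left), Rc g →
      EqCl s t T σ ((Over.homMk g rfl : Over.mk (g ≫ Y.hom) ⟶ Y) ≫ m)) : EqCl s t T σ m := by
  let Sv : Sieve Y :=
    { arrows := fun Y' f => EqCl s t T σ (f ≫ m)
      downward_closed := fun {Y' Y''} f hf g => by
        rw [Category.assoc]; exact eqCl_precomp g hf }
  exact eqCl_of_mem m Sv (mem_J_of_presieve _ Rc hRc Sv h) (fun Y' f hf => hf)

variable (s t T σ) in
/-- the subfunctor of `(U ×_S T).left` of points of class `σ`. -/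
def Fσ ⦃T' : Scheme.{u}⦄ (g : T' ⟶ (U ⊗ T).left) : Prop :=
  EqCl s t T σ (Over.homMk g rfl : Over.mk (g ≫ (U ⊗ T).hom) ⟶ U ⊗ T)

lemma eqCl_iff_Fσ {Y : Over S} (m : Y ⟶ U ⊗ T) : EqCl s t T σ m ↔ Fσ s t T σ m.left := by
  let e : Y ≅ Over.mk (m.left ≫ (U ⊗ T).hom) := Over.isoMk (Iso.refl _) (by
    rw [Iso.refl_hom, Category.id_comp]; exact Over.w m)
  have h1 : m = e.hom ≫ (Over.homMk m.left rfl : Over.mk (m.left ≫ (U ⊗ T).hom) ⟶ U ⊗ T) := by
    apply Over.OverMorphism.ext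
    simp [e]
  have h2 : (Over.homMk m.left rfl : Over.mk (m.left ≫ (U ⊗ T).hom) ⟶ U ⊗ T) = e.inv ≫ m := by
    apply Over.OverMorphism.ext
    simp [e]
  constructor
  · intro h
    unfold Fσ
    rw [h2]
    exact eqCl_precomp _ h
  · intro h
    rw [h1]
    exact eqCl_precomp _ h

lemma Fσ_precomp ⦃T₁ T₂ : Scheme.{u}⦄ (h : T₂ ⟶ T₁) (g : T₁ ⟶ (U ⊗ T).left)
    (hg : Fσ s t T σ g) : Fσ s t T σ (h ≫ g) := by
  unfold Fσ at hg ⊢
  have : (Over.homMk (h ≫ g) rfl : Over.mk ((h ≫ g) ≫ (U ⊗ T).hom) ⟶ U ⊗ T) =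
      (Over.homMk h (by simp) : Over.mk ((h ≫ g) ≫ (U ⊗ T).hom) ⟶ Over.mk (g ≫ (U ⊗ T).hom)) ≫
        Over.homMk g rfl := by
    apply Over.OverMorphism.ext
    simp
  rw [this]
  exact eqCl_precomp _ hg

lemma Fσ_of_presieve ⦃T₁ : Scheme.{u}⦄ (g : T₁ ⟶ (U ⊗ T).left) (Rc : Presieve T₁)
    (hRc : Rc ∈ Scheme.fpqcPrecoverage T₁)
    (h : ∀ ⦃Z : Scheme.{u}⦄ (a : Z ⟶ T₁), Rc a → Fσ s t T σ (a ≫ g)) : Fσ s t T σ g := by
  unfold Fσ
  apply eqCl_of_presieve _ Rc hRc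
  intro Z a ha
  rw [eqCl_iff_Fσ]
  exact h a ha

lemma Fσ_zariski ⦃T₁ : Scheme.{u}⦄ (g : T₁ ⟶ (U ⊗ T).left) {τ : Type u} (O : τ → T₁.Opens)
    (hO : ⨆ i, O i = ⊤) (h : ∀ i, Fσ s t T σ ((O i).ι ≫ g)) : Fσ s t T σ g := by
  let E : PreZeroHypercover.{u} T₁ := ⟨τ, fun i => (O i).toScheme, fun i => (O i).ι⟩
  have hE : E.presieve₀ ∈ Scheme.zariskiPrecoverage T₁ := by
    rw [Scheme.zariskiPrecoverage, Scheme.presieve₀_mem_precoverage_iff]
    refine ⟨fun x => ?_, fun i => inferInstanceAs (IsOpenImmersion (O i).ι)⟩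
    have hx : x ∈ (⨆ i, O i : T₁.Opens) := hO ▸ trivial
    obtain ⟨i, hi⟩ := TopologicalSpace.Opens.mem_iSup.mp hx
    exact ⟨i, ⟨x, hi⟩, rfl⟩
  apply Fσ_of_presieve g E.presieve₀ (Scheme.zariskiPrecoverage_le_fpqcPrecoverage _ hE)
  rintro Z a ⟨i⟩
  exact h i

end

section Equiv

variable {R U : Over S} {s t : R ⟶ U} {T : Over S}
  {σ : QuotSh.rep Scheme.fpqcPrecoverage T ⟶ QuotSh.quot Scheme.fpqcPrecoverage s t}

variable (s t T σ) in
/-- an fpqc covering family of `T` along which `σ` lifts to `U`. -/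
theorem exists_cover_lifts :
    ∃ E : PreZeroHypercover.{u + 1} T.left, E.presieve₀ ∈ Scheme.fpqcPrecoverage T.left ∧
      ∀ i : E.I₀, ∃ a : Over.mk (E.f i ≫ T.hom) ⟶ U,
        QuotSh.repMap Scheme.fpqcPrecoverage a ≫ QuotSh.quotπ Scheme.fpqcPrecoverage s t =
          QuotSh.repMap Scheme.fpqcPrecoverage
            (Over.homMk (E.f i) rfl : Over.mk (E.f i ≫ T.hom) ⟶ T) ≫ σ := by
  have h := liftSieve_mem Scheme.fpqcPrecoverage s t σ
  rw [GrothendieckTopology.mem_over_iff,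
    Precoverage.mem_toGrothendieck_iff_of_isStableUnderComposition] at h
  obtain ⟨Rc, hRc, hle⟩ := h
  obtain ⟨E, rfl⟩ := Rc.exists_eq_preZeroHypercover
  refine ⟨E, hRc, fun i => ?_⟩
  have := hle _ _ (⟨i⟩ : E.presieve₀ (E.f i))
  rw [Sieve.overEquiv_iff] at this
  exact this

variable [IsEquivalenceRelation s t]

/-- comparison of the class of a point with a local lift of `σ`. -/
lemma eqCl_iff_of_lift {Y Ti : Over S} (g : Ti ⟶ T) (a : Ti ⟶ U)
    (ha : QuotSh.repMap Scheme.fpqcPrecoverage a ≫ QuotSh.quotπ Scheme.fpqcPrecoverage s t =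
      QuotSh.repMap Scheme.fpqcPrecoverage g ≫ σ)
    (m : Y ⟶ U ⊗ T) (y : Y ⟶ Ti) (hy : m ≫ snd U T = y ≫ g) :
    EqCl s t T σ m ↔ ∃ r : Y ⟶ R, r ≫ s = m ≫ fst U T ∧ r ≫ t = y ≫ a := by
  unfold EqCl
  rw [hy, repMap_comp _ y g, Category.assoc, ← ha, ← Category.assoc, ← repMap_comp]
  constructor
  · intro h
    exact rel_of_quotπ_eq Scheme.fpqcPrecoverage s t _ _ h
  · intro h
    exact quotπ_eq_of_rel Scheme.fpqcPrecoverage s t _ _ h

/-- two points with the same class and the same `T`-component are related. -/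
lemma rel_of_eqCl {Y : Over S} {m₁ m₂ : Y ⟶ U ⊗ T} (h₁ : EqCl s t T σ m₁) (h₂ : EqCl s t T σ m₂)
    (h : m₁ ≫ snd U T = m₂ ≫ snd U T) :
    ∃ r : Y ⟶ R, r ≫ s = m₁ ≫ fst U T ∧ r ≫ t = m₂ ≫ fst U T := by
  unfold EqCl at h₁ h₂
  apply rel_of_quotπ_eq Scheme.fpqcPrecoverage s t
  rw [h₁, h₂, h]

omit [IsEquivalenceRelation s t] in
lemma eqCl_whisker {Y : Over S} (r : Y ⟶ R ⊗ T) :
    EqCl s t T σ (r ≫ (s ▷ T)) ↔ EqCl s t T σ (r ≫ (t ▷ T)) := by
  unfold EqCl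
  simp only [Category.assoc, whiskerRight_fst, whiskerRight_snd]
  have : QuotSh.repMap Scheme.fpqcPrecoverage (r ≫ fst R T ≫ s) ≫
      QuotSh.quotπ Scheme.fpqcPrecoverage s t =
      QuotSh.repMap Scheme.fpqcPrecoverage (r ≫ fst R T ≫ t) ≫
      QuotSh.quotπ Scheme.fpqcPrecoverage s t := by
    rw [← Category.assoc, ← Category.assoc, repMap_comp, repMap_comp _ _ t, Category.assoc,
      Category.assoc, QuotSh.quot_condition]
  rw [this]

/-! ### properties of a representing object -/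

section Repr

variable {Z : Over S} (i : Z ⟶ U ⊗ T)
  (hrep : ∀ ⦃Y : Over S⦄ (m : Y ⟶ U ⊗ T), EqCl s t T σ m ↔ ∃ z : Y ⟶ Z, z ≫ i = m)

include hrep

omit [IsEquivalenceRelation s t] in
lemma repr_eqCl : EqCl s t T σ i := (hrep i).mpr ⟨𝟙 _, Category.id_comp _⟩

omit [IsEquivalenceRelation s t] in
lemma repr_stable (T' : Over S) (r : T' ⟶ R ⊗ T) :
    (∃ z : T' ⟶ Z, z ≫ i = r ≫ (s ▷ T)) ↔ (∃ z : T' ⟶ Z, z ≫ i = r ≫ (t ▷ T)) := by
  rw [← hrep, ← hrep, eqCl_whisker]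

lemma repr_related (T' : Over S) (z₁ z₂ : T' ⟶ Z)
    (h : z₁ ≫ i ≫ snd U T = z₂ ≫ i ≫ snd U T) :
    ∃ r : T' ⟶ R, r ≫ s = z₁ ≫ i ≫ fst U T ∧ r ≫ t = z₂ ≫ i ≫ fst U T := by
  have h₁ : EqCl s t T σ (z₁ ≫ i) := eqCl_precomp z₁ (repr_eqCl i hrep)
  have h₂ : EqCl s t T σ (z₂ ≫ i) := eqCl_precomp z₂ (repr_eqCl i hrep)
  simpa only [Category.assoc] using rel_of_eqCl h₁ h₂ (by simpa only [Category.assoc] using h)

/-- over a member of a covering family along which `σ` lifts, `Z ⟶ T` is a base change of `s`. -/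
lemma repr_isPullback [Mono i.left] {Ti : Scheme.{u}} (g : Ti ⟶ T.left)
    (a : Over.mk (g ≫ T.hom) ⟶ U)
    (ha : QuotSh.repMap Scheme.fpqcPrecoverage a ≫ QuotSh.quotπ Scheme.fpqcPrecoverage s t =
      QuotSh.repMap Scheme.fpqcPrecoverage (Over.homMk g rfl : Over.mk (g ≫ T.hom) ⟶ T) ≫ σ) :
    ∃ A : pullback (i ≫ snd U T).left g ⟶ R.left,
      IsPullback A (pullback.snd (i ≫ snd U T).left g) s.left a.left := by
  set f := (i ≫ snd U T).left with hf
  let gO : Over.mk (g ≫ T.hom) ⟶ T := Over.homMk g rfl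
  let PB : Over S := Over.mk (pullback.snd f g ≫ (Over.mk (g ≫ T.hom)).hom)
  let π₂ : PB ⟶ Over.mk (g ≫ T.hom) := Over.homMk (pullback.snd f g) rfl
  have hw1 : pullback.fst f g ≫ Z.hom = PB.hom := by
    change _ = pullback.snd f g ≫ g ≫ T.hom
    rw [← pullback.condition_assoc, hf, Over.w]
  let π₁ : PB ⟶ Z := Over.homMk (pullback.fst f g) hw1
  have hsq : π₁ ≫ i ≫ snd U T = π₂ ≫ gO := by
    apply Over.OverMorphism.ext
    exact pullback.condition
  haveI : Mono i := Over.mono_of_mono_left i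
  -- the map to R
  have hE : EqCl s t T σ (π₁ ≫ i) := eqCl_precomp π₁ (repr_eqCl i hrep)
  obtain ⟨A₀, hA₀s, hA₀t⟩ := (eqCl_iff_of_lift gO a ha (π₁ ≫ i) π₂
    (by rw [Category.assoc, hsq])).mp hE
  obtain ⟨A, hAs, hAt⟩ := pRel_symm s t ⟨A₀, hA₀s, hA₀t⟩
  -- `A ≫ s = π₂ ≫ a`, `A ≫ t = (π₁ ≫ i) ≫ fst`
  refine ⟨A.left, ?_⟩
  apply isPullback_of_points
  · have := congrArg (fun m => m.left) hAs
    exact this
  · intro Y₀ r₀ y₀ hry
    let Y : Over S := Over.mk (y₀ ≫ (Over.mk (g ≫ T.hom)).hom)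
    let y : Y ⟶ Over.mk (g ≫ T.hom) := Over.homMk y₀ rfl
    have hrw : r₀ ≫ R.hom = Y.hom := by
      change _ = y₀ ≫ g ≫ T.hom
      rw [← Over.w s, ← Category.assoc, hry, Category.assoc, Over.w a]
      rfl
    let r : Y ⟶ R := Over.homMk r₀ hrw
    have hrs : r ≫ s = y ≫ a := by
      apply Over.OverMorphism.ext
      exact hry
    let m : Y ⟶ U ⊗ T := lift (r ≫ t) (y ≫ gO)
    have hm : EqCl s t T σ m := by
      rw [eqCl_iff_of_lift gO a ha m y (lift_snd _ _)]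
      obtain ⟨r', h1, h2⟩ := pRel_symm s t ⟨r, rfl, rfl⟩
      exact ⟨r', by rw [h1, lift_fst], by rw [h2, hrs]⟩
    obtain ⟨z, hz⟩ := (hrep m).mp hm
    have hzf : z.left ≫ f = y₀ ≫ g := by
      have := congrArg (fun m => (m ≫ snd U T).left) hz
      simp only [m, lift_snd] at this
      rw [hf]
      exact this
    let l : Y₀ ⟶ pullback f g := pullback.lift z.left y₀ hzf
    have hl2 : l ≫ pullback.snd f g = y₀ := pullback.lift_snd _ _ _
    refine ⟨l, ?_, hl2⟩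
    let L : Y ⟶ PB := Over.homMk l (by
      change l ≫ pullback.snd f g ≫ g ≫ T.hom = y₀ ≫ g ≫ T.hom
      rw [← Category.assoc, hl2])
    have hL1 : L ≫ π₁ = z := by
      apply Over.OverMorphism.ext
      exact pullback.lift_fst _ _ _
    have hL2 : L ≫ π₂ = y := by
      apply Over.OverMorphism.ext
      exact hl2
    have hLA : L ≫ A = r := by
      apply jointly_mono s t
      · rw [Category.assoc, hAs, ← Category.assoc, hL2, hrs]
      · rw [Category.assoc, hAt, ← Category.assoc, ← Category.assoc, hL1, hz, lift_fst]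
    exact congrArg (fun m => m.left) hLA
  · intro Y₀ l l' h1 h2
    apply pullback.hom_ext _ h2
    let Y : Over S := Over.mk (l ≫ PB.hom)
    let L : Y ⟶ PB := Over.homMk l rfl
    let L' : Y ⟶ PB := Over.homMk l' (by
      change l' ≫ pullback.snd f g ≫ g ≫ T.hom = l ≫ pullback.snd f g ≫ g ≫ T.hom
      rw [← Category.assoc, ← h2, Category.assoc])
    have hLA : L ≫ A = L' ≫ A := by
      apply Over.OverMorphism.ext
      exact h1
    have hL2 : L ≫ π₂ = L' ≫ π₂ := by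
      apply Over.OverMorphism.ext
      exact h2
    have key : (L ≫ π₁) ≫ i = (L' ≫ π₁) ≫ i := by
      have hAt' : π₁ ≫ i ≫ fst U T = A ≫ t := by rw [← Category.assoc]; exact hAt.symm
      apply CartesianMonoidalCategory.hom_ext
      · simp only [Category.assoc]
        rw [hAt', ← Category.assoc, hLA, Category.assoc]
      · simp only [Category.assoc]
        rw [hsq, ← Category.assoc, hL2, Category.assoc]
    have := (cancel_mono i).mp key
    exact congrArg (fun m => m.left) this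

/-- descent of a property of `s` to `Z ⟶ T`. -/
theorem repr_prop [Mono i.left]
    (P : MorphismProperty Scheme.{u}) [IsZariskiLocalAtTarget P] [P.IsStableUnderBaseChange]
    (hP : P.DescendsAlong (@Surjective ⊓ @Flat ⊓ @QuasiCompact : MorphismProperty Scheme.{u}))
    (hs : P s.left) : P (i ≫ snd U T).left := by
  obtain ⟨E, hE, hlift⟩ := exists_cover_lifts s t T σ
  refine prop_of_fpqcPresieve P hP _ hE ?_
  rintro Ti g ⟨k⟩
  obtain ⟨a, ha⟩ := hlift k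
  obtain ⟨A, hA⟩ := repr_isPullback i hrep (E.f k) a ha
  exact P.of_isPullback hA hs

end Repr

section Uniq

variable {Z : Over S} (i : Z ⟶ U ⊗ T)

/-- a stable subscheme of `U ×_S T`, faithfully flat over `T` and inducing `σ`, represents the
points of class `σ`. -/
theorem hrep_of_stable
    (hdesc : ∀ ⦃T₁ T₂ : Scheme.{u}⦄ (π : T₂ ⟶ T₁) [Flat π] [Surjective π]
      (g : T₁ ⟶ (U ⊗ T).left),
      (∃ w : T₂ ⟶ Z.left, w ≫ i.left = π ≫ g) → ∃ w : T₁ ⟶ Z.left, w ≫ i.left = g)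
    (hst : ∀ (T' : Over S) (r : T' ⟶ R ⊗ T),
        (∃ z : T' ⟶ Z, z ≫ i = r ≫ (s ▷ T)) ↔ (∃ z : T' ⟶ Z, z ≫ i = r ≫ (t ▷ T)))
    [Flat (i ≫ snd U T).left] [Surjective (i ≫ snd U T).left]
    (hσ : EqCl s t T σ i) ⦃Y : Over S⦄ (m : Y ⟶ U ⊗ T) :
    EqCl s t T σ m ↔ ∃ z : Y ⟶ Z, z ≫ i = m := by
  constructor
  · intro hm
    set f := (i ≫ snd U T).left with hf
    let π := pullback.fst (m ≫ snd U T).left f
    let Y' : Over S := Over.mk (π ≫ Y.hom)
    let πO : Y' ⟶ Y := Over.homMk π rfl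
    have hw : pullback.snd (m ≫ snd U T).left f ≫ Z.hom = Y'.hom := by
      change _ = π ≫ Y.hom
      rw [← Over.w (i ≫ snd U T), ← hf, ← pullback.condition_assoc, Over.w]
    let z' : Y' ⟶ Z := Over.homMk (pullback.snd (m ≫ snd U T).left f) hw
    have hsq : (πO ≫ m) ≫ snd U T = (z' ≫ i) ≫ snd U T := by
      apply Over.OverMorphism.ext
      have := pullback.condition (f := (m ≫ snd U T).left) (g := f)
      rw [Category.assoc, Category.assoc]
      exact this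
    obtain ⟨r, hrs, hrt⟩ := rel_of_eqCl (eqCl_precomp πO hm) (eqCl_precomp z' hσ) hsq
    let ρ : Y' ⟶ R ⊗ T := lift r ((πO ≫ m) ≫ snd U T)
    have h1 : ρ ≫ (t ▷ T) = z' ≫ i := by
      apply CartesianMonoidalCategory.hom_ext
      · rw [Category.assoc, whiskerRight_fst, lift_fst_assoc, hrt]
      · rw [Category.assoc, whiskerRight_snd, lift_snd, hsq]
    have h2 : ρ ≫ (s ▷ T) = πO ≫ m := by
      apply CartesianMonoidalCategory.hom_ext
      · rw [Category.assoc, whiskerRight_fst, lift_fst_assoc, hrs]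
      · rw [Category.assoc, whiskerRight_snd, lift_snd]
    obtain ⟨z, hz⟩ := (hst Y' ρ).mpr ⟨z', h1.symm⟩
    rw [h2] at hz
    have hz' : z.left ≫ i.left = π ≫ m.left := congrArg (fun m => m.left) hz
    obtain ⟨w, hw⟩ := hdesc π m.left ⟨z.left, hz'⟩
    exact (over_factor_iff i m).mpr ⟨w, hw⟩
  · rintro ⟨z, rfl⟩
    exact eqCl_precomp z hσ

end Uniq

omit [IsEquivalenceRelation s t] in
/-- two monomorphisms representing the same subfunctor are isomorphic. -/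
theorem iso_of_repr {Z Z' : Over S} (i : Z ⟶ U ⊗ T) (i' : Z' ⟶ U ⊗ T) [Mono i] [Mono i']
    (h : ∀ ⦃Y : Over S⦄ (m : Y ⟶ U ⊗ T), EqCl s t T σ m ↔ ∃ z : Y ⟶ Z, z ≫ i = m)
    (h' : ∀ ⦃Y : Over S⦄ (m : Y ⟶ U ⊗ T), EqCl s t T σ m ↔ ∃ z : Y ⟶ Z', z ≫ i' = m) :
    ∃ e : Z ≅ Z', e.hom ≫ i' = i := by
  obtain ⟨a, ha⟩ := (h' i).mp ((h i).mpr ⟨𝟙 _, Category.id_comp _⟩)
  obtain ⟨b, hb⟩ := (h i').mp ((h' i').mpr ⟨𝟙 _, Category.id_comp _⟩)
  refine ⟨⟨a, b, ?_, ?_⟩, ha⟩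
  · rw [← cancel_mono i, Category.assoc, hb, ha, Category.id_comp]
  · rw [← cancel_mono i', Category.assoc, ha, hb, Category.id_comp]

end Equiv

end Groth.Agent.H40.QuotStable
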