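import Groth.Agent.H40.QuotStable
import Groth.Agent.H40.CD.CoreFamily

/-!
# Sections of the fpqc quotient sheaf `U/R` with closed graph: the closed subscheme of points of
a given class
-/

set_option autoImplicit false
set_option backward.isDefEq.respectTransparency.types false
universe u
open CategoryTheory Limits Opposite AlgebraicGeometry MonoidalCategory CartesianMonoidalCategory

namespace Groth.Agent.H40.QuotStable

open Groth.Agent.H40.QuotShLoc Groth.Agent.H40.QuotPts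

variable {S : Scheme.{u}} {R U : Over S} (s t : R ⟶ U) [IsEquivalenceRelation s t] (T : Over S)
  (σ : QuotSh.rep Scheme.fpqcPrecoverage T ⟶ QuotSh.quot Scheme.fpqcPrecoverage s t)

/-- the chart condition: over a member of a covering family along which `σ` lifts, the points of
class `σ` are the pullback of the graph. -/
lemma chart_iff {Ti : Scheme.{u}} (g : Ti ⟶ T.left) (a : Over.mk (g ≫ T.hom) ⟶ U)
    (ha : QuotSh.repMap Scheme.fpqcPrecoverage a ≫ QuotSh.quotπ Scheme.fpqcPrecoverage s t =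
      QuotSh.repMap Scheme.fpqcPrecoverage (Over.homMk g rfl : Over.mk (g ≫ T.hom) ⟶ T) ≫ σ) :
    ∃ μ : pullback (snd U T).left g ⟶ (U ⊗ U).left,
      ∀ ⦃T' : Scheme.{u}⦄ (x : T' ⟶ pullback (snd U T).left g),
        Fσ s t T σ (x ≫ pullback.fst (snd U T).left g) ↔
          ∃ r' : T' ⟶ R.left, r' ≫ (lift t s).left = x ≫ μ := by
  set q := (snd U T).left with hq
  let gO : Over.mk (g ≫ T.hom) ⟶ T := Over.homMk g rfl
  let Xi : Over S := Over.mk (pullback.fst q g ≫ (U ⊗ T).hom)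
  let φ : Xi ⟶ U ⊗ T := Over.homMk (pullback.fst q g) rfl
  have hw : pullback.snd q g ≫ (Over.mk (g ≫ T.hom)).hom = Xi.hom := by
    change pullback.snd q g ≫ g ≫ T.hom = pullback.fst q g ≫ (U ⊗ T).hom
    rw [← pullback.condition_assoc, hq, Over.w]
  let ψ : Xi ⟶ Over.mk (g ≫ T.hom) := Over.homMk (pullback.snd q g) hw
  have hφψ : φ ≫ snd U T = ψ ≫ gO := by
    apply Over.OverMorphism.ext
    exact pullback.condition
  let μ : Xi ⟶ U ⊗ U := lift (ψ ≫ a) (φ ≫ fst U T)
  refine ⟨μ.left, fun T' x => ?_⟩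
  let Y : Over S := Over.mk ((x ≫ pullback.fst q g) ≫ (U ⊗ T).hom)
  let m : Y ⟶ U ⊗ T := Over.homMk (x ≫ pullback.fst q g) rfl
  let y : Y ⟶ Xi := Over.homMk x (by
    change x ≫ pullback.fst q g ≫ (U ⊗ T).hom = (x ≫ pullback.fst q g) ≫ (U ⊗ T).hom
    rw [Category.assoc])
  have hym : y ≫ φ = m := by
    apply Over.OverMorphism.ext
    rfl
  have hy : m ≫ snd U T = (y ≫ ψ) ≫ gO := by
    rw [← hym, Category.assoc, hφψ, Category.assoc]
  change EqCl s t T σ m ↔ _
  rw [eqCl_iff_of_lift gO a ha m (y ≫ ψ) hy]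
  have e1 : (∃ r : Y ⟶ R, r ≫ s = m ≫ fst U T ∧ r ≫ t = (y ≫ ψ) ≫ a) ↔
      ∃ r : Y ⟶ R, r ≫ lift t s = y ≫ μ := by
    have hyμ : y ≫ μ = lift ((y ≫ ψ) ≫ a) (m ≫ fst U T) := by
      rw [comp_lift, ← hym, Category.assoc, Category.assoc]
    constructor
    · rintro ⟨r, h1, h2⟩
      refine ⟨r, ?_⟩
      rw [hyμ, comp_lift, h1, h2]
    · rintro ⟨r, hr⟩
      rw [hyμ, comp_lift] at hr
      refine ⟨r, ?_, ?_⟩
      · have := congrArg (fun m => m ≫ snd U U) hr
        simpa only [lift_snd] using this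
      · have := congrArg (fun m => m ≫ fst U U) hr
        simpa only [lift_fst] using this
  rw [e1, over_factor_iff]
  rfl

/-- if the graph `(t, s) : R ⟶ U ×_S U` is a closed immersion, the points of `U ×_S T` of class
`σ` form a closed subscheme. -/
theorem exists_closed_repr (hc : IsClosedImmersion (lift t s).left) :
    ∃ (W : Scheme.{u}) (ι : W ⟶ (U ⊗ T).left), IsClosedImmersion ι ∧
      ∀ ⦃T' : Scheme.{u}⦄ (g : T' ⟶ (U ⊗ T).left), Fσ s t T σ g ↔ ∃ w : T' ⟶ W, w ≫ ι = g := by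
  apply CD.core_family (Fσ s t T σ) Fσ_precomp Fσ_zariski
  intro V
  obtain ⟨E, hE, hlift⟩ := exists_cover_lifts s t T σ
  choose a ha using hlift
  set q := (snd U T).left with hq
  haveI hEqc : QuasiCompactCover E := Scheme.presieve₀_mem_qcPrecoverage_iff.mp hE.1
  have hE2 := (Scheme.presieve₀_mem_precoverage_iff E).mp hE.2
  have hflat : ∀ i, Flat (E.f i) := hE2.2
  obtain ⟨n, α, O, hO, hcov⟩ :=
    QuasiCompactCover.exists_isAffineOpen_of_isCompact (E.pullback₁ q) V.2.isCompact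
  change ∀ k, (pullback q (E.f (α k))).Opens at O
  have hcov' : ⋃ k, pullback.fst q (E.f (α k)) '' (O k) = V.1 := hcov
  have hr : ∀ k, Set.range ((O k).ι ≫ pullback.fst q (E.f (α k))) ⊆ Set.range V.1.ι := by
    intro k
    rw [Scheme.Opens.range_ι]
    rintro _ ⟨y, rfl⟩
    rw [← hcov']
    exact Set.mem_iUnion.mpr ⟨k, ⟨y.1, y.2, rfl⟩⟩
  let pk : ∀ k, (O k).toScheme ⟶ V.1.toScheme := fun k =>
    IsOpenImmersion.lift V.1.ι ((O k).ι ≫ pullback.fst q (E.f (α k))) (hr k)
  have hpk : ∀ k, pk k ≫ V.1.ι = (O k).ι ≫ pullback.fst q (E.f (α k)) :=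
    fun k => IsOpenImmersion.lift_fac _ _ _
  haveI : ∀ k, IsAffine (O k).toScheme := hO
  have hpkflat : ∀ k, Flat (pk k) := fun k =>
    MorphismProperty.of_postcomp (W := @Flat) (W' := @IsOpenImmersion) (pk k) V.1.ι
      inferInstance (by rw [hpk]; infer_instance)
  have hμ := fun k => chart_iff s t T σ (E.f (α k)) (a (α k)) (ha (α k))
  choose μ hμ using hμ
  let jk : ∀ k, pullback (lift t s).left ((O k).ι ≫ μ k) ⟶ (O k).toScheme :=
    fun k => pullback.snd _ _
  haveI : ∀ k, IsClosedImmersion (jk k) := fun k => inferInstance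
  have hsurj : ∀ y : V.1.toScheme, ∃ k, y ∈ Set.range (pk k) := by
    intro y
    have hy : (V.1.ι y : (U ⊗ T).left) ∈ (V.1 : Set (U ⊗ T).left) := y.2
    rw [← hcov'] at hy
    obtain ⟨k, z, hz, hzy⟩ := Set.mem_iUnion.mp hy
    refine ⟨k, ⟨z, hz⟩, ?_⟩
    apply V.1.ι.isOpenEmbedding.injective
    rw [← Scheme.Hom.comp_apply, hpk]
    exact hzy
  refine ⟨n, fun k => (O k).toScheme, fun k => pullback (lift t s).left ((O k).ι ≫ μ k),
    inferInstance, pk, jk, hpkflat, hsurj, inferInstance, fun k T' x => ?_, fun T' g hg => ?_⟩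
  · rw [hpk, ← Category.assoc, hμ k (x ≫ (O k).ι)]
    constructor
    · rintro ⟨r', hr'⟩
      exact ⟨pullback.lift r' x (by rw [hr', Category.assoc]), pullback.lift_snd _ _ _⟩
    · rintro ⟨w, rfl⟩
      exact ⟨w ≫ pullback.fst _ _, by
        rw [Category.assoc, pullback.condition, Category.assoc, Category.assoc]⟩
  · haveI : Flat (Sigma.desc pk) := IsZariskiLocalAtSource.sigmaDesc hpkflat
    haveI := CD.surjective_sigmaDesc (fun k => (O k).toScheme) pk hsurj
    haveI : IsAffine V.1.toScheme := V.2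
    apply Fσ_of_presieve _ _
      (Scheme.Hom.singleton_mem_fpqcPrecoverage (pullback.fst g (Sigma.desc pk)))
    rintro Z b ⟨⟩
    exact hg

end Groth.Agent.H40.QuotStable
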