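import Groth.Agent.H40.QuotStableClosed
import Groth.Agent.H40.OpenCore

/-!
# Sections of the fpqc quotient sheaf `U/R` with open graph: the open subscheme of points of
a given class
-/

set_option autoImplicit false
set_option backward.isDefEq.respectTransparency.types false
universe u
open CategoryTheory Limits Opposite AlgebraicGeometry MonoidalCategory CartesianMonoidalCategory

namespace Groth.Agent.H40.QuotStable

open Groth.Agent.H40.QuotShLoc Groth.Agent.H40.QuotPts

variable {S : Scheme.{u}} {R U : Over S} (s t : R ⟶ U) (T : Over S)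
  (σ : QuotSh.rep Scheme.fpqcPrecoverage T ⟶ QuotSh.quot Scheme.fpqcPrecoverage s t)

/-- an fpqc covering family of `T`, indexed by a small type, along which `σ` lifts to `U`. -/
theorem exists_cover_lifts_small :
    ∃ (ι : Type u) (X : ι → Scheme.{u}) (f : ∀ i, X i ⟶ T.left),
      Presieve.ofArrows X f ∈ Scheme.fpqcPrecoverage T.left ∧
      ∀ i : ι, ∃ a : Over.mk (f i ≫ T.hom) ⟶ U,
        QuotSh.repMap Scheme.fpqcPrecoverage a ≫ QuotSh.quotπ Scheme.fpqcPrecoverage s t =
          QuotSh.repMap Scheme.fpqcPrecoverage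
            (Over.homMk (f i) rfl : Over.mk (f i ≫ T.hom) ⟶ T) ≫ σ := by
  obtain ⟨E, hE, hlift⟩ := exists_cover_lifts s t T σ
  haveI hEqc : QuasiCompactCover E := Scheme.presieve₀_mem_qcPrecoverage_iff.mp hE.1
  have hE2 := (Scheme.presieve₀_mem_precoverage_iff E).mp hE.2
  let E' : PreZeroHypercover.{u} T.left := QuasiCompactCover.ulift E
  have hsurj : ∀ x : T.left, ∃ i, x ∈ Set.range (E'.f i) := by
    intro x
    obtain ⟨V, hV, hxV, -⟩ := TopologicalSpace.Opens.isBasis_iff_nbhd.mp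
      T.left.isBasis_affineOpens (TopologicalSpace.Opens.mem_top x)
    obtain ⟨n, φ, O, -, hcov⟩ :=
      QuasiCompactCover.exists_isAffineOpen_of_isCompact E' (IsAffineOpen.isCompact hV)
    have hx : x ∈ ⋃ i, E'.f (φ i) '' (O i) := by rw [hcov]; exact hxV
    obtain ⟨i, y, -, hy⟩ := Set.mem_iUnion.mp hx
    exact ⟨φ i, y, hy⟩
  refine ⟨E'.I₀, E'.X, E'.f, ⟨Scheme.presieve₀_mem_qcPrecoverage_iff.mpr inferInstance,
    (Scheme.presieve₀_mem_precoverage_iff E').mpr ⟨hsurj, fun i => hE2.2 _⟩⟩, fun i => ?_⟩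
  exact hlift _

variable [IsEquivalenceRelation s t]

/-- if the graph `(t, s) : R ⟶ U ×_S U` is an open immersion, the points of `U ×_S T` of class
`σ` form an open subscheme. -/
theorem exists_open_repr (hc : IsOpenImmersion (lift t s).left) :
    ∃ (W : Scheme.{u}) (ι : W ⟶ (U ⊗ T).left), IsOpenImmersion ι ∧
      ∀ ⦃T' : Scheme.{u}⦄ (g : T' ⟶ (U ⊗ T).left), Fσ s t T σ g ↔ ∃ w : T' ⟶ W, w ≫ ι = g := by
  obtain ⟨ι, X, f, hf, hlift⟩ := exists_cover_lifts_small s t T σ
  choose a ha using hlift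
  set q := (snd U T).left with hq
  have hμ := fun i => chart_iff s t T σ (f i) (a i) (ha i)
  choose μ hμ using hμ
  have hp : Presieve.ofArrows (fun i => pullback q (f i)) (fun i => pullback.fst q (f i)) ∈
      Scheme.fpqcPrecoverage (U ⊗ T).left :=
    Scheme.fpqcPrecoverage.mem_coverings_of_isPullback f hf q _
      (fun i => pullback.snd q (f i)) (fun i => IsPullback.of_hasPullback q (f i))
  obtain ⟨Z, hZ⟩ := open_core (Fσ s t T σ) Fσ_precomp Fσ_of_presieve
    (fun i => pullback.fst q (f i)) hp (fun i => (μ i) ⁻¹ᵁ (lift t s).left.opensRange)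
    (fun i T' x => by
      rw [hμ i x]
      constructor
      · rintro ⟨r', hr'⟩ _ ⟨y, rfl⟩
        change μ i (x y) ∈ Set.range (lift t s).left
        rw [← Scheme.Hom.comp_apply, ← hr']
        exact ⟨r' y, rfl⟩
      · intro h
        have hr : Set.range (x ≫ μ i) ⊆ Set.range (lift t s).left := by
          rintro _ ⟨y, rfl⟩
          exact h ⟨y, rfl⟩
        exact ⟨IsOpenImmersion.lift (lift t s).left (x ≫ μ i) hr,
          IsOpenImmersion.lift_fac _ _ _⟩)
  refine ⟨Z.toScheme, Z.ι, inferInstance, fun T' g => ?_⟩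
  rw [hZ]
  constructor
  · intro h
    exact ⟨IsOpenImmersion.lift Z.ι g (by rw [Scheme.Opens.range_ι]; exact h),
      IsOpenImmersion.lift_fac _ _ _⟩
  · rintro ⟨w, rfl⟩ _ ⟨y, rfl⟩
    exact (w y).2

/-- factoring through an open immersion descends along surjective morphisms. -/
theorem factors_openImmersion_of_surjective {P Z Q Q' : Scheme.{u}} (j : Z ⟶ P)
    [IsOpenImmersion j] (π : Q' ⟶ Q) [Surjective π] (h : Q ⟶ P)
    (hw : ∃ w' : Q' ⟶ Z, w' ≫ j = π ≫ h) : ∃ w : Q ⟶ Z, w ≫ j = h := by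
  obtain ⟨w', hw'⟩ := hw
  have hr : Set.range h ⊆ Set.range j := by
    rintro _ ⟨y, rfl⟩
    obtain ⟨y', rfl⟩ := π.surjective y
    rw [← Scheme.Hom.comp_apply, ← hw']
    exact ⟨w' y', rfl⟩
  exact ⟨IsOpenImmersion.lift j h hr, IsOpenImmersion.lift_fac _ _ _⟩

end Groth.Agent.H40.QuotStable
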