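import Groth.Agent.H40.HochFunct

set_option autoImplicit false
universe u v w w'

open TensorProduct HopfRep

namespace Groth.Agent.H40

section

variable {k : Type u} [Field k] {C : Type v} [AddCommGroup C] [Module k C] [Coalgebra k C]
variable {V : Type w} [AddCommGroup V] [Module k V] [Comod k C V]
variable {W : Type w'} [AddCommGroup W] [Module k W] [Comod k C W]

/-- The projection onto a subcomodule along a complementary subcomodule is a comodule map. -/
theorem isComodHom_proj (U K : Submodule k W) (hU : IsSubcomod (k := k) (A := C) U)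
    (hK : IsSubcomod (k := k) (A := C) K) (h : IsCompl U K) :
    Hoch.IsComodHom C (U.subtype ∘ₗ Submodule.projectionOnto U K h) := by
  set p : W →ₗ[k] W := U.subtype ∘ₗ Submodule.projectionOnto U K h with hp
  unfold Hoch.IsComodHom
  apply LinearMap.ext
  intro x
  simp only [LinearMap.comp_apply]
  have hpU : ∀ a : U, p a = a := by
    intro a
    simp only [hp, LinearMap.comp_apply, Submodule.subtype_apply]
    rw [Submodule.projectionOnto_apply_left h a]
  have hpK : ∀ b : K, p b = 0 := by
    intro b
    simp only [hp, LinearMap.comp_apply, Submodule.subtype_apply]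
    rw [Submodule.projectionOnto_apply_right h b]
    rfl
  have hU' : ∀ a : U, p.rTensor C (rho k C W a) = rho k C W a := by
    intro a
    obtain ⟨y, hy⟩ := hU a.1 a.2
    change (p.rTensor C) (Comod.coact (k := k) (A := C) (a : W)) = Comod.coact (k := k) (A := C) (a : W)
    rw [← hy, ← LinearMap.comp_apply, ← LinearMap.rTensor_comp]
    congr 1
    congr 1
    ext a'
    exact hpU a'
  have hK' : ∀ b : K, p.rTensor C (rho k C W b) = 0 := by
    intro b
    obtain ⟨y, hy⟩ := hK b.1 b.2
    change (p.rTensor C) (Comod.coact (k := k) (A := C) (b : W)) = 0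
    rw [← hy, ← LinearMap.comp_apply, ← LinearMap.rTensor_comp]
    have : p ∘ₗ K.subtype = 0 := by
      ext b'
      exact hpK b'
    rw [this, LinearMap.rTensor_zero, LinearMap.zero_apply]
  obtain ⟨a, b, rfl⟩ : ∃ a : U, ∃ b : K, x = (a : W) + (b : W) := by
    have : x ∈ U ⊔ K := by rw [h.sup_eq_top]; exact Submodule.mem_top
    obtain ⟨a, ha, b, hb, rfl⟩ := Submodule.mem_sup.1 this
    exact ⟨⟨a, ha⟩, ⟨b, hb⟩, rfl⟩
  rw [map_add, map_add, map_add, hpU, hpK, map_zero, add_zero, map_add]
  change rho k C W a = p.rTensor C (rho k C W a) + p.rTensor C (rho k C W b)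
  rw [hU', hK', add_zero]

/-- an injective comodule map whose image has a complementary subcomodule admits a comodule
retraction -/
theorem exists_retraction (i : V →ₗ[k] W) (hi : Hoch.IsComodHom C i)
    (hinj : Function.Injective i) (K : Submodule k W) (hK : IsSubcomod (k := k) (A := C) K)
    (h : IsCompl (LinearMap.range i) K) :
    ∃ r : W →ₗ[k] V, Hoch.IsComodHom C r ∧ r ∘ₗ i = LinearMap.id := by
  have hU : IsSubcomod (k := k) (A := C) (LinearMap.range i) := by
    rw [← Submodule.map_top]
    exact isSubcomod_map hi (by rw [isSubcomod_iff_slice]; intro _ _ _; trivial)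
  set r : W →ₗ[k] V := (LinearEquiv.ofInjective i hinj).symm.toLinearMap ∘ₗ
    Submodule.projectionOnto (LinearMap.range i) K h with hr
  have hir : i ∘ₗ r = (LinearMap.range i).subtype ∘ₗ
      Submodule.projectionOnto (LinearMap.range i) K h := by
    ext x
    simp only [hr, LinearMap.comp_apply, LinearEquiv.coe_coe, Submodule.subtype_apply]
    have := LinearEquiv.apply_symm_apply (LinearEquiv.ofInjective i hinj)
      (Submodule.projectionOnto (LinearMap.range i) K h x)
    exact congrArg Subtype.val this
  have hri : r ∘ₗ i = LinearMap.id := by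
    ext v
    apply hinj
    have := LinearMap.congr_fun hir (i v)
    simp only [LinearMap.comp_apply] at this
    rw [LinearMap.comp_apply, this]
    simp only [Submodule.subtype_apply, LinearMap.id_apply]
    have hmem : i v ∈ LinearMap.range i := ⟨v, rfl⟩
    have := Submodule.projectionOnto_apply_left h ⟨i v, hmem⟩
    exact congrArg Subtype.val this
  refine ⟨r, ?_, hri⟩
  have hp := isComodHom_proj (LinearMap.range i) K hU hK h
  rw [← hir] at hp
  unfold Hoch.IsComodHom at hp ⊢
  apply LinearMap.ext
  intro x
  apply rTensor_injective_of_injective C i hinj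
  have h1 := LinearMap.congr_fun hp x
  simp only [LinearMap.comp_apply] at h1 ⊢
  rw [← isComodHom_apply hi, h1, LinearMap.rTensor_comp, LinearMap.comp_apply]

end

end Groth.Agent.H40
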