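import Groth.Agent.S14695
import Groth.Agent.H76.FlatTorsion
import Groth.Agent.H40.SekSuwaIso

/-!
# Trivial kernel of `H¹(X, G_{λ,n}) → H¹(X, μ_{p^n})`
-/

set_option autoImplicit false
set_option backward.isDefEq.respectTransparency.types false
universe u

open CategoryTheory AlgebraicGeometry MonoidalCategory CartesianMonoidalCategory MonObj GrpObj
open CategoryTheory.Limits
open Groth.Agent.H42

namespace Groth.Agent.H40

namespace SekSuwaFin

open SekSuwa

variable {R : Type u} [CommRing R] {lam : R} {N : ℕ} (h : DivCond lam N)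

theorem isFinite_GK (hN : 0 < N) : IsFinite (GK R lam N h).hom := by
  change IsFinite (Spec.map (CommRingCat.ofHom (algebraMap R (AK R lam N h))))
  rw [IsFinite.SpecMap_iff]
  have := finite_AK h hN
  exact RingHom.finite_algebraMap.mpr inferInstance

theorem flat_GK (hN : 0 < N) : Flat (GK R lam N h).hom := by
  change Flat (Spec.map (CommRingCat.ofHom (algebraMap R (AK R lam N h))))
  rw [Flat.SpecMap_iff]
  have := free_AK h hN
  exact RingHom.flat_algebraMap_iff.mpr inferInstance

theorem isFinite_diag [NeZero N] : IsFinite (Red.diag R (ZMod N)).hom := by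
  change IsFinite (Spec.map (CommRingCat.ofHom
    (algebraMap R (MonoidAlgebra R (Multiplicative (ZMod N))))))
  rw [IsFinite.SpecMap_iff]
  exact RingHom.finite_algebraMap.mpr inferInstance

theorem flat_diag : Flat (Red.diag R (ZMod N)).hom := by
  change Flat (Spec.map (CommRingCat.ofHom
    (algebraMap R (MonoidAlgebra R (Multiplicative (ZMod N))))))
  rw [Flat.SpecMap_iff]
  exact RingHom.flat_algebraMap_iff.mpr inferInstance

theorem isUnit_pb_generic [IsDomain R] (hlam : lam ≠ 0) {X : Scheme.{u}} [IsIntegral X]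
    (f : X ⟶ Spec (CommRingCat.of R)) [Flat f] :
    IsUnit (pb (X.fromSpecStalk (genericPoint X) ≫ f) lam) := by
  rw [pb_comp]
  have hx : pb f lam ≠ 0 := by
    intro h0
    have := Groth.Agent.H76.eq_zero_of_mul_eq_zero_of_flat f lam hlam (1 : Γ(X, ⊤))
      (by rw [_root_.mul_one]; exact h0)
    exact one_ne_zero this
  have hgerm : X.presheaf.germ ⊤ (genericPoint X) trivial (pb f lam) ≠ 0 := by
    intro h0
    apply hx
    apply germ_injective_of_isIntegral (X := X) (U := ⊤) (genericPoint X) trivial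
    rw [h0, map_zero]
  have hu : IsUnit (X.presheaf.germ ⊤ (genericPoint X) trivial (pb f lam)) :=
    IsUnit.mk0 (G₀ := X.functionField) _ hgerm
  rw [Scheme.fromSpecStalk_appTop]
  simp only [CommRingCat.comp_apply]
  exact (hu.map _).map _

theorem isIso_generic [IsDomain R] [NeZero N] {X : Scheme.{u}} [IsIntegral X]
    (f : X ⟶ Spec (CommRingCat.of R)) [Flat f] :
    IsIso ((Over.pullback (X.fromSpecStalk (genericPoint X))).map
      ((Over.pullback f).map (alphaN R lam N h))) := by
  have hlam : lam ≠ 0 := nonZeroDivisors.ne_zero h.nzd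
  have h1 := isIso_pullback_alphaN h (X.fromSpecStalk (genericPoint X) ≫ f)
    (isUnit_pb_generic hlam f)
  exact (NatIso.isIso_map_iff (Over.pullbackComp (X.fromSpecStalk (genericPoint X)) f)
    (alphaN R lam N h)).mp h1

end SekSuwaFin

theorem sekSuwa_hasSection (R : Type u) [CommRing R] [IsDomain R]
    (p : ℕ) [Fact p.Prime]
    (n : ℕ) (lam : R) (h : SekSuwa.DivCond lam (p ^ n))
    (X : Scheme.{u}) [IsIntegral X] (hX : Pi1.IsNormalScheme X)
    (f : X ⟶ Spec (CommRingCat.of R)) [Flat f]
    (P : Over X) (a : AlgGrp.Action (Red.bc f (SekSuwa.GK R lam (p ^ n) h)) P)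
    (hP : NonAbH1.IsTorsorFor Scheme.fppfPrecoverage a)
    (P' : Over X) (a' : AlgGrp.Action (Red.bc f (Red.diag R (ZMod (p ^ n)))) P')
    (hP' : NonAbH1.IsTorsorFor Scheme.fppfPrecoverage a')
    (hpush : NonAbH1.IsPushforwardAlongSch ((Over.pullback f).map (SekSuwa.alphaN R lam (p ^ n) h)) a a')
    (htriv : NonAbH1.HasSectionOver P' (𝟙 X)) :
    NonAbH1.HasSectionOver P (𝟙 X) := by
  have hN : 0 < p ^ n := pow_pos (Fact.out : p.Prime).pos n
  have : NeZero (p ^ n) := ⟨hN.ne'⟩
  have := SekSuwaFin.isFinite_GK h hN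
  have := SekSuwaFin.flat_GK h hN
  have := SekSuwaFin.isFinite_diag (R := R) (N := p ^ n)
  have := SekSuwaFin.flat_diag (R := R) (N := p ^ n)
  have hfin1 : IsFinite (Red.bc f (SekSuwa.GK R lam (p ^ n) h)).hom :=
    inferInstanceAs (IsFinite (pullback.snd _ _))
  have hfl1 : Flat (Red.bc f (SekSuwa.GK R lam (p ^ n) h)).hom :=
    inferInstanceAs (Flat (pullback.snd _ _))
  have hfin2 : IsFinite (Red.bc f (Red.diag R (ZMod (p ^ n)))).hom :=
    inferInstanceAs (IsFinite (pullback.snd _ _))
  have hfl2 : Flat (Red.bc f (Red.diag R (ZMod (p ^ n)))).hom :=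
    inferInstanceAs (Flat (pullback.snd _ _))
  exact Groth.Agent.S14695.result hX _ _ ((Over.pullback f).map (SekSuwa.alphaN R lam (p ^ n) h))
    (SekSuwaFin.isIso_generic h f) P a hP P' a' hP' hpush htriv

end Groth.Agent.H40
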