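import Groth.Agent.H40.PushUniq
import Groth.Agent.H40.TorsComp

/-!
# Lifting points along a semilinear map of torsors when the group homomorphism is bijective
on the relevant points
-/

set_option autoImplicit false
set_option backward.isDefEq.respectTransparency.types false
universe u
open CategoryTheory CategoryTheory.Limits MonoidalCategory CartesianMonoidalCategory MonObj GrpObj
  AlgebraicGeometry

namespace Groth.Agent.H40

/-- if the base change of `g` along `ξ` is an isomorphism, then composition with `g` is bijective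
on points whose structure morphism factors through `ξ`. -/
lemma bijective_comp_of_factors {X E : Scheme.{u}} (ξ : E ⟶ X) {G G' : Over X} (g : G ⟶ G')
    (hg : IsIso ((Over.pullback ξ).map g)) (Z : Over X) (z : Z.left ⟶ E) (hz : z ≫ ξ = Z.hom) :
    Function.Bijective (fun x : Z ⟶ G => x ≫ g) := by
  let Z₀ : Over E := Over.mk z
  let e : Z ≅ (Over.map ξ).obj Z₀ := Over.isoMk (Iso.refl _) (by simp [Z₀, hz])
  let adj := Over.mapPullbackAdj ξ
  constructor
  · intro x y hxy
    have h1 : adj.homEquiv Z₀ G (e.inv ≫ x) ≫ (Over.pullback ξ).map g =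
        adj.homEquiv Z₀ G (e.inv ≫ y) ≫ (Over.pullback ξ).map g := by
      rw [← Adjunction.homEquiv_naturality_right, ← Adjunction.homEquiv_naturality_right,
        Category.assoc, Category.assoc]
      exact congrArg (fun t => adj.homEquiv Z₀ G' (e.inv ≫ t)) hxy
    have h2 := (cancel_mono ((Over.pullback ξ).map g)).1 h1
    have h3 := (adj.homEquiv Z₀ G).injective h2
    exact (cancel_epi e.inv).1 h3
  · intro y
    refine ⟨e.hom ≫ (adj.homEquiv Z₀ G).symm
      (adj.homEquiv Z₀ G' (e.inv ≫ y) ≫ inv ((Over.pullback ξ).map g)), ?_⟩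
    change (e.hom ≫ _) ≫ g = y
    rw [Category.assoc, ← Adjunction.homEquiv_naturality_right_symm, Category.assoc,
      IsIso.inv_hom_id, Category.comp_id, Equiv.symm_apply_apply, e.hom_inv_id_assoc]

variable {S : Scheme.{u}} {G G' P P' : Over S} [GrpObj G] [GrpObj G']

/-- lifting a point of `P'` to `P` along a semilinear morphism. -/
theorem exists_lift_of_semilinear (g : G ⟶ G') [IsMonHom g] (a : AlgGrp.Action G P)
    (hP : NonAbH1.IsTorsorFor Scheme.fpqcPrecoverage a) (a' : AlgGrp.Action G' P')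
    (hP' : NonAbH1.IsPseudoTorsorSch a') (j : P ⟶ P')
    (hj : a.act ≫ j = lift (fst G P ≫ g) (snd G P ≫ j) ≫ a'.act) (T : Over S)
    (hbij : ∀ (Z : Over S) (_ : Z ⟶ T), Function.Bijective (fun x : Z ⟶ G => x ≫ g))
    (p' : T ⟶ P') : ∃ p : T ⟶ P, p ≫ j = p' := by
  have hpbP := isPullback_toUnit_of_isPseudoTorsor a hP.1
  have hpbP' := isPullback_toUnit_of_isPseudoTorsor a' hP'
  have hsl : ∀ {Z : Over S} (h : Z ⟶ G) (x : Z ⟶ P),
      psmul a h x ≫ j = psmul a' (h ≫ g) (x ≫ j) :=
    fun h x => psmul_comp_of_semilinear g a a' j hj h x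
  -- injectivity of `j` on points over `T`
  have hinj : ∀ (Z : Over S) (_ : Z ⟶ T) (x y : Z ⟶ P), x ≫ j = y ≫ j → x = y := by
    intro Z z x y hxy
    obtain ⟨h, hh⟩ := exists_psmul_of_isPullback a (toUnit P) hpbP x y (toUnit_unique _ _)
    have h1 : psmul a' (h ≫ g) (y ≫ j) = psmul a' 1 (y ≫ j) := by
      rw [← hsl, hh, one_psmul, hxy]
    have h2 : h ≫ g = 1 := eq_of_psmul_eq_of_isPullback a' (toUnit P') hpbP' _ _ _ h1
    have h3 : h = 1 := (hbij Z z).1 (by
      change h ≫ g = 1 ≫ g
      rw [h2, MonObj.one_comp])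
    rw [← hh, h3, one_psmul]
  obtain ⟨g', hg'⟩ := exists_psmul_of_isPullback a' (toUnit P') hpbP' (fst T P ≫ p')
    (snd T P ≫ j) (toUnit_unique _ _)
  obtain ⟨g₁, hg₁⟩ := (hbij (T ⊗ P) (fst T P)).2 g'
  have hg₁' : g₁ ≫ g = g' := hg₁
  have hej : psmul a g₁ (snd T P) ≫ j = fst T P ≫ p' := by
    rw [hsl, hg₁', hg']
  have hloc : NonAbH1.IsLocallyTrivialFor Scheme.fpqcPrecoverage
      (Over.mk (fst T P).left : Over T.left) := isLocallyTrivialFor_fst T hP.2
  have hepi : Epi (fst T P) := epi_of_locallyTrivial _ hloc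
  obtain ⟨w, hw, -⟩ := existsUnique_desc_over_of_locallyTrivial (fst T P) hloc
    (psmul a g₁ (snd T P)) (by
      intro Z z₁ z₂ h12
      apply hinj Z (z₁ ≫ fst T P)
      rw [Category.assoc, Category.assoc, hej, ← Category.assoc, ← Category.assoc, h12])
  refine ⟨w, ?_⟩
  rw [← cancel_epi (fst T P), ← Category.assoc, hw, hej]

end Groth.Agent.H40
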