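import Mathlib

/-!
# Open subobjects of schemes and fpqc descent of open subschemes
-/

set_option autoImplicit false
universe u
open CategoryTheory CategoryTheory.Limits AlgebraicGeometry

namespace Groth.Agent.H40

lemma range_snd_of_isPullback {P X Y Z : Scheme.{u}} {fst : P ⟶ X} {snd : P ⟶ Y} {f : X ⟶ Z}
    {g : Y ⟶ Z} (h : IsPullback fst snd f g) : Set.range snd = g ⁻¹' Set.range f := by
  rw [← Scheme.Pullback.range_snd, ← h.isoPullback_hom_snd, Scheme.Hom.comp_base,
    TopCat.coe_comp, Set.range_comp]
  have : Function.Surjective h.isoPullback.hom := by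
    have : IsIso h.isoPullback.hom := inferInstance
    exact (Scheme.Hom.homeomorph h.isoPullback.hom).surjective
  rw [this.range_eq, Set.image_univ]

/-- range of the arrow of a pulled back subobject. -/
lemma range_pullback_arrow {X Y : Scheme.{u}} (f : X ⟶ Y) (y : Subobject Y) :
    Set.range ((Subobject.pullback f).obj y).arrow = f ⁻¹' Set.range y.arrow :=
  range_snd_of_isPullback (Subobject.isPullback f y)

/-- open subobjects are determined by their range. -/
lemma subobject_eq_of_range_eq {X : Scheme.{u}} (Y₁ Y₂ : Subobject X) [IsOpenImmersion Y₁.arrow]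
    [IsOpenImmersion Y₂.arrow] (h : Set.range Y₁.arrow = Set.range Y₂.arrow) : Y₁ = Y₂ :=
  Subobject.eq_of_comm (IsOpenImmersion.isoOfRangeEq Y₁.arrow Y₂.arrow h)
    (IsOpenImmersion.isoOfRangeEq_hom_fac _ _ _)

lemma isOpenImmersion_pullback_arrow {X Y : Scheme.{u}} (f : X ⟶ Y) (y : Subobject Y)
    [IsOpenImmersion y.arrow] : IsOpenImmersion ((Subobject.pullback f).obj y).arrow :=
  MorphismProperty.of_isPullback (P := @IsOpenImmersion) (Subobject.isPullback f y) inferInstance

instance isOpenImmersion_mk_arrow {X : Scheme.{u}} (U : X.Opens) :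
    IsOpenImmersion (Subobject.mk U.ι).arrow := by
  rw [← Subobject.underlyingIso_hom_comp_eq_mk]
  infer_instance

lemma range_mk_arrow {X : Scheme.{u}} (U : X.Opens) :
    Set.range (Subobject.mk U.ι).arrow = (U : Set X) := by
  rw [← Subobject.underlyingIso_hom_comp_eq_mk, Scheme.Hom.comp_base, TopCat.coe_comp,
    Set.range_comp]
  have : Function.Surjective (Subobject.underlyingIso U.ι).hom :=
    (Scheme.Hom.homeomorph (Subobject.underlyingIso U.ι).hom).surjective
  rw [this.range_eq, Set.image_univ, Scheme.Opens.range_ι]

theorem bijOn_pullback_open {X X' : Scheme.{u}} (π : X ⟶ X')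
    [Flat π] [Surjective π] [QuasiCompact π] :
    Set.BijOn (Subobject.pullback π).obj
      {Y' : Subobject X' | IsOpenImmersion Y'.arrow}
      {Y : Subobject X | IsOpenImmersion Y.arrow ∧
        (Subobject.pullback (pullback.fst π π)).obj Y =
          (Subobject.pullback (pullback.snd π π)).obj Y} := by
  refine ⟨?_, ?_, ?_⟩
  · intro Y' hY'
    have : IsOpenImmersion Y'.arrow := hY'
    refine ⟨isOpenImmersion_pullback_arrow π Y', ?_⟩
    rw [← Subobject.pullback_comp, ← Subobject.pullback_comp, pullback.condition]
  · intro Y₁ h₁ Y₂ h₂ h12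
    have : IsOpenImmersion Y₁.arrow := h₁
    have : IsOpenImmersion Y₂.arrow := h₂
    apply subobject_eq_of_range_eq
    have := congrArg (fun Z : Subobject X => Set.range Z.arrow) h12
    simp only [range_pullback_arrow] at this
    exact (π.surjective.preimage_injective) this
  · rintro Y ⟨hY, hst⟩
    have : IsOpenImmersion Y.arrow := hY
    set U : Set X := Set.range Y.arrow with hU
    have hUo : IsOpen U := Y.arrow.isOpenEmbedding.isOpen_range
    have hsat : π ⁻¹' (π '' U) = U := by
      apply Set.Subset.antisymm
      · rintro x₂ ⟨x, hx, hxx⟩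
        obtain ⟨z, hz1, hz2⟩ := Scheme.Pullback.exists_preimage_pullback (f := π) (g := π) x x₂ hxx
        have h1 : z ∈ Set.range ((Subobject.pullback (pullback.fst π π)).obj Y).arrow := by
          rw [range_pullback_arrow]
          change pullback.fst π π z ∈ U
          rw [hz1]
          exact hx
        rw [hst, range_pullback_arrow] at h1
        change pullback.snd π π z ∈ U at h1
        rwa [hz2] at h1
      · exact Set.subset_preimage_image _ _
    have hVo : IsOpen (π '' U) := by
      rw [← (Flat.isQuotientMap_of_surjective π).isOpen_preimage, hsat]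
      exact hUo
    let V : X'.Opens := ⟨π '' U, hVo⟩
    refine ⟨Subobject.mk V.ι, isOpenImmersion_mk_arrow V, ?_⟩
    have := isOpenImmersion_pullback_arrow π (Subobject.mk V.ι)
    apply subobject_eq_of_range_eq
    rw [range_pullback_arrow, range_mk_arrow]
    exact hsat

end Groth.Agent.H40
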