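import Groth.Agent.H40.PrincBundle
import Groth.Agent.H40.SubobjOpen

/-!
# Separatedness of a geometric quotient and closedness of the image of `(σ, p₂)`
-/

set_option autoImplicit false
set_option backward.isDefEq.respectTransparency.types false
universe u
open CategoryTheory CategoryTheory.Limits MonoidalCategory CartesianMonoidalCategory MonObj GrpObj Topology
  AlgebraicGeometry

namespace Groth.Agent.H40

instance topologically_isQuotientMap_comp :
    (topologically @IsQuotientMap : MorphismProperty Scheme.{u}).IsStableUnderComposition :=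
  topologically_isStableUnderComposition _ (fun _ _ hf hg => hg.comp hf)

/-- for a universally submersive surjective `q : X ⟶ Y` over `S`, `Y` is separated over `S` iff
the image of `X ×_Y X` in `X ×_S X` is closed. -/
lemma isSeparated_iff_isClosed_range {X Y S : Scheme.{u}} (q : X ⟶ Y) (i : Y ⟶ S)
    (j : X ⟶ S) (h : q ≫ i = j) (hq : GIT.IsUnivSubmersive q) :
    IsSeparated i ↔ IsClosed (Set.range (pullback.lift (pullback.fst q q) (pullback.snd q q)
      (by rw [← h, pullback.condition_assoc]) : pullback q q ⟶ pullback j j)) := by
  subst h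
  have hpb := pullback_map_diagonal_isPullback q q i
  have e : pullback.lift (pullback.fst q q) (pullback.snd q q)
      (by rw [pullback.condition_assoc]) =
      pullback.map q q (q ≫ i) (q ≫ i) (𝟙 _) (𝟙 _) i (Category.id_comp _).symm
        (Category.id_comp _).symm := by
    apply pullback.hom_ext
    · rw [pullback.lift_fst, pullback.lift_fst, Category.comp_id]
    · rw [pullback.lift_snd, pullback.lift_snd, Category.comp_id]
  rw [e, range_snd_of_isPullback hpb]
  have hm : GIT.IsUnivSubmersive (pullback.map (q ≫ i) (q ≫ i) i i q q (𝟙 S)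
      ((Category.comp_id _).trans rfl) ((Category.comp_id _).trans rfl)) :=
    MorphismProperty.pullbackMap
      (P := MorphismProperty.universally (topologically @IsQuotientMap)) hq hq rfl rfl
  have hquot : IsQuotientMap (pullback.map (q ≫ i) (q ≫ i) i i q q (𝟙 S)
      ((Category.comp_id _).trans rfl) ((Category.comp_id _).trans rfl)) :=
    MorphismProperty.universally_le _ _ hm
  rw [hquot.isClosed_preimage]
  constructor
  · intro hs
    exact (inferInstance : IsClosedImmersion (pullback.diagonal i)).base_closed.isClosed_range
  · intro hc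
    exact ⟨IsClosedImmersion.of_isPreimmersion _ hc⟩

variable {S : Scheme.{u}} {G X Y : Over S} [GrpObj G]

/-- `(σ, p₂) : G × X ⟶ X × X` factors through `X ×_Y X`. -/
lemma psi_eq_PsiY_comp (a : AlgGrp.Action G X) (q : X ⟶ Y) (hinv : GIT.IsInvariant a q) :
    (GIT.psi a (𝟙 X)).left = GIT.PsiY a q hinv ≫
      (pullback.lift (pullback.fst q.left q.left) (pullback.snd q.left q.left)
        (by rw [← Over.w q, pullback.condition_assoc]) :
        pullback q.left q.left ⟶ pullback X.hom X.hom) := by
  apply pullback.hom_ext
  · rw [Category.assoc, pullback.lift_fst]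
    have h1 : GIT.PsiY a q hinv ≫ pullback.fst q.left q.left = a.act.left :=
      pullback.lift_fst _ _ _
    rw [h1]
    change (GIT.psi a (𝟙 X)).left ≫ (fst X X).left = _
    rw [← Over.comp_left, GIT.psi, lift_fst]
    simp
  · rw [Category.assoc, pullback.lift_snd]
    have h1 : GIT.PsiY a q hinv ≫ pullback.snd q.left q.left = (snd G X).left :=
      pullback.lift_snd _ _ _
    rw [h1]
    change (GIT.psi a (𝟙 X)).left ≫ (snd X X).left = _
    rw [← Over.comp_left, GIT.psi, lift_snd]

theorem isSeparated_iff_isClosed_range_psi (a : AlgGrp.Action G X) (φ : X ⟶ Y)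
    (h : GIT.IsGeomQuot a φ) :
    IsSeparated Y.hom ↔ IsClosed (Set.range (GIT.psi a (𝟙 X)).left.base) := by
  rw [isSeparated_iff_isClosed_range φ.left Y.hom X.hom (Over.w φ) h.subm,
    psi_eq_PsiY_comp a φ h.inv]
  have : Set.range (GIT.PsiY a φ h.inv ≫
      (pullback.lift (pullback.fst φ.left φ.left) (pullback.snd φ.left φ.left)
        (by rw [← Over.w φ, pullback.condition_assoc]) :
        pullback φ.left φ.left ⟶ pullback X.hom X.hom)).base =
      Set.range (pullback.lift (pullback.fst φ.left φ.left) (pullback.snd φ.left φ.left)
        (by rw [← Over.w φ, pullback.condition_assoc]) :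
        pullback φ.left φ.left ⟶ pullback X.hom X.hom).base := by
    rw [Scheme.Hom.comp_base, TopCat.coe_comp, Set.range_comp, h.orbit.range_eq, Set.image_univ]
  rw [this]

end Groth.Agent.H40
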