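import Groth.Agent.H40.DoubleQuot
import Groth.Agent.H40.PrincBundle
import Groth.Agent.H40.TorsDesc
import Groth.Agent.H40.ExtTorsor

/-!
# The double quotient `(G₁ × G₂)/G` as a torsor over `G₁/G` and over `G₂/G`
-/

set_option autoImplicit false
universe u
open CategoryTheory CategoryTheory.Limits MonoidalCategory CartesianMonoidalCategory MonObj GrpObj
  AlgebraicGeometry

namespace Groth.Agent.H40.StablyBirat

open Groth.Agent.H40 Groth.Agent.H40.AssocBundle Groth.Agent.H40.DoubleQuot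

variable {S : Scheme.{u}} {G G₁ G₂ Q₁ Q₂ : Over S} [GrpObj G] [GrpObj G₁] [GrpObj G₂]

/-- For closed subgroups `G ⊆ G₁`, `G ⊆ G₂` with quotients `G₁ ⟶ Q₁`, `G₂ ⟶ Q₂`, the double
quotient `Z = (G₁ × G₂)/G` exists, and is a `G₂`-pseudo-torsor over `Q₁` and a `G₁`-pseudo-torsor
over `Q₂`. -/
theorem exists_double_quot (i₁ : G ⟶ G₁) (i₂ : G ⟶ G₂) [IsMonHom i₁] [IsMonHom i₂] [Mono i₁]
    [Mono i₂] (π₁ : G₁ ⟶ Q₁) (π₂ : G₂ ⟶ Q₂)
    (h₁ : IsPullback (fst G₁ G) ((G₁ ◁ i₁) ≫ μ[G₁]) π₁ π₁)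
    (h₂ : IsPullback (fst G₂ G) ((G₂ ◁ i₂) ≫ μ[G₂]) π₂ π₂)
    [Surjective π₁.left] [Flat π₁.left] [QuasiCompact π₁.left] [IsAffineHom (fst G₁ G₂).left] :
    ∃ (Z : Over S) (q : G₁ ⊗ G₂ ⟶ Z) (r₁ : Z ⟶ Q₁) (r₂ : Z ⟶ Q₂)
      (d₂ : AlgGrp.Action G₂ Z) (d₁ : AlgGrp.Action G₁ Z),
      q ≫ r₁ = fst G₁ G₂ ≫ π₁ ∧ q ≫ r₂ = snd G₁ G₂ ≫ π₂ ∧
      IsPullback (fst G₁ G₂) q π₁ r₁ ∧
      IsPullback d₂.act (snd G₂ Z) r₁ r₁ ∧ IsPullback d₁.act (snd G₁ Z) r₂ r₂ := by
  have hc₁ := isPullback_invRight_of_quot i₁ π₁ h₁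
  have hc₂ := isPullback_invRight_of_quot i₂ π₂ h₂
  obtain ⟨Z, q, r₁, hqr₁, hpb, hq⟩ := exists_assocBundle
    ((AlgGrp.Action.invRight G₁).restrict i₁) π₁ hc₁ ((AlgGrp.Action.invRight G₂).restrict i₂)
  have sqL : IsPullback (fst G₁ G₂).left q.left π₁.left r₁.left := hpb.map (Over.forget S)
  have hqfl : Flat q.left := MorphismProperty.of_isPullback (P := @Flat) sqL inferInstance
  have hqsu : Surjective q.left :=
    MorphismProperty.of_isPullback (P := @Surjective) sqL inferInstance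
  have hqqc : QuasiCompact q.left :=
    MorphismProperty.of_isPullback (P := @QuasiCompact) sqL inferInstance
  have hlocq := isLocallyTrivialFor_of_fpqc q.left
  -- the second projection
  obtain ⟨r₂, hqr₂, -⟩ := existsUnique_desc_over_of_locallyTrivial q hlocq (snd G₁ G₂ ≫ π₂) (by
    intro T z₁ z₂ hz
    obtain ⟨g, hg⟩ := exists_psmul_of_isPullback _ q hq z₁ z₂ hz
    rw [← hg, ← Category.assoc, ← Category.assoc, psmul_prod_snd, psmul_comp_of_isPullback _ _ hc₂])
  -- the two commuting actions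
  obtain ⟨d₂, -, hd₂⟩ := exists_quot_torsor
    (((AlgGrp.Action.invRight G₁).restrict i₁).prod ((AlgGrp.Action.invRight G₂).restrict i₂))
    ((AlgGrp.Action.trivial G₂ G₁).prod (NonAbH1.trivialAction G₂))
    (by
      intro T g h e
      apply CartesianMonoidalCategory.hom_ext
      · rw [psmul_prod_fst, psmul_prod_fst, psmul_prod_fst, psmul_prod_fst, psmul_def,
          AlgGrp.Action.lift_trivial_act, psmul_def (AlgGrp.Action.trivial G₂ G₁),
          AlgGrp.Action.lift_trivial_act]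
      · rw [psmul_prod_snd, psmul_prod_snd, psmul_prod_snd, psmul_prod_snd, psmul_trivialAction,
          psmul_trivialAction, psmul_invRight_restrict, psmul_invRight_restrict, _root_.mul_assoc])
    ((AlgGrp.Action.invRight G₁).restrict i₁) π₁ hc₁ (fst G₁ G₂)
    (fun g e => psmul_prod_fst _ _ g e)
    (by
      intro T h e
      rw [psmul_prod_fst, psmul_def, AlgGrp.Action.lift_trivial_act])
    (by
      intro T e e' hee
      refine ⟨(e ≫ snd G₁ G₂) * (e' ≫ snd G₁ G₂)⁻¹, ?_⟩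
      apply CartesianMonoidalCategory.hom_ext
      · rw [psmul_prod_fst, psmul_def, AlgGrp.Action.lift_trivial_act, hee]
      · rw [psmul_prod_snd, psmul_trivialAction, inv_mul_cancel_right])
    (by
      intro T h h' e hh
      have := congr($hh ≫ snd G₁ G₂)
      rw [psmul_prod_snd, psmul_prod_snd, psmul_trivialAction, psmul_trivialAction] at this
      exact mul_right_cancel this)
    q hq hlocq r₁ hqr₁
  obtain ⟨d₁, -, hd₁⟩ := exists_quot_torsor
    (((AlgGrp.Action.invRight G₁).restrict i₁).prod ((AlgGrp.Action.invRight G₂).restrict i₂))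
    ((NonAbH1.trivialAction G₁).prod (AlgGrp.Action.trivial G₁ G₂))
    (by
      intro T g h e
      apply CartesianMonoidalCategory.hom_ext
      · rw [psmul_prod_fst, psmul_prod_fst, psmul_prod_fst, psmul_prod_fst, psmul_trivialAction,
          psmul_trivialAction, psmul_invRight_restrict, psmul_invRight_restrict, _root_.mul_assoc]
      · rw [psmul_prod_snd, psmul_prod_snd, psmul_prod_snd, psmul_prod_snd, psmul_def,
          AlgGrp.Action.lift_trivial_act, psmul_def (AlgGrp.Action.trivial G₁ G₂),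
          AlgGrp.Action.lift_trivial_act])
    ((AlgGrp.Action.invRight G₂).restrict i₂) π₂ hc₂ (snd G₁ G₂)
    (fun g e => psmul_prod_snd _ _ g e)
    (by
      intro T h e
      rw [psmul_prod_snd, psmul_def, AlgGrp.Action.lift_trivial_act])
    (by
      intro T e e' hee
      refine ⟨(e ≫ fst G₁ G₂) * (e' ≫ fst G₁ G₂)⁻¹, ?_⟩
      apply CartesianMonoidalCategory.hom_ext
      · rw [psmul_prod_fst, psmul_trivialAction, inv_mul_cancel_right]
      · rw [psmul_prod_snd, psmul_def, AlgGrp.Action.lift_trivial_act, hee])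
    (by
      intro T h h' e hh
      have := congr($hh ≫ fst G₁ G₂)
      rw [psmul_prod_fst, psmul_prod_fst, psmul_trivialAction, psmul_trivialAction] at this
      exact mul_right_cancel this)
    q hq hlocq r₂ hqr₂
  exact ⟨Z, q, r₁, r₂, d₂, d₁, hqr₁, hqr₂, hpb, hd₂, hd₁⟩

end Groth.Agent.H40.StablyBirat
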