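import Groth.Agent.H40.StablyBirat
import Groth.Agent.H40.Birat2
import Groth.Agent.H40.FlatDesc
import Groth.Agent.H40.FpqcTors
import Groth.Agent.H40.QuotFP

/-!
# Stable birational equivalence of `G₁/G` and `G₂/G` for special rational groups `G₁`, `G₂`
-/

set_option autoImplicit false
universe u
open CategoryTheory CategoryTheory.Limits MonoidalCategory CartesianMonoidalCategory MonObj GrpObj
  AlgebraicGeometry

namespace Groth.Agent.H40.StablyBirat

open Groth.Agent.H40 Groth.Agent.H40.Birat

/-- a pseudo-torsor with a section over a dense open is birational to the trivial torsor. -/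
theorem birationalOver_of_section {S : Scheme.{u}} {H Z Y : Over S} [GrpObj H]
    (c : AlgGrp.Action H Z) (r : Z ⟶ Y) (hr : IsPullback c.act (snd H Z) r r)
    (W : Y.left.Opens) (hW : Dense (W : Set Y.left)) (s : (W : Scheme.{u}) ⟶ Z.left)
    (hs : s ≫ r.left = W.ι) [UniversallyOpen H.hom] (hopen : IsOpenMap r.left) :
    Scheme.BirationalOver Z.hom (H ⊗ Y).hom := by
  let Wo : Over S := Over.mk (W.ι ≫ Y.hom)
  let j : Wo ⟶ Y := Over.homMk W.ι rfl
  have hsw : s ≫ Z.hom = Wo.hom := by
    change s ≫ Z.hom = W.ι ≫ Y.hom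
    rw [← hs, Category.assoc, Over.w r]
  let σ : Wo ⟶ Z := Over.homMk s hsw
  have hσ : σ ≫ r = j := by
    apply Over.OverMorphism.ext
    exact hs
  let τ : H ⊗ Wo ⟶ Z := (H ◁ σ) ≫ c.act
  have sq1 : IsPullback (H ◁ σ) (snd H Wo) (snd H Z) σ := isPullback_whiskerLeft_snd σ H
  have sq : IsPullback τ (snd H Wo) r j := by
    have := sq1.paste_horiz hr
    rwa [hσ] at this
  have sqL : IsPullback (snd H Wo).left τ.left j.left r.left := (sq.map (Over.forget S)).flip
  have hj : IsOpenImmersion j.left := inferInstanceAs (IsOpenImmersion W.ι)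
  have hd : IsDominant j.left := by
    refine ⟨?_⟩
    change DenseRange W.ι
    rw [DenseRange, Scheme.Opens.range_ι]
    exact hW
  have h1 : IsOpenImmersion τ.left :=
    MorphismProperty.of_isPullback (P := @IsOpenImmersion) sqL hj
  have h2 : IsDominant τ.left := isDominant_of_isPullback sqL hopen
  have b1 : Scheme.BirationalOver (H ⊗ Wo).hom Z.hom :=
    Scheme.Hom.birationalOver τ.left _ _ (Over.w τ)
  have b2 : Scheme.BirationalOver Wo.hom Y.hom := Scheme.Hom.birationalOver j.left _ _ (Over.w j)
  have b3 : Scheme.BirationalOver (H ⊗ Wo).hom (H ⊗ Y).hom := birationalOver_tensor_left b2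
  exact b1.symm.trans b3

end Groth.Agent.H40.StablyBirat
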