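import Groth.Agent.H40.StablyBirat2

/-!
# Stable birational equivalence of `G₁/G` and `G₂/G`: the case of a field
-/

set_option autoImplicit false
universe u
open CategoryTheory CategoryTheory.Limits MonoidalCategory CartesianMonoidalCategory MonObj GrpObj
  AlgebraicGeometry

namespace Groth.Agent.H40.StablyBirat

open Groth.Agent.H40 Groth.Agent.H40.Birat

instance subsingleton_spec_field {k : Type u} [Field k] :
    Subsingleton (Spec (CommRingCat.of k)) :=
  inferInstanceAs (Subsingleton (PrimeSpectrum k))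

/-- a torsor under a special group over an irreducible base is birational to the trivial torsor. -/
theorem birationalOver_of_special {k : Type u} [Field k]
    {H Z Y : Over (Spec (CommRingCat.of k))} [GrpObj H]
    (hsp : ∀ (X' Y' : Over (Spec (CommRingCat.of k))) (a : AlgGrp.Action H X') (p : X' ⟶ Y'),
      LocallyOfFiniteType X'.hom → QuasiCompact X'.hom → LocallyOfFiniteType Y'.hom →
      QuasiCompact Y'.hom → Flat p.left → Surjective p.left →
      IsPullback a.act.left (snd H X').left p.left p.left →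
      ∀ y : ↥Y'.left, ∃ (W : Y'.left.Opens) (s : (W : Scheme.{u}) ⟶ X'.left),
        y ∈ W ∧ s ≫ p.left = W.ι)
    (c : AlgGrp.Action H Z) (r : Z ⟶ Y) (hr : IsPullback c.act (snd H Z) r r)
    [LocallyOfFiniteType Z.hom] [QuasiCompact Z.hom] [LocallyOfFiniteType Y.hom]
    [QuasiCompact Y.hom] [Flat r.left] [Surjective r.left] [IrreducibleSpace Y.left] :
    Scheme.BirationalOver Z.hom (H ⊗ Y).hom := by
  obtain ⟨y⟩ : Nonempty Y.left := inferInstance
  obtain ⟨W, s, hyW, hs⟩ := hsp Z Y c r inferInstance inferInstance inferInstance inferInstance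
    inferInstance inferInstance (hr.map (Over.forget _)) y
  have hW : Dense (W : Set Y.left) := W.isOpen.dense ⟨y, hyW⟩
  have hYn : IsLocallyNoetherian Y.left := LocallyOfFiniteType.isLocallyNoetherian Y.hom
  have hrlft : LocallyOfFiniteType r.left := by
    have : LocallyOfFiniteType (r.left ≫ Y.hom) := by
      rw [Over.w r]
      infer_instance
    exact locallyOfFiniteType_of_comp r.left Y.hom
  have hrlfp : LocallyOfFinitePresentation r.left := inferInstance
  have hopen : IsOpenMap r.left := r.left.isOpenMap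
  exact birationalOver_of_section c r hr W hW s hs hopen

/-- the affine space of dimension `s` over a field, as an object over `Spec k`. -/
noncomputable abbrev affSp (k : Type u) [Field k] (s : ℕ) : Over (Spec (CommRingCat.of k)) :=
  Over.mk (Spec.map (CommRingCat.ofHom (algebraMap k (MvPolynomial (Fin s) k))))

lemma surjective_hom_of_grpObj {S : Scheme.{u}} (G : Over S) [GrpObj G] : Surjective G.hom := by
  have h : η[G].left ≫ G.hom = 𝟙 S := Over.w η[G]
  have : Surjective (η[G].left ≫ G.hom) := by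
    rw [h]
    exact ⟨fun x => ⟨x, rfl⟩⟩
  exact Surjective.of_comp η[G].left G.hom

/-- `G₁/G` and `G₂/G` are stably birational when `G₁`, `G₂` are special and rational. -/
theorem stably_birational (k : Type u) [Field k]
    (G G₁ G₂ : Over (Spec (CommRingCat.of k))) [GrpObj G] [GrpObj G₁] [GrpObj G₂]
    [IsAffine G₁.left] [IsAffine G₂.left]
    [LocallyOfFiniteType G₁.hom] [LocallyOfFiniteType G₂.hom]
    (i₁ : G ⟶ G₁) (i₂ : G ⟶ G₂) [IsMonHom i₁] [IsMonHom i₂] [Mono i₁] [Mono i₂]
    (hsp₁ : (∀ (X' Y' : Over (Spec (CommRingCat.of k))) (a : AlgGrp.Action G₁ X') (p : X' ⟶ Y'),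
      LocallyOfFiniteType X'.hom → QuasiCompact X'.hom → LocallyOfFiniteType Y'.hom → QuasiCompact Y'.hom →
      Flat p.left → Surjective p.left → IsPullback a.act.left (snd G₁ X').left p.left p.left →
      ∀ y : ↥Y'.left, ∃ (W : Y'.left.Opens) (s : (W : Scheme.{u}) ⟶ X'.left), y ∈ W ∧ s ≫ p.left = W.ι))
    (hsp₂ : (∀ (X' Y' : Over (Spec (CommRingCat.of k))) (a : AlgGrp.Action G₂ X') (p : X' ⟶ Y'),
      LocallyOfFiniteType X'.hom → QuasiCompact X'.hom → LocallyOfFiniteType Y'.hom → QuasiCompact Y'.hom →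
      Flat p.left → Surjective p.left → IsPullback a.act.left (snd G₂ X').left p.left p.left →
      ∀ y : ↥Y'.left, ∃ (W : Y'.left.Opens) (s : (W : Scheme.{u}) ⟶ X'.left), y ∈ W ∧ s ≫ p.left = W.ι))
    [Scheme.IsRationalOver G₁.hom] [Scheme.IsRationalOver G₂.hom]
    (Q₁ Q₂ : Over (Spec (CommRingCat.of k))) (π₁ : G₁ ⟶ Q₁) (π₂ : G₂ ⟶ Q₂)
    [LocallyOfFiniteType Q₁.hom] [LocallyOfFiniteType Q₂.hom]
    [Flat π₁.left] [Surjective π₁.left] [Flat π₂.left] [Surjective π₂.left]
    (h₁ : IsPullback (fst G₁ G) ((G₁ ◁ i₁) ≫ μ[G₁]) π₁ π₁)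
    (h₂ : IsPullback (fst G₂ G) ((G₂ ◁ i₂) ≫ μ[G₂]) π₂ π₂) :
    ∃ r s : ℕ, Scheme.BirationalOver (Q₁ ⊗ affSp k r).hom (Q₂ ⊗ affSp k s).hom := by
  -- noetherian-ness and quasi-compactness
  have hN₁ : IsLocallyNoetherian G₁.left := LocallyOfFiniteType.isLocallyNoetherian G₁.hom
  have hN₂ : IsLocallyNoetherian G₂.left := LocallyOfFiniteType.isLocallyNoetherian G₂.hom
  have hNN₁ : IsNoetherian G₁.left := {}
  have hNN₂ : IsNoetherian G₂.left := {}
  have hqcπ₁ : QuasiCompact π₁.left := inferInstance
  have hqcπ₂ : QuasiCompact π₂.left := inferInstance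
  have haff : IsAffineHom (fst G₁ G₂).left := by
    change IsAffineHom (pullback.fst G₁.hom G₂.hom)
    infer_instance
  have hG₁su : Surjective G₁.hom := surjective_hom_of_grpObj G₁
  have hG₂su : Surjective G₂.hom := surjective_hom_of_grpObj G₂
  -- irreducibility
  have hirr₁ : IrreducibleSpace G₁.left := irreducibleSpace_of_isRationalOver G₁.hom
  have hirr₂ : IrreducibleSpace G₂.left := irreducibleSpace_of_isRationalOver G₂.hom
  have hQirr₁ : IrreducibleSpace Q₁.left :=
    π₁.left.surjective.irreducibleSpace π₁.left.continuous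
  have hQirr₂ : IrreducibleSpace Q₂.left :=
    π₂.left.surjective.irreducibleSpace π₂.left.continuous
  -- quasi-compactness of the quotients
  have hQqc₁ : QuasiCompact Q₁.hom := by
    have : QuasiCompact (π₁.left ≫ Q₁.hom) := by rw [Over.w π₁]; infer_instance
    exact QuotFP.quasiCompact_of_surjective_comp π₁.left Q₁.hom
  have hQqc₂ : QuasiCompact Q₂.hom := by
    have : QuasiCompact (π₂.left ≫ Q₂.hom) := by rw [Over.w π₂]; infer_instance
    exact QuotFP.quasiCompact_of_surjective_comp π₂.left Q₂.hom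
  -- the double quotient
  obtain ⟨Z, q, r₁, r₂, d₂, d₁, hqr₁, hqr₂, hpb, hd₂, hd₁⟩ :=
    exists_double_quot i₁ i₂ π₁ π₂ h₁ h₂
  have sqL : IsPullback (fst G₁ G₂).left q.left π₁.left r₁.left := hpb.map (Over.forget _)
  have hqfl : Flat q.left := MorphismProperty.of_isPullback (P := @Flat) sqL inferInstance
  have hqsu : Surjective q.left :=
    MorphismProperty.of_isPullback (P := @Surjective) sqL inferInstance
  have hcov : (@Surjective ⊓ @Flat ⊓ @QuasiCompact : MorphismProperty Scheme.{u}) π₁.left :=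
    ⟨⟨inferInstance, inferInstance⟩, inferInstance⟩
  have hfstfl : Flat (fst G₁ G₂).left := by
    change Flat (pullback.fst G₁.hom G₂.hom)
    infer_instance
  have hfstlft : LocallyOfFiniteType (fst G₁ G₂).left := by
    change LocallyOfFiniteType (pullback.fst G₁.hom G₂.hom)
    infer_instance
  have hfstsu : Surjective (fst G₁ G₂).left := by
    change Surjective (pullback.fst G₁.hom G₂.hom)
    infer_instance
  have hsndsu : Surjective (snd G₁ G₂).left := by
    change Surjective (pullback.snd G₁.hom G₂.hom)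
    infer_instance
  have hsndfl : Flat (snd G₁ G₂).left := by
    change Flat (pullback.snd G₁.hom G₂.hom)
    infer_instance
  -- properties of `r₁`
  have hr₁fl : Flat r₁.left :=
    MorphismProperty.DescendsAlong.of_isPullback (P := @Flat)
      (Q := (@Surjective ⊓ @Flat ⊓ @QuasiCompact : MorphismProperty Scheme.{u}))
      (self := flat_descendsAlong) sqL hcov hfstfl
  have hr₁lft : LocallyOfFiniteType r₁.left :=
    MorphismProperty.DescendsAlong.of_isPullback (P := @LocallyOfFiniteType)
      (Q := (@Surjective ⊓ @Flat ⊓ @QuasiCompact : MorphismProperty Scheme.{u}))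
      sqL hcov hfstlft
  have hr₁su : Surjective r₁.left := by
    have : Surjective (q.left ≫ r₁.left) := by
      rw [← Over.comp_left, hqr₁, Over.comp_left]
      infer_instance
    exact Surjective.of_comp q.left r₁.left
  -- properties of `r₂`
  have hr₂fl : Flat r₂.left := by
    have : Flat (q.left ≫ r₂.left) := by
      rw [← Over.comp_left, hqr₂, Over.comp_left]
      infer_instance
    exact flat_of_flat_comp q.left r₂.left
  have hr₂su : Surjective r₂.left := by
    have : Surjective (q.left ≫ r₂.left) := by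
      rw [← Over.comp_left, hqr₂, Over.comp_left]
      infer_instance
    exact Surjective.of_comp q.left r₂.left
  -- properties of `Z`
  have hZlft : LocallyOfFiniteType Z.hom := by
    rw [← Over.w r₁]
    infer_instance
  have hZqc : QuasiCompact Z.hom := by
    have : QuasiCompact (q.left ≫ Z.hom) := by
      rw [Over.w q]
      change QuasiCompact (pullback.fst G₁.hom G₂.hom ≫ G₁.hom)
      infer_instance
    exact QuotFP.quasiCompact_of_surjective_comp q.left Z.hom
  -- the two birational equivalences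
  have b₁ : Scheme.BirationalOver Z.hom (G₂ ⊗ Q₁).hom := birationalOver_of_special hsp₂ d₂ r₁ hd₂
  have b₂ : Scheme.BirationalOver Z.hom (G₁ ⊗ Q₂).hom := birationalOver_of_special hsp₁ d₁ r₂ hd₁
  obtain ⟨s₁, hs₁⟩ := exists_fin_birationalOver G₁.hom
  obtain ⟨s₂, hs₂⟩ := exists_fin_birationalOver G₂.hom
  have c₁ : Scheme.BirationalOver (G₂ ⊗ Q₁).hom (affSp k s₂ ⊗ Q₁).hom :=
    birationalOver_tensor_right (X := G₂) (X' := affSp k s₂) (Y := Q₁) hs₂
  have c₂ : Scheme.BirationalOver (G₁ ⊗ Q₂).hom (affSp k s₁ ⊗ Q₂).hom :=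
    birationalOver_tensor_right (X := G₁) (X' := affSp k s₁) (Y := Q₂) hs₁
  refine ⟨s₂, s₁, ?_⟩
  exact (birationalOver_of_iso (β_ Q₁ (affSp k s₂))).trans (c₁.symm.trans (b₁.symm.trans
    (b₂.trans (c₂.trans (birationalOver_of_iso (β_ (affSp k s₁) Q₂))))))

end Groth.Agent.H40.StablyBirat
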