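import Groth.Agent.H40.RedStruct
import Groth.Prelude.Def_W4bk4git07Quot

/-!
# An equivariant morphism of principal bundles gives a cartesian square
-/

set_option autoImplicit false
set_option backward.isDefEq.respectTransparency.types false
universe u
open CategoryTheory CategoryTheory.Limits MonoidalCategory CartesianMonoidalCategory MonObj GrpObj
  AlgebraicGeometry

namespace Groth.Agent.H40

variable {S : Scheme.{u}} {G X Y X' Y' : Over S} [GrpObj G]

/-- Let `q : X ⟶ Y` and `q' : X' ⟶ Y'` be principal `G`-bundles (the first one fpqc locally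
trivial), `f : X ⟶ X'` equivariant covering `fbar : Y ⟶ Y'`. Then `X = Y ×_{Y'} X'`. -/
theorem isPullback_of_equivariant_of_torsors
    (a : AlgGrp.Action G X) (q : X ⟶ Y) (hsq : IsPullback a.act (snd G X) q q)
    (hloc : NonAbH1.IsLocallyTrivialFor Scheme.fpqcPrecoverage (Over.mk q.left : Over Y.left))
    (a' : AlgGrp.Action G X') (q' : X' ⟶ Y') (hsq' : IsPullback a'.act (snd G X') q' q')
    (f : X ⟶ X') (hf : AlgGrp.Action.IsEquivariant a a' f) (fbar : Y ⟶ Y')
    (hw : f ≫ q' = q ≫ fbar) : IsPullback f q q' fbar := by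
  have huniq : ∀ {T : Over S} (p p' : T ⟶ X), p ≫ f = p' ≫ f → p ≫ q = p' ≫ q → p = p' := by
    intro T p p' h1 h2
    obtain ⟨g, hg⟩ := exists_psmul_of_isPullback a q hsq p p' h2
    have h3 : psmul a' g (p' ≫ f) = psmul a' 1 (p' ≫ f) := by
      rw [← psmul_comp_of_isEquivariant a a' f hf, hg, one_psmul, h1]
    have hg1 : g = 1 := eq_of_psmul_eq_of_isPullback a' q' hsq' g 1 _ h3
    rw [← hg, hg1, one_psmul]
  apply isPullback_of_points hw
  · intro T x' y hxy
    -- the torsor `T ×_Y X ⟶ T`
    have hpb := IsPullback.of_hasPullback y q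
    have hlocT : NonAbH1.IsLocallyTrivialFor Scheme.fpqcPrecoverage
        (Over.mk (pullback.fst y q).left : Over T.left) :=
      isLocallyTrivialFor_of_isPullback (hpb.flip.map (Over.forget S)) hloc
    have hepi : Epi (pullback.fst y q) := epi_of_locallyTrivial _ hlocT
    have hπ : (pullback.fst y q ≫ x') ≫ q' = (pullback.snd y q ≫ f) ≫ q' := by
      rw [Category.assoc, Category.assoc, hxy, hw, ← Category.assoc, ← Category.assoc, hpb.w]
    obtain ⟨g, hg⟩ := exists_psmul_of_isPullback a' q' hsq' _ _ hπ
    have hm1 : psmul a g (pullback.snd y q) ≫ f = pullback.fst y q ≫ x' := by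
      rw [psmul_comp_of_isEquivariant a a' f hf, hg]
    have hm2 : psmul a g (pullback.snd y q) ≫ q = pullback.fst y q ≫ y := by
      rw [psmul_comp_of_isPullback a q hsq, hpb.w]
    obtain ⟨w, hw', -⟩ := existsUnique_desc_over_of_locallyTrivial (pullback.fst y q) hlocT
      (psmul a g (pullback.snd y q)) (by
        intro Z z₁ z₂ h12
        apply huniq
        · rw [Category.assoc, Category.assoc, hm1, ← Category.assoc, ← Category.assoc, h12]
        · rw [Category.assoc, Category.assoc, hm2, ← Category.assoc, ← Category.assoc, h12])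
    refine ⟨w, ?_, ?_⟩
    · rw [← cancel_epi (pullback.fst y q), ← Category.assoc, hw', hm1]
    · rw [← cancel_epi (pullback.fst y q), ← Category.assoc, hw', hm2]
  · intro T p p' h1 h2
    exact huniq p p' h1 h2

/-- the scheme-level version. -/
theorem isPullback_left_of_equivariant_of_torsors
    (a : AlgGrp.Action G X) (q : X ⟶ Y) (hsq : IsPullback a.act (snd G X) q q)
    (hloc : NonAbH1.IsLocallyTrivialFor Scheme.fpqcPrecoverage (Over.mk q.left : Over Y.left))
    (a' : AlgGrp.Action G X') (q' : X' ⟶ Y') (hsq' : IsPullback a'.act (snd G X') q' q')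
    (f : X ⟶ X') (hf : AlgGrp.Action.IsEquivariant a a' f) (fbar : Y ⟶ Y')
    (hw : f ≫ q' = q ≫ fbar) : IsPullback f.left q.left q'.left fbar.left :=
  (isPullback_of_equivariant_of_torsors a q hsq hloc a' q' hsq' f hf fbar hw).map (Over.forget S)

/-- from the scheme-level `PsiY` isomorphism to the cartesian square in `Over S`. -/
theorem isPullback_of_isIso_PsiY (a : AlgGrp.Action G X) (q : X ⟶ Y) (hinv : GIT.IsInvariant a q)
    (hiso : IsIso (GIT.PsiY a q hinv)) : IsPullback a.act (snd G X) q q := by
  have hleft : IsPullback a.act.left (snd G X).left q.left q.left := by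
    refine IsPullback.of_iso_pullback ⟨hinv.left⟩ (asIso (GIT.PsiY a q hinv)) ?_ ?_
    · exact pullback.lift_fst _ _ _
    · exact pullback.lift_snd _ _ _
  exact IsPullback.of_map (Over.forget S) hinv hleft

end Groth.Agent.H40
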