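import Groth.Agent.H40.TorsProp

/-!
# Fibre products of quotients of principal bundles
-/

set_option autoImplicit false
set_option backward.isDefEq.respectTransparency.types false
universe u
open CategoryTheory CategoryTheory.Limits MonoidalCategory CartesianMonoidalCategory MonObj GrpObj
  AlgebraicGeometry

namespace Groth.Agent.H40

variable {S : Scheme.{u}}

/-- the abstract statement: quotient of a fibre product of bundles is the fibre product of the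
quotients. -/
theorem isPullback_quot_of_isPullback_bundles
    {EXY EX EY G QXY QX QY B : Over S}
    (a₁ : EXY ⟶ EX) (a₂ : EXY ⟶ EY) (e₁ : EX ⟶ G) (e₂ : EY ⟶ G)
    (qXY : EXY ⟶ QXY) (qX : EX ⟶ QX) (qY : EY ⟶ QY) (π : G ⟶ B)
    (fX : QXY ⟶ QX) (fY : QXY ⟶ QY) (pX : QX ⟶ B) (pY : QY ⟶ B)
    (hA : IsPullback a₁ qXY qX fX) (hD : IsPullback e₂ qY π pY) (hE : IsPullback a₁ a₂ e₁ e₂)
    (hB : qXY ≫ fY = a₂ ≫ qY) (hC : qX ≫ pX = e₁ ≫ π) (hw : fX ≫ pX = fY ≫ pY)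
    (hlocXY : NonAbH1.IsLocallyTrivialFor Scheme.fpqcPrecoverage
      (Over.mk qXY.left : Over QXY.left))
    (hlocX : NonAbH1.IsLocallyTrivialFor Scheme.fpqcPrecoverage (Over.mk qX.left : Over QX.left)) :
    IsPullback fX fY pX pY := by
  have huniq : ∀ {T : Over S} (z₁ z₂ : T ⟶ QXY), z₁ ≫ fX = z₂ ≫ fX → z₁ ≫ fY = z₂ ≫ fY →
      z₁ = z₂ := by
    intro T z₁ z₂ h1 h2
    have hpb := IsPullback.of_hasPullback z₁ qXY
    have hlocT : NonAbH1.IsLocallyTrivialFor Scheme.fpqcPrecoverage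
        (Over.mk (pullback.fst z₁ qXY).left : Over T.left) :=
      isLocallyTrivialFor_of_isPullback (hpb.flip.map (Over.forget S)) hlocXY
    have hepi : Epi (pullback.fst z₁ qXY) := epi_of_locallyTrivial _ hlocT
    set t := pullback.fst z₁ qXY with ht
    set ε₁ := pullback.snd z₁ qXY with hε₁
    have hw1 : t ≫ z₁ = ε₁ ≫ qXY := hpb.w
    have hw2 : (ε₁ ≫ a₁) ≫ qX = (t ≫ z₂) ≫ fX :=
      calc (ε₁ ≫ a₁) ≫ qX = ε₁ ≫ (a₁ ≫ qX) := Category.assoc _ _ _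
        _ = ε₁ ≫ (qXY ≫ fX) := by rw [hA.w]
        _ = (ε₁ ≫ qXY) ≫ fX := (Category.assoc _ _ _).symm
        _ = (t ≫ z₁) ≫ fX := by rw [hw1]
        _ = t ≫ (z₁ ≫ fX) := Category.assoc _ _ _
        _ = t ≫ (z₂ ≫ fX) := by rw [h1]
        _ = (t ≫ z₂) ≫ fX := (Category.assoc _ _ _).symm
    have h21 : hA.lift (ε₁ ≫ a₁) (t ≫ z₂) hw2 ≫ a₁ = ε₁ ≫ a₁ := hA.lift_fst _ _ _
    have h22 : hA.lift (ε₁ ≫ a₁) (t ≫ z₂) hw2 ≫ qXY = t ≫ z₂ := hA.lift_snd _ _ _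
    have hεε : hA.lift (ε₁ ≫ a₁) (t ≫ z₂) hw2 = ε₁ := by
      apply hE.hom_ext h21
      apply hD.hom_ext
      · calc (hA.lift (ε₁ ≫ a₁) (t ≫ z₂) hw2 ≫ a₂) ≫ e₂
            = hA.lift (ε₁ ≫ a₁) (t ≫ z₂) hw2 ≫ (a₂ ≫ e₂) := Category.assoc _ _ _
          _ = hA.lift (ε₁ ≫ a₁) (t ≫ z₂) hw2 ≫ (a₁ ≫ e₁) := by rw [hE.w]
          _ = (hA.lift (ε₁ ≫ a₁) (t ≫ z₂) hw2 ≫ a₁) ≫ e₁ := (Category.assoc _ _ _).symm
          _ = (ε₁ ≫ a₁) ≫ e₁ := by rw [h21]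
          _ = ε₁ ≫ (a₁ ≫ e₁) := Category.assoc _ _ _
          _ = ε₁ ≫ (a₂ ≫ e₂) := by rw [hE.w]
          _ = (ε₁ ≫ a₂) ≫ e₂ := (Category.assoc _ _ _).symm
      · calc (hA.lift (ε₁ ≫ a₁) (t ≫ z₂) hw2 ≫ a₂) ≫ qY
            = hA.lift (ε₁ ≫ a₁) (t ≫ z₂) hw2 ≫ (a₂ ≫ qY) := Category.assoc _ _ _
          _ = hA.lift (ε₁ ≫ a₁) (t ≫ z₂) hw2 ≫ (qXY ≫ fY) := by rw [hB]
          _ = (hA.lift (ε₁ ≫ a₁) (t ≫ z₂) hw2 ≫ qXY) ≫ fY := (Category.assoc _ _ _).symm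
          _ = (t ≫ z₂) ≫ fY := by rw [h22]
          _ = t ≫ (z₂ ≫ fY) := Category.assoc _ _ _
          _ = t ≫ (z₁ ≫ fY) := by rw [h2]
          _ = (t ≫ z₁) ≫ fY := (Category.assoc _ _ _).symm
          _ = (ε₁ ≫ qXY) ≫ fY := by rw [hw1]
          _ = ε₁ ≫ (qXY ≫ fY) := Category.assoc _ _ _
          _ = ε₁ ≫ (a₂ ≫ qY) := by rw [hB]
          _ = (ε₁ ≫ a₂) ≫ qY := (Category.assoc _ _ _).symm
    rw [← cancel_epi t, hw1, ← h22, hεε]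
  apply isPullback_of_points hw
  · intro T u w huw
    have hpb := IsPullback.of_hasPullback u qX
    have hlocT : NonAbH1.IsLocallyTrivialFor Scheme.fpqcPrecoverage
        (Over.mk (pullback.fst u qX).left : Over T.left) :=
      isLocallyTrivialFor_of_isPullback (hpb.flip.map (Over.forget S)) hlocX
    have hepi : Epi (pullback.fst u qX) := epi_of_locallyTrivial _ hlocT
    set t := pullback.fst u qX with ht
    set ε := pullback.snd u qX with hε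
    have hw1 : t ≫ u = ε ≫ qX := hpb.w
    have hw2 : (ε ≫ e₁) ≫ π = (t ≫ w) ≫ pY :=
      calc (ε ≫ e₁) ≫ π = ε ≫ (e₁ ≫ π) := Category.assoc _ _ _
        _ = ε ≫ (qX ≫ pX) := by rw [hC]
        _ = (ε ≫ qX) ≫ pX := (Category.assoc _ _ _).symm
        _ = (t ≫ u) ≫ pX := by rw [hw1]
        _ = t ≫ (u ≫ pX) := Category.assoc _ _ _
        _ = t ≫ (w ≫ pY) := by rw [huw]
        _ = (t ≫ w) ≫ pY := (Category.assoc _ _ _).symm
    have hη1 : hD.lift (ε ≫ e₁) (t ≫ w) hw2 ≫ e₂ = ε ≫ e₁ := hD.lift_fst _ _ _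
    have hη2 : hD.lift (ε ≫ e₁) (t ≫ w) hw2 ≫ qY = t ≫ w := hD.lift_snd _ _ _
    have hζ1 : hE.lift ε (hD.lift (ε ≫ e₁) (t ≫ w) hw2) hη1.symm ≫ a₁ = ε := hE.lift_fst _ _ _
    have hζ2 : hE.lift ε (hD.lift (ε ≫ e₁) (t ≫ w) hw2) hη1.symm ≫ a₂ =
        hD.lift (ε ≫ e₁) (t ≫ w) hw2 := hE.lift_snd _ _ _
    set ζ := hE.lift ε (hD.lift (ε ≫ e₁) (t ≫ w) hw2) hη1.symm with hζ
    have hz1 : (ζ ≫ qXY) ≫ fX = t ≫ u :=
      calc (ζ ≫ qXY) ≫ fX = ζ ≫ (qXY ≫ fX) := Category.assoc _ _ _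
        _ = ζ ≫ (a₁ ≫ qX) := by rw [hA.w]
        _ = (ζ ≫ a₁) ≫ qX := (Category.assoc _ _ _).symm
        _ = ε ≫ qX := by rw [hζ1]
        _ = t ≫ u := hw1.symm
    have hz2 : (ζ ≫ qXY) ≫ fY = t ≫ w :=
      calc (ζ ≫ qXY) ≫ fY = ζ ≫ (qXY ≫ fY) := Category.assoc _ _ _
        _ = ζ ≫ (a₂ ≫ qY) := by rw [hB]
        _ = (ζ ≫ a₂) ≫ qY := (Category.assoc _ _ _).symm
        _ = hD.lift (ε ≫ e₁) (t ≫ w) hw2 ≫ qY := by rw [hζ2]
        _ = t ≫ w := hη2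
    obtain ⟨z, hz, -⟩ := existsUnique_desc_over_of_locallyTrivial t hlocT (ζ ≫ qXY) (by
      intro Z z₁ z₂ h12
      apply huniq
      · calc (z₁ ≫ ζ ≫ qXY) ≫ fX = z₁ ≫ ((ζ ≫ qXY) ≫ fX) := Category.assoc _ _ _
          _ = z₁ ≫ (t ≫ u) := by rw [hz1]
          _ = (z₁ ≫ t) ≫ u := (Category.assoc _ _ _).symm
          _ = (z₂ ≫ t) ≫ u := by rw [h12]
          _ = z₂ ≫ (t ≫ u) := Category.assoc _ _ _
          _ = z₂ ≫ ((ζ ≫ qXY) ≫ fX) := by rw [hz1]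
          _ = (z₂ ≫ ζ ≫ qXY) ≫ fX := (Category.assoc _ _ _).symm
      · calc (z₁ ≫ ζ ≫ qXY) ≫ fY = z₁ ≫ ((ζ ≫ qXY) ≫ fY) := Category.assoc _ _ _
          _ = z₁ ≫ (t ≫ w) := by rw [hz2]
          _ = (z₁ ≫ t) ≫ w := (Category.assoc _ _ _).symm
          _ = (z₂ ≫ t) ≫ w := by rw [h12]
          _ = z₂ ≫ (t ≫ w) := Category.assoc _ _ _
          _ = z₂ ≫ ((ζ ≫ qXY) ≫ fY) := by rw [hz2]
          _ = (z₂ ≫ ζ ≫ qXY) ≫ fY := (Category.assoc _ _ _).symm)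
    refine ⟨z, ?_, ?_⟩
    · rw [← cancel_epi t, ← Category.assoc, hz, hz1]
    · rw [← cancel_epi t, ← Category.assoc, hz, hz2]
  · intro T p p' h1 h2
    exact huniq p p' h1 h2

/-- `G × (X × Y) = (G × X) ×_G (G × Y)`. -/
lemma isPullback_whiskerLeft_fst_snd (G X Y : Over S) :
    IsPullback (G ◁ fst X Y) (G ◁ snd X Y) (fst G X) (fst G Y) := by
  apply isPullback_of_points
  · rw [whiskerLeft_fst, whiskerLeft_fst]
  · intro T p p' hpp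
    refine ⟨lift (p ≫ fst G X) (lift (p ≫ snd G X) (p' ≫ snd G Y)), ?_, ?_⟩
    · apply CartesianMonoidalCategory.hom_ext
      · rw [Category.assoc, whiskerLeft_fst, lift_fst]
      · rw [Category.assoc, whiskerLeft_snd, ← Category.assoc, lift_snd, lift_fst]
    · apply CartesianMonoidalCategory.hom_ext
      · rw [Category.assoc, whiskerLeft_fst, lift_fst, hpp]
      · rw [Category.assoc, whiskerLeft_snd, ← Category.assoc, lift_snd, lift_snd]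
  · intro T p p' h1 h2
    apply CartesianMonoidalCategory.hom_ext
    · have := congr($h1 ≫ fst G X)
      simpa using this
    · apply CartesianMonoidalCategory.hom_ext
      · have := congr($h1 ≫ snd G X)
        simpa using this
      · have := congr($h2 ≫ snd G Y)
        simpa using this

end Groth.Agent.H40
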