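import Groth.Agent.H40.ActPts
import Groth.Agent.H40.Torsor

set_option autoImplicit false
universe u

open CategoryTheory MonoidalCategory CartesianMonoidalCategory MonObj AlgebraicGeometry

namespace Groth.Agent.H40

variable {S : Scheme.{u}} {G X : Over S} [GrpObj G]

/-- if `X` is trivialised over `T` by a point `s`, then the shear map of `X` becomes an isomorphism
over `T`. -/
theorem isIso_shear_whiskerRight_of_trivialization (a : AlgGrp.Action G X) {T : Over S} (s : T ⟶ X)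
    [IsIso (lift ((G ◁ s) ≫ a.act) (snd G T))] : IsIso ((lift a.act (snd G X)) ▷ T) := by
  set Ψ := lift ((G ◁ s) ≫ a.act) (snd G T) with hΨ
  set Φ := lift a.act (snd G X) with hΦ
  let γ : X ⊗ T ⟶ G := inv Ψ ≫ fst G T
  have Ψpt : ∀ {W : Over S} (h : W ⟶ G) (t : W ⟶ T),
      lift h t ≫ Ψ = lift (psmul a h (t ≫ s)) t := by
    intro W h t
    apply CartesianMonoidalCategory.hom_ext
    · rw [Category.assoc, hΨ, lift_fst, lift_fst, psmul_def, ← Category.assoc]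
      congr 1
      apply CartesianMonoidalCategory.hom_ext <;> simp
    · simp [hΨ]
  have F3 : ∀ {W : Over S} (h : W ⟶ G) (t : W ⟶ T), lift (psmul a h (t ≫ s)) t ≫ γ = h := by
    intro W h t
    rw [← Ψpt]
    show (lift h t ≫ Ψ) ≫ inv Ψ ≫ fst G T = h
    rw [Category.assoc, IsIso.hom_inv_id_assoc, lift_fst]
  have hsndinv : inv Ψ ≫ snd G T = snd X T := by
    rw [IsIso.inv_comp_eq]
    simp [hΨ]
  have F1 : inv Ψ = lift γ (snd X T) := by
    apply CartesianMonoidalCategory.hom_ext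
    · simp [γ]
    · simp [hsndinv]
  have F2 : ∀ {W : Over S} (x : W ⟶ X) (t : W ⟶ T), psmul a (lift x t ≫ γ) (t ≫ s) = x := by
    intro W x t
    have h1 : (lift x t ≫ inv Ψ) ≫ Ψ = lift x t := by
      rw [Category.assoc, IsIso.inv_hom_id, Category.comp_id]
    have h2 : lift x t ≫ inv Ψ = lift (lift x t ≫ γ) t := by
      rw [F1, comp_lift, lift_snd]
    rw [h2, Ψpt] at h1
    have h3 := congrArg (· ≫ fst X T) h1
    simpa using h3
  let p₁ : (X ⊗ X) ⊗ T ⟶ X := fst _ T ≫ fst X X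
  let p₂ : (X ⊗ X) ⊗ T ⟶ X := fst _ T ≫ snd X X
  let t' : (X ⊗ X) ⊗ T ⟶ T := snd _ T
  let g₁ : (X ⊗ X) ⊗ T ⟶ G := lift p₁ t' ≫ γ
  let g₂ : (X ⊗ X) ⊗ T ⟶ G := lift p₂ t' ≫ γ
  have hfstΦ : Φ ≫ fst X X = a.act := by simp [hΦ]
  have hsndΦ : Φ ≫ snd X X = snd G X := by simp [hΦ]
  refine ⟨lift (lift (g₁ * g₂⁻¹) p₂) t', ?_, ?_⟩
  · -- on `(G ⊗ X) ⊗ T`
    let g : (G ⊗ X) ⊗ T ⟶ G := fst _ T ≫ fst G X
    let x : (G ⊗ X) ⊗ T ⟶ X := fst _ T ≫ snd G X
    let t : (G ⊗ X) ⊗ T ⟶ T := snd _ T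
    have hgx : lift g x = fst (G ⊗ X) T := by
      apply CartesianMonoidalCategory.hom_ext <;> simp [g, x]
    have e1 : (Φ ▷ T) ≫ p₁ = psmul a g x := by
      show (Φ ▷ T) ≫ fst _ T ≫ fst X X = _
      rw [← Category.assoc, whiskerRight_fst, Category.assoc, hfstΦ, psmul_def, hgx]
    have e2 : (Φ ▷ T) ≫ p₂ = x := by
      show (Φ ▷ T) ≫ fst _ T ≫ snd X X = _
      rw [← Category.assoc, whiskerRight_fst, Category.assoc, hsndΦ]
    have e3 : (Φ ▷ T) ≫ t' = t := by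
      show (Φ ▷ T) ≫ snd _ T = _
      rw [whiskerRight_snd]
    have e4 : (Φ ▷ T) ≫ g₂ = lift x t ≫ γ := by
      show (Φ ▷ T) ≫ lift p₂ t' ≫ γ = _
      rw [← Category.assoc, comp_lift, e2, e3]
    have e5 : (Φ ▷ T) ≫ g₁ = g * (lift x t ≫ γ) := by
      show (Φ ▷ T) ≫ lift p₁ t' ≫ γ = _
      rw [← Category.assoc, comp_lift, e1, e3]
      have h4 : psmul a (g * (lift x t ≫ γ)) (t ≫ s) = psmul a g x := by
        rw [mul_psmul, F2]
      rw [← h4, F3]
    have e6 : (Φ ▷ T) ≫ (g₁ * g₂⁻¹) = g := by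
      rw [MonObj.comp_mul, GrpObj.comp_inv, e5, e4, mul_inv_cancel_right]
    apply CartesianMonoidalCategory.hom_ext
    · rw [Category.assoc, lift_fst, Category.id_comp, comp_lift, e6, e2, hgx]
    · rw [Category.assoc, lift_snd, Category.id_comp, e3]
  · -- on `(X ⊗ X) ⊗ T`
    have k1 : psmul a (g₁ * g₂⁻¹) p₂ = p₁ := by
      have hp₂ : p₂ = psmul a g₂ (t' ≫ s) := (F2 p₂ t').symm
      have hp₁ : psmul a g₁ (t' ≫ s) = p₁ := F2 p₁ t'
      conv_lhs => rw [hp₂]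
      rw [← mul_psmul, inv_mul_cancel_right, hp₁]
    have hp : lift p₁ p₂ = fst (X ⊗ X) T := by
      apply CartesianMonoidalCategory.hom_ext <;> simp [p₁, p₂]
    apply CartesianMonoidalCategory.hom_ext
    · rw [Category.assoc, whiskerRight_fst, ← Category.assoc, lift_fst, Category.id_comp, ← hp]
      apply CartesianMonoidalCategory.hom_ext
      · rw [Category.assoc, hfstΦ, lift_fst, ← psmul_def, k1]
      · rw [Category.assoc, hsndΦ, lift_snd, lift_snd]
    · rw [Category.assoc, whiskerRight_snd, lift_snd, Category.id_comp]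

end Groth.Agent.H40
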